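import Cfsg.Agent.Lib.Spor.JTwoType.Disc.Plane

/-!
# The homocyclic subgroup of order sixteen

The rotated elements of order four generate an abelian subgroup containing the four-group which no element of `T`
inverts and which is its own centralizer in `T`.
-/

set_option autoImplicit false
set_option linter.unusedSectionVars false
set_option linter.style.haveILetI false

namespace Cfsg.Agent.Spor.JTwoType.Disc

open Subgroup

namespace Conf

variable {G : Type*} [Group G] [Finite G] {c : Conf G} {q r : G}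

theorem Tri.T1 (d : c.Tri q r) : r * q * r⁻¹ ∈ c.T := d.rot.T_r d.cent.mem

theorem Tri.T2 (d : c.Tri q r) : r⁻¹ * q * r ∈ c.T := d.rot.T_r' d.cent.mem

theorem Tri.sq1 (d : c.Tri q r) : r * q * r⁻¹ * (r * q * r⁻¹) = c.u := by
  rw [show r * q * r⁻¹ * (r * q * r⁻¹) = r * (q * q) * r⁻¹ by group, d.cent.sq, d.rot.cz]

theorem Tri.sq2 (d : c.Tri q r) : r⁻¹ * q * r * (r⁻¹ * q * r) = c.u * c.z := by
  rw [show r⁻¹ * q * r * (r⁻¹ * q * r) = r⁻¹ * (q * q) * r by group, d.cent.sq, d.rot.cz']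

theorem Tri.cx1 (d : c.Tri q r) : c.cx (r * q * r⁻¹) = r⁻¹ * q * r := by rw [d.rot.cx_r, d.cent.fixed]

theorem Tri.cx2 (d : c.Tri q r) : c.cx (r⁻¹ * q * r) = r * q * r⁻¹ := by rw [d.rot.cx_r', d.cent.fixed]

theorem Tri.rr (d : c.Tri q r) :
    ∃ g, c.InU g ∧ r * (r * q * r⁻¹) * r⁻¹ = r * q * r⁻¹ * q * g := by
  have h := d.rot.inU d.rel
  set f := r * (q⁻¹ * (r * q * r⁻¹) * (r⁻¹ * q * r)) * r⁻¹ with hf
  refine ⟨f * c.z, h.mul c.inU_z, ?_⟩
  calc r * (r * q * r⁻¹) * r⁻¹ = r * q * r⁻¹ * (f * q⁻¹) := by rw [hf]; group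
    _ = r * q * r⁻¹ * (q⁻¹ * f) := by rw [← h.comm (c.T.inv_mem d.cent.mem)]
    _ = r * q * r⁻¹ * (q * (c.z * f)) := by rw [d.cent.inv, mul_assoc q]
    _ = _ := by rw [← c.zc f (c.T_le h.mem)]; group

theorem Tri.comm01 (d : c.Tri q r) : Commute q (r * q * r⁻¹) := by
  obtain ⟨g, hg, hrr⟩ := d.rr
  set q1 := r * q * r⁻¹
  set e := q * q1 * q⁻¹ * q1⁻¹ with he_def
  have heq : e = (q1 * q * q1⁻¹ * q⁻¹)⁻¹ := by rw [he_def]; group
  have he' : c.InU (q1 * q * q1⁻¹ * q⁻¹) := d.cent.comm q1 d.T1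
  have he : c.InU e := by rw [heq, he'.inv]; exact he'
  have h1 : r * e * r⁻¹ = e := by
    calc r * e * r⁻¹ = q1 * (r * q1 * r⁻¹) * q1⁻¹ * (r * q1 * r⁻¹)⁻¹ := by rw [he_def]; simp only [q1]; group
      _ = q1 * (q1 * q * (g * q1⁻¹ * g⁻¹)) * q⁻¹ * q1⁻¹ := by rw [hrr]; group
      _ = q1 * (q1 * q * q1⁻¹ * q⁻¹) * q1⁻¹ := by
        rw [← hg.comm (c.T.inv_mem d.T1), mul_inv_cancel_right]; simp only [q1]; group
      _ = q1 * q * q1⁻¹ * q⁻¹ := by rw [he'.comm d.T1, mul_inv_cancel_right]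
      _ = e := by rw [heq, he'.inv]
  have := d.rot.fix_inU he h1
  rw [he_def, mul_inv_eq_one, mul_inv_eq_iff_eq_mul] at this
  exact this

theorem Tri.prod (d : c.Tri q r) : Commute (r * q * r⁻¹) (r⁻¹ * q * r) ∧
    (r * q * r⁻¹ * (r⁻¹ * q * r) = q ∨ r * q * r⁻¹ * (r⁻¹ * q * r) = q * c.z) := by
  set q1 := r * q * r⁻¹
  set q2 := r⁻¹ * q * r
  set f := q⁻¹ * q1 * q2 with hf_def
  have hf : c.InU f := d.rel
  have e : q1 * q2 = q * f := by rw [hf_def]; group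
  have e2 : q2 = q1⁻¹ * (q * f) := by rw [← e, inv_mul_cancel_left]
  have hc : Commute q1 q2 := by
    rw [e2]
    exact (Commute.refl q1).inv_right.mul_right (d.comm01.symm.mul_right (hf.comm d.T1))
  refine ⟨hc, ?_⟩
  have h := congrArg c.cx e
  rw [map_mul c.cx q1 q2, map_mul c.cx q, d.cx1, d.cx2, d.cent.fixed, ← hc.eq, e, mul_right_inj] at h
  rcases hf.cx_eq h.symm with r | r
  · exact Or.inl (by rw [e, r, mul_one])
  · exact Or.inr (by rw [e, r])

/-- Membership in the abelian subgroup. -/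
def InA (q r a : G) : Prop := ∃ i j : ℤ, a = (r * q * r⁻¹) ^ i * (r⁻¹ * q * r) ^ j

theorem InA.one : InA q r (1 : G) := ⟨0, 0, by simp⟩

theorem InA.mul (d : c.Tri q r) {a b : G} (ha : InA q r a) (hb : InA q r b) : InA q r (a * b) := by
  obtain ⟨i, j, rfl⟩ := ha
  obtain ⟨i', j', rfl⟩ := hb
  refine ⟨i + i', j + j', ?_⟩
  rw [zpow_add, zpow_add]
  exact Commute.mul_mul_mul_comm (d.prod.1.symm.zpow_zpow j i') _ _

theorem InA.inv (d : c.Tri q r) {a : G} (ha : InA q r a) : InA q r a⁻¹ := by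
  obtain ⟨i, j, rfl⟩ := ha
  refine ⟨-i, -j, ?_⟩
  rw [mul_inv_rev, zpow_neg, zpow_neg]
  exact ((d.prod.1.zpow_zpow i j).inv_inv).eq.symm

theorem InA.zpow (d : c.Tri q r) {a : G} (ha : InA q r a) : ∀ k : ℤ, InA q r (a ^ k)
  | Int.ofNat n => by
    induction n with
    | zero => simpa using InA.one
    | succ n ih =>
      simp only [Int.ofNat_eq_natCast, zpow_natCast] at ih ⊢
      rw [pow_succ]; exact ih.mul d ha
  | Int.negSucc n => by
    rw [zpow_negSucc]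
    refine InA.inv d ?_
    induction n with
    | zero => rw [zero_add, pow_one]; exact ha
    | succ n ih => rw [pow_succ]; exact ih.mul d ha

theorem Tri.A1 (_d : c.Tri q r) : InA q r (r * q * r⁻¹) := ⟨1, 0, by simp⟩

theorem Tri.A2 (_d : c.Tri q r) : InA q r (r⁻¹ * q * r) := ⟨0, 1, by simp⟩

theorem Tri.AU (d : c.Tri q r) {e : G} (he : c.InU e) : InA q r e := by
  have hu : InA q r c.u := d.sq1 ▸ d.A1.mul d d.A1
  have huz : InA q r (c.u * c.z) := d.sq2 ▸ d.A2.mul d d.A2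
  rcases he with rfl | rfl | rfl | rfl
  · exact InA.one
  · have := hu.mul d huz
    rwa [← mul_assoc, c.u2, one_mul] at this
  · exact hu
  · exact huz

theorem Tri.A0 (d : c.Tri q r) : InA q r q := by
  rcases d.prod.2 with h | h
  · have := d.A1.mul d d.A2
    rwa [h] at this
  · have := (d.A1.mul d d.A2).mul d (d.AU c.inU_z)
    rwa [h, mul_assoc, c.z2, mul_one] at this

theorem InA.mem (d : c.Tri q r) {a : G} (ha : InA q r a) : a ∈ c.T := by
  obtain ⟨i, j, rfl⟩ := ha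
  exact c.T.mul_mem (c.T.zpow_mem d.T1 i) (c.T.zpow_mem d.T2 j)

theorem InA.comm (d : c.Tri q r) {a b : G} (ha : InA q r a) (hb : InA q r b) : Commute a b := by
  obtain ⟨i, j, rfl⟩ := ha
  obtain ⟨i', j', rfl⟩ := hb
  exact (((Commute.refl _).zpow_zpow i i').mul_right (d.prod.1.zpow_zpow i j')).mul_left
    ((d.prod.1.symm.zpow_zpow j i').mul_right ((Commute.refl _).zpow_zpow j j'))

theorem InA.rot (d : c.Tri q r) {a : G} (ha : InA q r a) : InA q r (r * a * r⁻¹) := by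
  obtain ⟨i, j, rfl⟩ := ha
  obtain ⟨g, hg, hrr⟩ := d.rr
  rw [show r * ((r * q * r⁻¹) ^ i * (r⁻¹ * q * r) ^ j) * r⁻¹
    = (r * (r * q * r⁻¹) ^ i * r⁻¹) * (r * (r⁻¹ * q * r) ^ j * r⁻¹) by group, ← conj_zpow, ← conj_zpow,
    show r * (r⁻¹ * q * r) * r⁻¹ = q by group, hrr]
  exact (((d.A1.mul d d.A0).mul d (d.AU hg)).zpow d i).mul d (d.A0.zpow d j)

theorem InA.cx (d : c.Tri q r) {a : G} (ha : InA q r a) : InA q r (c.cx a) := by
  obtain ⟨i, j, rfl⟩ := ha
  rw [map_mul, map_zpow, map_zpow, d.cx1, d.cx2]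
  exact (d.A2.zpow d i).mul d (d.A1.zpow d j)

theorem InA.rot' (d : c.Tri q r) {a : G} (ha : InA q r a) : InA q r (r⁻¹ * a * r) := by
  have := ((ha.cx d).rot d).cx d
  rwa [d.rot.cx_r, c.cx_cx] at this

/-- An element of the abelian subgroup modulo the four-group. -/
theorem InA.four (d : c.Tri q r) {a : G} (ha : InA q r a) :
    ∃ e, c.InU e ∧ (a = e ∨ a = e * (r * q * r⁻¹) ∨ a = e * (r⁻¹ * q * r) ∨ a = e * q) := by
  obtain ⟨i, j, rfl⟩ := ha
  have key : ∀ (y w : G), y * y = w → c.InU w → ∀ k : ℤ, ∃ e, c.InU e ∧ (y ^ k = e ∨ y ^ k = e * y) := by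
    intro y w hy hw k
    have h2 : ∀ l : ℤ, c.InU (y ^ (2 * l)) := fun l => by
      rw [zpow_mul, zpow_two, hy]
      rcases Int.even_or_odd l with ⟨n, rfl⟩ | ⟨n, rfl⟩
      · rw [← two_mul, zpow_mul, zpow_two, hw.sq, one_zpow]; exact c.inU_one
      · rw [zpow_add_one, zpow_mul, zpow_two, hw.sq, one_zpow, one_mul]; exact hw
    rcases Int.even_or_odd k with ⟨n, rfl⟩ | ⟨n, rfl⟩
    · exact ⟨_, by rw [← two_mul]; exact h2 n, Or.inl rfl⟩
    · exact ⟨_, h2 n, Or.inr (zpow_add_one y (2 * n))⟩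
  obtain ⟨e1, h1, k1⟩ := key _ _ d.sq1 c.inU_u i
  obtain ⟨e2, h2, k2⟩ := key _ _ d.sq2 c.inU_uz j
  rcases k1 with k1 | k1 <;> rcases k2 with k2 | k2 <;> rw [k1, k2]
  · exact ⟨_, h1.mul h2, Or.inl rfl⟩
  · exact ⟨_, h1.mul h2, Or.inr (Or.inr (Or.inl (mul_assoc _ _ _).symm))⟩
  · exact ⟨_, h1.mul h2, Or.inr (Or.inl (by rw [mul_assoc e1, h2.comm d.T1, ← mul_assoc e1]))⟩
  · have e : e1 * (r * q * r⁻¹) * (e2 * (r⁻¹ * q * r)) = e1 * e2 * (r * q * r⁻¹ * (r⁻¹ * q * r)) := by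
      rw [mul_assoc e1, ← mul_assoc (r * q * r⁻¹) e2, h2.comm d.T1]; simp only [mul_assoc]
    rcases d.prod.2 with k | k
    · exact ⟨_, h1.mul h2, Or.inr (Or.inr (Or.inr (by rw [e, k])))⟩
    · refine ⟨_, (h1.mul h2).mul c.inU_z, Or.inr (Or.inr (Or.inr ?_))⟩
      rw [e, k, c.zc q (c.T_le d.cent.mem)]
      simp only [mul_assoc]

theorem InA.sq_U (d : c.Tri q r) {a : G} (ha : InA q r a) : c.InU (a * a) := by
  obtain ⟨e, he, h⟩ := ha.four d
  have key : ∀ y w, y ∈ c.T → y * y = w → c.InU w → c.InU (e * y * (e * y)) := fun y w hyT hy hw => by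
    rw [mul_assoc, ← mul_assoc y, he.comm hyT, mul_assoc e y y, ← mul_assoc, he.sq, one_mul, hy]; exact hw
  rcases h with rfl | rfl | rfl | rfl
  · rw [he.sq]; exact c.inU_one
  exacts [key _ _ d.T1 d.sq1 c.inU_u, key _ _ d.T2 d.sq2 c.inU_uz, key _ _ d.cent.mem d.cent.sq c.inU_z]

theorem InA.inv4 (d : c.Tri q r) {a : G} (ha : InA q r a) : a⁻¹ = a * (a * a) :=
  inv_eq_of_mul_eq_one_right (by rw [← mul_assoc, (ha.sq_U d).sq])

theorem InA.inU_of_sq (d : c.Tri q r) {a : G} (ha : InA q r a) (h2 : a * a = 1) : c.InU a := by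
  obtain ⟨e, he, h⟩ := ha.four d
  have key : ∀ y w, y ∈ c.T → y * y = w → w ≠ 1 → a ≠ e * y := fun y w hyT hy hw r => hw (by
    rw [r, mul_assoc, ← mul_assoc y, he.comm hyT, mul_assoc e y y, ← mul_assoc, he.sq, one_mul, hy] at h2
    exact h2)
  rcases h with h | h | h | h
  exacts [h ▸ he, absurd h (key _ _ d.T1 d.sq1 c.u1), absurd h (key _ _ d.T2 d.sq2 c.uz1),
    absurd h (key _ _ d.cent.mem d.cent.sq c.z1)]

/-- An involution outside the four-group centralizes nothing in the abelian subgroup outside it. -/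
theorem InA.inU_of_comm (d : c.Tri q r) {a t : G} (ha : InA q r a) (ht : c.IsT t) (hc : Commute t a) :
    c.InU a := by
  obtain ⟨e, he, h⟩ := ha.four d
  have h1 : ¬ Commute t (r * q * r⁻¹) := fun k => d.cent.noc (d.rot.isT' ht) (by
    have := congrArg (fun y => r⁻¹ * y * r) k.eq
    simpa [mul_assoc] using this)
  have h2 : ¬ Commute t (r⁻¹ * q * r) := fun k => d.cent.noc (d.rot.isT ht) (by
    have := congrArg (fun y => r * y * r⁻¹) k.eq
    simpa [mul_assoc] using this)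
  have hte : Commute t e := he.comm ht.1
  have key : ∀ y, a = e * y → Commute t y := fun y k => by
    have := hte.inv_right.mul_right hc
    rwa [k, inv_mul_cancel_left] at this
  rcases h with h | h | h | h
  exacts [h ▸ he, absurd (key _ h) h1, absurd (key _ h) h2, absurd (key _ h).eq (d.cent.noc ht)]

theorem InA.anti (d : c.Tri q r) {a : G} (ha : InA q r a) (h : c.cx a = a⁻¹) :
    ∃ b, InA q r b ∧ a = b * (c.cx b)⁻¹ := by
  obtain ⟨i, j, rfl⟩ := ha
  set q1 := r * q * r⁻¹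
  set q2 := r⁻¹ * q * r
  have hc : Commute q1 q2 := d.prod.1
  rw [map_mul, map_zpow, map_zpow, d.cx1, d.cx2, mul_inv_rev, ← inv_mul_eq_one] at h
  have h' : (q1 * q2) ^ (i + j) = 1 := by
    have e : q2 ^ i * q1 ^ j = ((q2 ^ j)⁻¹ * (q1 ^ i)⁻¹) := by
      rw [inv_mul_eq_one] at h; exact h
    rw [hc.mul_zpow, zpow_add, zpow_add q2]
    calc q1 ^ i * q1 ^ j * (q2 ^ i * q2 ^ j) = q1 ^ i * ((q1 ^ j * q2 ^ i) * q2 ^ j) := by simp only [mul_assoc]
      _ = q1 ^ i * ((q2 ^ i * q1 ^ j) * q2 ^ j) := by rw [(hc.zpow_zpow j i).eq]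
      _ = q1 ^ i * (((q2 ^ j)⁻¹ * (q1 ^ i)⁻¹) * q2 ^ j) := by rw [e]
      _ = 1 := by
        rw [← (hc.zpow_zpow i j).inv_inv.eq, mul_assoc, inv_mul_cancel, mul_one, mul_inv_cancel]
  have ho : orderOf (q1 * q2) = 4 := by
    haveI : Fact (Nat.Prime 2) := ⟨Nat.prime_two⟩
    have hs : q1 * q2 * (q1 * q2) = c.z := by
      rw [hc.symm.mul_mul_mul_comm, d.sq1, d.sq2, ← mul_assoc, c.u2, one_mul]
    refine orderOf_eq_prime_pow (n := 1) (p := 2) ?_ ?_
    · rw [pow_one, pow_two, hs]; exact c.z1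
    · rw [show (2 : ℕ) ^ (1 + 1) = 2 * 2 by norm_num, pow_mul, pow_two (q1 * q2), hs, pow_two, c.z2]
  have h4 : (4 : ℤ) ∣ i + j := by
    have := orderOf_dvd_iff_zpow_eq_one.2 h'
    rw [ho] at this
    exact_mod_cast this
  refine ⟨q1 ^ i, (d.A1).zpow d i, ?_⟩
  rw [map_zpow, d.cx1, mul_right_inj, ← mul_inv_eq_one, inv_inv, ← zpow_add, add_comm j i]
  obtain ⟨m, hm⟩ := h4
  rw [hm, zpow_mul, show q2 ^ (4 : ℤ) = (q2 * q2) * (q2 * q2) by simp [pow_succ, mul_assoc, zpow_ofNat], d.sq2, c.inU_uz.sq, one_zpow]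

/-- The centralizer of the abelian subgroup in `T`. -/
def InC (c : Conf G) (q r g : G) : Prop := g ∈ c.T ∧ g * q = q * g ∧ g * (r * q * r⁻¹) = r * q * r⁻¹ * g

theorem InA.inC (d : c.Tri q r) {a : G} (ha : InA q r a) : c.InC q r a :=
  ⟨ha.mem d, (ha.comm d d.A0).eq, (ha.comm d d.A1).eq⟩

theorem InC.comm (d : c.Tri q r) {g a : G} (hg : c.InC q r g) (ha : InA q r a) : Commute g a := by
  have hgT := hg.1
  obtain ⟨-, h0, h1⟩ := hg
  have h0' : Commute g q := h0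
  have h1' : Commute g (r * q * r⁻¹) := h1
  have h2 : Commute g (r⁻¹ * q * r) := by
    have e : r⁻¹ * q * r = (r * q * r⁻¹)⁻¹ * (r * q * r⁻¹ * (r⁻¹ * q * r)) := (inv_mul_cancel_left _ _).symm
    rw [e]
    refine h1'.inv_right.mul_right ?_
    rcases d.prod.2 with k | k <;> rw [k]
    · exact h0'
    · exact h0'.mul_right (c.zc g (c.T_le hgT))
  obtain ⟨i, j, rfl⟩ := ha
  exact (h1'.zpow_right i).mul_right (h2.zpow_right j)

theorem InC.mul {g h : G} (hg : c.InC q r g) (hh : c.InC q r h) : c.InC q r (g * h) :=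
  ⟨c.T.mul_mem hg.1 hh.1, ((show Commute g q from hg.2.1).mul_left hh.2.1).eq,
    ((show Commute g _ from hg.2.2).mul_left hh.2.2).eq⟩

theorem InC.inv {g : G} (hg : c.InC q r g) : c.InC q r g⁻¹ :=
  ⟨c.T.inv_mem hg.1, (show Commute g q from hg.2.1).inv_left.eq, (show Commute g _ from hg.2.2).inv_left.eq⟩

theorem InC.rot (d : c.Tri q r) {g : G} (hg : c.InC q r g) : c.InC q r (r * g * r⁻¹) := by
  have key : ∀ a, InA q r a → r * g * r⁻¹ * a = a * (r * g * r⁻¹) := fun a ha => by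
    have := congrArg (fun y => r * y * r⁻¹) (hg.comm d (ha.rot' d)).eq
    simpa [mul_assoc] using this
  exact ⟨d.rot.T_r hg.1, key _ d.A0, key _ d.A1⟩

theorem InC.inU (d : c.Tri q r) {g : G} (hg : c.InC q r g) (h2 : g * g = 1) : c.InU g :=
  d.cent.inU_of_comm hg.1 hg.2.1 h2

theorem InC.fixed_one (d : c.Tri q r) {g : G} (hg : c.InC q r g) (hf : r * g * r⁻¹ = g) : g = 1 := by
  haveI : Fact (Nat.Prime 2) := ⟨Nat.prime_two⟩
  obtain ⟨k, hk⟩ := (IsPGroup.iff_orderOf.1 c.S.isPGroup') ⟨g, c.T_le hg.1⟩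
  rw [← Subgroup.orderOf_coe] at hk
  rcases k with _ | k
  · exact orderOf_eq_one_iff.1 hk
  exfalso
  set v := g ^ 2 ^ k with hv
  have hv1 : v ≠ 1 := fun e => by
    have := orderOf_dvd_of_pow_eq_one e
    change orderOf g = 2 ^ (k + 1) at hk
    rw [hk] at this
    exact absurd (Nat.le_of_dvd (by positivity) this) (by rw [pow_succ]; have := Nat.two_pow_pos k; omega)
  have hv2 : v * v = 1 := by
    change orderOf g = 2 ^ (k + 1) at hk
    rw [hv, ← pow_add, ← two_mul, mul_comm, ← pow_succ, ← hk, pow_orderOf_eq_one]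
  have hvC : c.InC q r v := ⟨c.T.pow_mem hg.1 _, ((show Commute g q from hg.2.1).pow_left _).eq,
    ((show Commute g _ from hg.2.2).pow_left _).eq⟩
  exact hv1 (d.rot.fix_inU (hvC.inU d hv2) (by rw [hv, ← conj_pow, hf]))

/-- No element of `T` inverts the abelian subgroup. -/
theorem Tri.inv_false (d : c.Tri q r) {τ : G} (hτ : τ ∈ c.T) (h0 : τ * q * τ⁻¹ = q⁻¹)
    (h1 : τ * (r * q * r⁻¹) * τ⁻¹ = (r * q * r⁻¹)⁻¹) : False := by
  classical
  haveI : Fact (Nat.Prime 2) := ⟨Nat.prime_two⟩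
  haveI : Fact (Nat.Prime 3) := ⟨Nat.prime_three⟩
  let Y := {y : G // y ∈ c.T ∧ y * q * y⁻¹ = q⁻¹ ∧ y * (r * q * r⁻¹) * y⁻¹ = (r * q * r⁻¹)⁻¹}
  have hA : ∀ {y : G}, y ∈ c.T → y * q * y⁻¹ = q⁻¹ → y * (r * q * r⁻¹) * y⁻¹ = (r * q * r⁻¹)⁻¹ →
      ∀ a, InA q r a → y * a * y⁻¹ = a⁻¹ := by
    intro y hy e0 e1
    have e2 : y * (r⁻¹ * q * r) * y⁻¹ = (r⁻¹ * q * r)⁻¹ := by
      obtain ⟨hc, hp⟩ := d.prod
      have e : r⁻¹ * q * r = (r * q * r⁻¹)⁻¹ * (r * q * r⁻¹ * (r⁻¹ * q * r)) := (inv_mul_cancel_left _ _).symm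
      have hz : y * c.z * y⁻¹ = c.z⁻¹ := by rw [c.zc y (c.T_le hy), mul_inv_cancel_right, c.zi]
      have hmul : ∀ a b, y * a * y⁻¹ = a⁻¹ → y * b * y⁻¹ = b⁻¹ → Commute a b → y * (a * b) * y⁻¹ = (a * b)⁻¹ :=
        fun a b ha hb hab => by
          rw [show y * (a * b) * y⁻¹ = (y * a * y⁻¹) * (y * b * y⁻¹) by group, ha, hb, hab.eq, mul_inv_rev]
      have h12 : y * (r * q * r⁻¹ * (r⁻¹ * q * r)) * y⁻¹ = (r * q * r⁻¹ * (r⁻¹ * q * r))⁻¹ := by
        rcases hp with k | k <;> rw [k]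
        · exact e0
        · exact hmul _ _ e0 hz (c.zc q (c.T_le d.cent.mem))
      have h11 : y * (r * q * r⁻¹)⁻¹ * y⁻¹ = (r * q * r⁻¹)⁻¹⁻¹ := by rw [← conj_inv, e1]
      rw [e]
      exact hmul _ _ h11 h12 (d.A1.inv d |>.comm d (d.A1.mul d d.A2))
    intro a ha
    obtain ⟨i, j, rfl⟩ := ha
    rw [show y * ((r * q * r⁻¹) ^ i * (r⁻¹ * q * r) ^ j) * y⁻¹ =
      (y * (r * q * r⁻¹) ^ i * y⁻¹) * (y * (r⁻¹ * q * r) ^ j * y⁻¹) by group, ← conj_zpow, ← conj_zpow, e1, e2,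
      inv_zpow, inv_zpow, mul_inv_rev]
    exact (d.prod.1.zpow_zpow i j).inv_inv.eq
  have hR : ∀ y : Y, r * (y : G) * r⁻¹ ∈ c.T ∧ r * (y : G) * r⁻¹ * q * (r * (y : G) * r⁻¹)⁻¹ = q⁻¹ ∧
      r * (y : G) * r⁻¹ * (r * q * r⁻¹) * (r * (y : G) * r⁻¹)⁻¹ = (r * q * r⁻¹)⁻¹ := fun y => by
    have key : ∀ a, InA q r a → r * (y : G) * r⁻¹ * a * (r * (y : G) * r⁻¹)⁻¹ = a⁻¹ := fun a ha => by
      have h := hA y.2.1 y.2.2.1 y.2.2.2 _ (ha.rot' d)
      rw [show r * (y : G) * r⁻¹ * a * (r * (y : G) * r⁻¹)⁻¹ = r * ((y : G) * (r⁻¹ * a * r) * (y : G)⁻¹) * r⁻¹ by group, h]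
      group
    exact ⟨d.rot.T_r y.2.1, key _ d.A0, key _ d.A1⟩
  let σ : Equiv.Perm Y := Equiv.ofBijective (fun y => (⟨_, hR y⟩ : Y))
    (Finite.injective_iff_bijective.1 fun a b h => Subtype.ext
      (mul_left_cancel (mul_right_cancel (congrArg Subtype.val h))))
  have hpow : ∀ (n : ℕ) (y : Y), (((σ ^ n) y : Y) : G) = r ^ n * y * (r ^ n)⁻¹ := by
    intro n
    induction n with
    | zero => intro y; simp
    | succ n ih =>
      intro y
      rw [pow_succ', Equiv.Perm.mul_apply, pow_succ']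
      show r * (((σ ^ n) y : Y) : G) * r⁻¹ = _
      rw [ih]; group
  obtain ⟨k, hk⟩ := d.rot.three
  have hσ : σ ^ 3 ^ k = 1 := Equiv.ext fun y => Subtype.ext (by
    rw [hpow, ← hk, pow_orderOf_eq_one]; simp)
  haveI : Fintype Y := Fintype.ofFinite _
  have hmod := Equiv.Perm.card_compl_support_modEq (p := 3) hσ
  let C : Subgroup G :=
    { carrier := {g | c.InC q r g}
      one_mem' := (InA.one).inC d
      mul_mem' := fun ha hb => ha.mul hb
      inv_mem' := fun ha => ha.inv }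
  have hτC : ∀ y : Y, c.InC q r (τ⁻¹ * (y : G)) := fun y => by
    have hx : ∀ a, τ * a * τ⁻¹ = a⁻¹ → (y : G) * a * (y : G)⁻¹ = a⁻¹ → τ⁻¹ * (y : G) * a = a * (τ⁻¹ * (y : G)) :=
      fun a ha hb => by
        calc τ⁻¹ * (y : G) * a = τ⁻¹ * ((y : G) * a * (y : G)⁻¹) * y := by group
          _ = τ⁻¹ * (τ * a * τ⁻¹) * y := by rw [hb, ha]
          _ = _ := by group
    exact ⟨c.T.mul_mem (c.T.inv_mem hτ) y.2.1, hx _ h0 y.2.2.1, hx _ h1 y.2.2.2⟩
  have hCY : ∀ g : ↥C, τ * (g : G) ∈ c.T ∧ τ * (g : G) * q * (τ * (g : G))⁻¹ = q⁻¹ ∧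
      τ * (g : G) * (r * q * r⁻¹) * (τ * (g : G))⁻¹ = (r * q * r⁻¹)⁻¹ := fun g => by
    obtain ⟨gT, g0, g1⟩ := (g.2 : c.InC q r g)
    refine ⟨c.T.mul_mem hτ gT, ?_, ?_⟩
    · rw [mul_assoc τ, g0, ← h0]; group
    · rw [mul_assoc τ, g1, ← h1]; group
  have hcard : Nat.card Y = Nat.card ↥C := Nat.card_congr
    { toFun := fun y => ⟨_, hτC y⟩
      invFun := fun g => ⟨_, hCY g⟩
      left_inv := fun y => Subtype.ext (mul_inv_cancel_left τ _)
      right_inv := fun g => Subtype.ext (inv_mul_cancel_left τ _) }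
  obtain ⟨n, hn⟩ := (IsPGroup.to_le c.S.isPGroup' (fun g hg => c.T_le hg.1 : C ≤ (c.S : Subgroup G))).exists_card_eq
  have hne : σ.supportᶜ.card ≠ 0 := fun e => by
    rw [e, ← Nat.card_eq_fintype_card, hcard, hn] at hmod
    have h3 : 3 ∣ 2 ^ n := Nat.modEq_zero_iff_dvd.1 hmod.symm
    exact absurd (Nat.Prime.dvd_of_dvd_pow Nat.prime_three h3) (by norm_num)
  obtain ⟨y, hy⟩ := Finset.card_pos.1 (Nat.pos_of_ne_zero hne)
  rw [Finset.mem_compl, Equiv.Perm.mem_support, not_not] at hy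
  obtain ⟨yT, y0, y1⟩ := y.2
  have hyR : r * (y : G) * r⁻¹ = y := congrArg Subtype.val hy
  have hyi : ∀ a, InA q r a → (y : G) * a * (y : G)⁻¹ = a⁻¹ := hA yT y0 y1
  have hy2 : (y : G) * y = 1 := by
    refine InC.fixed_one d ?_ ?_
    · have : ∀ a, InA q r a → (y : G) * y * a = a * ((y : G) * y) := fun a ha => by
        calc (y : G) * y * a = (y : G) * ((y : G) * a * (y : G)⁻¹) * y := by group
          _ = ((y : G) * a⁻¹ * (y : G)⁻¹) * (y * y) := by rw [hyi a ha]; group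
          _ = _ := by rw [← conj_inv, hyi a ha, inv_inv]
      exact ⟨c.T.mul_mem yT yT, this _ d.A0, this _ d.A1⟩
    · calc r * ((y : G) * y) * r⁻¹ = (r * (y : G) * r⁻¹) * (r * (y : G) * r⁻¹) := by group
        _ = _ := by rw [hyR]
  have hyU : ¬ c.InU (y : G) := fun h => by
    have h' := h.comm d.cent.mem
    rw [← h', mul_inv_cancel_right] at y0
    exact c.z1 (d.cent.sq ▸ mul_eq_one_iff_eq_inv.2 y0)
  have hyT : c.IsT (y : G) := ⟨yT, hy2, hyU⟩
  have hyi' : (y : G)⁻¹ = y := inv_eq_of_mul_eq_one_right hy2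
  have hcxR : r * c.cx (y : G) * r⁻¹ = c.cx (y : G) := by
    refine c.cx_inj ?_
    rw [d.rot.cx_r, c.cx_cx]
    nth_rewrite 1 [← hyR]
    group
  have hpC : c.InC q r ((y : G) * c.cx y) := by
    have hX : ∀ a, InA q r a → c.cx (y : G) * a * (c.cx y)⁻¹ = a⁻¹ := fun a ha => by
      have := congrArg c.cx (hyi _ (ha.cx d))
      rwa [map_mul, map_mul, map_inv, map_inv, c.cx_cx] at this
    have : ∀ a, InA q r a → (y : G) * c.cx y * a = a * ((y : G) * c.cx y) := fun a ha => by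
      calc (y : G) * c.cx y * a = (y : G) * (c.cx (y : G) * a * (c.cx y)⁻¹) * c.cx y := by group
        _ = ((y : G) * a⁻¹ * (y : G)⁻¹) * ((y : G) * c.cx y) := by rw [hX a ha]; group
        _ = _ := by rw [← conj_inv, hyi a ha, inv_inv]
    exact ⟨c.T.mul_mem yT hyT.cx.1, this _ d.A0, this _ d.A1⟩
  have hp1 := hpC.fixed_one d (by
    calc r * ((y : G) * c.cx y) * r⁻¹ = (r * (y : G) * r⁻¹) * (r * c.cx (y : G) * r⁻¹) := by group
      _ = _ := by rw [hyR, hcxR])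
  refine hyT.noncomm ?_
  rw [eq_inv_of_mul_eq_one_right hp1, hyi']

/-- The abelian subgroup is its own centralizer in `T`. -/
theorem InC.inA (d : c.Tri q r) {g : G} (hg : c.InC q r g) : InA q r g := by
  classical
  haveI : Fact (Nat.Prime 2) := ⟨Nat.prime_two⟩
  by_contra hgA
  have conjA : ∀ {s : G}, s ∈ c.S → ∀ {a}, InA q r a → InA q r (s * a * s⁻¹) := by
    intro s hs a ha
    have hT : ∀ {s : G}, s ∈ c.T → ∀ {a}, InA q r a → InA q r (s * a * s⁻¹) := by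
      intro s hs a ha
      have k : ∀ {s : G}, s ∈ c.T → InA q r (s * q * s⁻¹) := fun {s} hs => by
        obtain ⟨e, he, hee⟩ := d.cent.lam hs
        rw [hee]; exact (d.AU he).mul d d.A0
      have k1 : InA q r (s * (r * q * r⁻¹) * s⁻¹) := by
        rw [show s * (r * q * r⁻¹) * s⁻¹ = r * ((r⁻¹ * s * r) * q * (r⁻¹ * s * r)⁻¹) * r⁻¹ by group]
        exact (k (d.rot.T_r' hs)).rot d
      have k2 : InA q r (s * (r⁻¹ * q * r) * s⁻¹) := by
        rw [show s * (r⁻¹ * q * r) * s⁻¹ = r⁻¹ * ((r * s * r⁻¹) * q * (r * s * r⁻¹)⁻¹) * r by group]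
        exact (k (d.rot.T_r hs)).rot' d
      obtain ⟨i, j, rfl⟩ := ha
      rw [show s * ((r * q * r⁻¹) ^ i * (r⁻¹ * q * r) ^ j) * s⁻¹ =
        (s * (r * q * r⁻¹) ^ i * s⁻¹) * (s * (r⁻¹ * q * r) ^ j * s⁻¹) by group, ← conj_zpow, ← conj_zpow]
      exact (k1.zpow d i).mul d (k2.zpow d j)
    by_cases hsT : s ∈ c.T
    · exact hT hsT ha
    · have e : s * a * s⁻¹ = c.cx (c.x * s * a * (c.x * s)⁻¹) := by
        rw [c.cx_def, mul_inv_rev, c.xi]
        calc s * a * s⁻¹ = (c.x * c.x) * s * a * s⁻¹ * (c.x * c.x) := by rw [c.x2]; group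
          _ = _ := by group
      rw [e]
      exact (hT (c.x_mul hs hsT) ha).cx d
  let A : Subgroup ↥(c.S : Subgroup G) :=
    { carrier := {a | InA q r (a : G)}
      one_mem' := InA.one
      mul_mem' := fun {a b} (ha : InA q r (a : G)) (hb : InA q r (b : G)) => ha.mul d hb
      inv_mem' := fun {a} (ha : InA q r (a : G)) => ha.inv d }
  haveI : A.Normal := ⟨fun a (ha : InA q r (a : G)) s => conjA s.2 ha⟩
  let C : Subgroup ↥(c.S : Subgroup G) :=
    { carrier := {a | c.InC q r (a : G)}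
      one_mem' := (InA.one).inC d
      mul_mem' := fun {a b} (ha : c.InC q r (a : G)) (hb : c.InC q r (b : G)) => ha.mul hb
      inv_mem' := fun {a} (ha : c.InC q r (a : G)) => ha.inv }
  haveI : C.Normal := ⟨fun a (ha : c.InC q r (a : G)) s => by
    have : ∀ b, InA q r b → (s : G) * a * (s : G)⁻¹ * b = b * ((s : G) * a * (s : G)⁻¹) := fun b hb => by
      have h1 := conjA ((c.S : Subgroup G).inv_mem s.2) hb
      rw [inv_inv] at h1
      have := congrArg (fun y => (s : G) * y * (s : G)⁻¹) (ha.comm d h1).eq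
      simpa [mul_assoc] using this
    exact ⟨conj_T s.2 ha.1, this _ d.A0, this _ d.A1⟩⟩
  let π := QuotientGroup.mk' A
  set N := C.map π with hN
  haveI : N.Normal := Subgroup.Normal.map inferInstance _ (QuotientGroup.mk'_surjective A)
  have hne : N ≠ ⊥ := fun e => hgA (show (⟨g, c.T_le hg.1⟩ : ↥(c.S : Subgroup G)) ∈ A by
    rw [← QuotientGroup.eq_one_iff]
    exact Subgroup.mem_bot.1 (e ▸ ⟨⟨g, c.T_le hg.1⟩, hg, rfl⟩))
  haveI : Group.IsNilpotent (↥(c.S : Subgroup G) ⧸ A) := (c.S.isPGroup'.to_quotient A).isNilpotent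
  obtain ⟨w, ⟨hwN, hwc⟩, hw1⟩ := (Subgroup.bot_or_exists_ne_one _).resolve_left
    (Grp.inf_center_ne_bot N hne)
  obtain ⟨k, hk⟩ := (IsPGroup.iff_orderOf.1 (c.S.isPGroup'.to_quotient A)) w
  obtain ⟨j, rfl⟩ : ∃ j, k = j + 1 := ⟨k - 1, by
    rcases k with _ | k
    · exact absurd (orderOf_eq_one_iff.1 hk) hw1
    · rfl⟩
  have hv1 : w ^ 2 ^ j ≠ 1 := fun e => by
    have := orderOf_dvd_of_pow_eq_one e
    rw [hk] at this
    exact absurd (Nat.le_of_dvd (by positivity) this) (by rw [pow_succ]; have := Nat.two_pow_pos j; omega)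
  have hv2 : w ^ 2 ^ j * w ^ 2 ^ j = 1 := by
    rw [← pow_add, ← two_mul, mul_comm, ← pow_succ, ← hk, pow_orderOf_eq_one]
  obtain ⟨g₀, hg₀, hg₀w⟩ := N.pow_mem hwN (2 ^ j)
  have hvc : ∀ s : ↥(c.S : Subgroup G), π s * π g₀ = π g₀ * π s := fun s => by
    rw [hg₀w]; exact Subgroup.mem_center_iff.1 ((center _).pow_mem hwc _) _
  have hcomm : ∀ s : ↥(c.S : Subgroup G), InA q r ((s : G) * g₀ * (s : G)⁻¹ * (g₀ : G)⁻¹) := fun s =>
    show (s * g₀ * s⁻¹ * g₀⁻¹) ∈ A by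
      rw [← QuotientGroup.eq_one_iff]
      show π (s * g₀ * s⁻¹ * g₀⁻¹) = 1
      rw [map_mul, map_mul, map_mul, map_inv, map_inv, hvc, mul_inv_cancel_right, mul_inv_cancel]
  have hC0 : c.InC q r (g₀ : G) := hg₀
  have hg0A : ¬ InA q r (g₀ : G) := fun h => hv1 (by
    rw [← hg₀w]; exact (QuotientGroup.eq_one_iff g₀).2 h)
  have hsq0 : InA q r ((g₀ : G) * g₀) := show g₀ * g₀ ∈ A by
    rw [← QuotientGroup.eq_one_iff]
    show π (g₀ * g₀) = 1
    rw [map_mul, hg₀w, hv2]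
  set k0 := (g₀ : G)
  -- a representative fixed by `x`
  obtain ⟨a, ha, hca⟩ : ∃ a, InA q r a ∧ c.cx k0 = k0 * a := by
    have h1 : InA q r (c.x * k0 * c.x⁻¹ * k0⁻¹) := hcomm ⟨c.x, c.xS⟩
    rw [c.xi, ← c.cx_def] at h1
    refine ⟨_, h1, ?_⟩
    rw [(hC0.comm d h1).eq, inv_mul_cancel_right]
  have ha2 : c.cx a = a⁻¹ := by
    have h1 : c.cx (c.cx k0) = k0 * a * c.cx a := by rw [hca, map_mul, hca]
    rw [c.cx_cx, mul_assoc, eq_comm, mul_eq_left] at h1
    exact (inv_eq_of_mul_eq_one_right h1).symm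
  obtain ⟨b, hb, hab⟩ := ha.anti d ha2
  set k := k0 * b
  have hkC : c.InC q r k := hC0.mul (hb.inC d)
  have hkA : ¬ InA q r k := fun h => hg0A (by
    have := h.mul d (hb.inv d)
    rwa [mul_inv_cancel_right] at this)
  have hkf : c.cx k = k := by
    show c.cx (k0 * b) = k0 * b
    rw [map_mul, hca, hab, mul_assoc, inv_mul_cancel_right]
  have hksq : InA q r (k * k) := by
    show InA q r (k0 * b * (k0 * b))
    rw [mul_assoc, ← mul_assoc b, ← (hC0.comm d hb).eq, mul_assoc k0 b, ← mul_assoc]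
    exact hsq0.mul d (hb.mul d hb)
  have hkU : ¬ c.InU k := fun h => hkA (d.AU h)
  have hk2 : ∃ f, (f = 1 ∨ f = c.z) ∧ k * k = f * q := by
    have hf : c.cx (k * k) = k * k := by rw [map_mul, hkf]
    obtain ⟨e, he, h | h | h | h⟩ := hksq.four d
    · exfalso
      rw [h] at hf
      rcases he.cx_eq hf with r' | r'
      · exact hkU (hkC.inU d (h.trans r'))
      · obtain ⟨f, hfU, hfe⟩ := d.cent.sq_z hkC.1 hkC.2.1 (h.trans r')
        exact hkA (hfe ▸ (d.AU hfU).mul d d.A0)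
    · exfalso
      rw [h, map_mul, d.cx1] at hf
      have h' : _ * _ = _ * _ := congrArg (fun y => y * y) hf
      rw [mul_assoc, ← mul_assoc _ (c.cx e), he.cx.comm d.T2, mul_assoc (c.cx e), ← mul_assoc (c.cx e),
        he.cx.sq, one_mul, d.sq2, mul_assoc e, ← mul_assoc _ e, he.comm d.T1, mul_assoc e, ← mul_assoc e,
        he.sq, one_mul, d.sq1] at h'
      exact c.uz_ne_u h'
    · exfalso
      rw [h, map_mul, d.cx2] at hf
      have h' : _ * _ = _ * _ := congrArg (fun y => y * y) hf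
      rw [mul_assoc, ← mul_assoc _ (c.cx e), he.cx.comm d.T1, mul_assoc (c.cx e), ← mul_assoc (c.cx e),
        he.cx.sq, one_mul, d.sq1, mul_assoc e, ← mul_assoc _ e, he.comm d.T2, mul_assoc e, ← mul_assoc e,
        he.sq, one_mul, d.sq2] at h'
      exact c.uz_ne_u h'.symm
    · rw [h, map_mul, d.cent.fixed, mul_left_inj] at hf
      exact ⟨e, he.cx_eq hf, h⟩
  obtain ⟨f, hf, hkk⟩ := hk2
  have hkey : ∀ {t : G}, c.IsT t → t * q * t⁻¹ = q⁻¹ := by
    intro t ht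
    have hti : t⁻¹ = t := inv_eq_of_mul_eq_one_right ht.2.1
    obtain ⟨e, he, hee⟩ := d.cent.lam ht.1
    set a := k⁻¹ * (t * k * t⁻¹) with ha_def
    have haA : InA q r a := by
      have h1 : InA q r ((k0 * b)⁻¹ * (t * (k0 * b) * t⁻¹)) := by
        have h2 : InA q r (t * k0 * t⁻¹ * k0⁻¹) := hcomm ⟨t, c.T_le ht.1⟩
        have h3 : InA q r (t * b * t⁻¹) := conjA (c.T_le ht.1) hb
        have e1 : (k0 * b)⁻¹ * (t * (k0 * b) * t⁻¹) =
            b⁻¹ * (k0⁻¹ * (t * k0 * t⁻¹ * k0⁻¹) * k0) * (t * b * t⁻¹) := by group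
        rw [e1, (hC0.inv.comm d h2).eq, inv_mul_cancel_right]
        exact ((hb.inv d).mul d h2).mul d h3
      exact h1
    have htk : t * k * t = k * a := by rw [ha_def, hti]; group
    have hat : t * a * t = a⁻¹ := by
      have h1 : k = (t * k * t) * (t * a * t) := by
        calc k = (t * t) * k * (t * t) := by rw [ht.2.1]; group
          _ = t * (t * k * t) * t := by group
          _ = t * (k * a) * t := by rw [htk]
          _ = t * k * (t * t) * (a * t) := by rw [ht.2.1]; group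
          _ = _ := by group
      rw [htk, mul_assoc] at h1
      exact (inv_eq_of_mul_eq_one_right (left_eq_mul.1 h1)).symm
    have hft : f * t = t * f := by
      rcases hf with rfl | rfl
      · simp
      · exact (c.zc t (c.T_le ht.1)).symm
    have h1 : k * a * (k * a) = f * (e * q) := by
      rw [← htk, ← hee, hti]
      calc t * k * t * (t * k * t) = t * (k * (t * t) * k) * t := by group
        _ = t * (f * q) * t := by rw [ht.2.1, mul_one, hkk]
        _ = _ := by rw [← mul_assoc t f, ← hft]; group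
    rw [(hkC.comm d haA).symm.mul_mul_mul_comm, hkk, mul_assoc f, mul_right_inj] at h1
    rw [show q * (a * a) = a * a * q from ((d.A0.comm d (haA.mul d haA))).eq, mul_left_inj] at h1
    have hae : t * a * t * a⁻¹ = e := by
      rw [hat, ← mul_inv_rev, (haA.sq_U d).inv]; exact h1
    have haq : c.InU (a * q⁻¹) := by
      refine (haA.mul d (d.A0.inv d)).inU_of_comm d ht ?_
      show t * (a * q⁻¹) = a * q⁻¹ * t
      have e2 : t * a = e * a * t := by
        rw [← hae, inv_mul_cancel_right, mul_assoc (t * a), ht.2.1, mul_one]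
      have e3 : t * q⁻¹ = e⁻¹ * q⁻¹ * t := by
        have := congrArg (fun y => y⁻¹) hee
        simp only [mul_inv_rev, inv_inv, ← mul_assoc] at this
        rw [he.inv, he.comm (c.T.inv_mem d.cent.mem)] at this
        rw [he.inv]
        rw [← this, inv_mul_cancel_right]
      calc t * (a * q⁻¹) = e * a * (t * q⁻¹) := by rw [← mul_assoc, e2, mul_assoc]
        _ = e * (a * e⁻¹) * q⁻¹ * t := by rw [e3]; group
        _ = _ := by rw [he.inv, he.comm (haA.mem d), ← mul_assoc, he.sq, one_mul]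
    obtain ⟨g', hg', hge⟩ : ∃ g', c.InU g' ∧ a = g' * q := ⟨_, haq, by rw [inv_mul_cancel_right]⟩
    rw [hge, mul_assoc, ← mul_assoc q, hg'.comm d.cent.mem, mul_assoc g' q q, ← mul_assoc, hg'.sq, one_mul,
      d.cent.sq] at h1
    rw [hee, ← h1, ← c.zc q (c.T_le d.cent.mem), d.cent.inv]
  obtain ⟨t, ht⟩ := c.exists_isT
  refine d.inv_false ht.1 (hkey ht) ?_
  have h := hkey (d.rot.isT' ht)
  calc t * (r * q * r⁻¹) * t⁻¹ = r * ((r⁻¹ * t * r) * q * (r⁻¹ * t * r)⁻¹) * r⁻¹ := by group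
    _ = r * q⁻¹ * r⁻¹ := by rw [h]
    _ = _ := by group

end Conf

end Cfsg.Agent.Spor.JTwoType.Disc
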