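import Cfsg.Agent.Lib.Spor.JTwoType.Disc.Setup
import Cfsg.Agent.Lib.Invol.Sylow

/-!
# Classes of involutions when the central involution is not fused inside the four-group

An element `q` of order four fixed by `x`, central in `T` modulo the four-group, separates the classes.
-/

set_option autoImplicit false
set_option linter.unusedSectionVars false
set_option linter.style.haveILetI false

namespace Cfsg.Agent.Spor.JTwoType.Disc

open Subgroup

namespace Conf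

variable {G : Type*} [Group G] (c : Conf G)

/-- The properties of the element of order four. -/
structure Cent (q : G) : Prop where
  mem : q ∈ c.T
  fixed : c.cx q = q
  sq : q * q = c.z
  comm : ∀ g ∈ c.T, c.InU (g * q * g⁻¹ * q⁻¹)

theorem exists_cent [Finite G] : ∃ q, c.Cent q :=
  let ⟨q, h1, h2, h3, h4⟩ := c.exists_q0
  ⟨q, h1, h2, h3, h4⟩

variable {c} {q : G} (hq : c.Cent q)

theorem Cent.inv (hq : c.Cent q) : q⁻¹ = q * c.z :=
  inv_eq_of_mul_eq_one_right (by rw [← mul_assoc, hq.sq, c.z2])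

theorem Cent.not_InU (hq : c.Cent q) : ¬ c.InU q := fun h => c.z1 (hq.sq ▸ h.sq)

theorem Cent.lam (hq : c.Cent q) {g : G} (hg : g ∈ c.T) : ∃ e, c.InU e ∧ g * q * g⁻¹ = e * q :=
  ⟨_, hq.comm g hg, by group⟩

theorem conj_S {a g : G} (hg : g ∈ c.S) (ha : a ∈ c.S) : g * a * g⁻¹ ∈ c.S :=
  (c.S : Subgroup G).mul_mem ((c.S : Subgroup G).mul_mem hg ha) ((c.S : Subgroup G).inv_mem hg)

theorem conj_T {a g : G} (hg : g ∈ c.S) (ha : a ∈ c.T) : g * a * g⁻¹ ∈ c.T := by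
  by_cases h : g ∈ c.T
  · exact c.T.mul_mem (c.T.mul_mem h ha) (c.T.inv_mem h)
  · have h1 := c.x_mul hg h
    have e : g * a * g⁻¹ = c.cx (c.x * g * a * (c.x * g)⁻¹) := by
      rw [c.cx_def, mul_inv_rev, c.xi]
      calc g * a * g⁻¹ = (c.x * c.x) * g * a * g⁻¹ * (c.x * c.x) := by rw [c.x2]; group
        _ = _ := by group
    rw [e]
    exact c.cx_T (c.T.mul_mem (c.T.mul_mem h1 ha) (c.T.inv_mem h1))

theorem conj_InU {a g : G} (hg : g ∈ c.S) (ha : c.InU a) : c.InU (g * a * g⁻¹) := by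
  by_cases h : g ∈ c.T
  · rw [ha.comm h, mul_inv_cancel_right]; exact ha
  · have h1 := c.x_mul hg h
    have e : g * a * g⁻¹ = c.cx (c.x * g * a * (c.x * g)⁻¹) := by
      rw [c.cx_def, mul_inv_rev, c.xi]
      calc g * a * g⁻¹ = (c.x * c.x) * g * a * g⁻¹ * (c.x * c.x) := by rw [c.x2]; group
        _ = _ := by group
    rw [e, ha.comm h1, mul_inv_cancel_right]
    exact ha.cx

theorem IsT.conj {t g : G} (h : c.IsT t) (hg : g ∈ c.S) : c.IsT (g * t * g⁻¹) := by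
  refine ⟨conj_T hg h.1, ?_, fun hu => h.2.2 ?_⟩
  · rw [show g * t * g⁻¹ * (g * t * g⁻¹) = g * (t * t) * g⁻¹ by group, h.2.1, mul_one, mul_inv_cancel]
  · have := conj_InU ((c.S : Subgroup G).inv_mem hg) hu
    rwa [show g⁻¹ * (g * t * g⁻¹) * g⁻¹⁻¹ = t by group] at this

section Finite

variable [Finite G]

/-- No involution outside the four-group commutes with `q`. -/
theorem Cent.noc (hq : c.Cent q) {t : G} (h : c.IsT t) : t * q ≠ q * t := by
  intro e
  obtain ⟨k, s, hs, hsT, hs2, hsx, hts, -⟩ := h.rot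
  have e1 : Commute q t := e.symm
  have e2 : Commute q (c.cx t) := by
    have := congrArg c.cx e
    rw [map_mul, map_mul, hq.fixed] at this
    exact this.symm
  have hqs : Commute q s := hs ▸ (e1.mul_right e2).pow_right k
  set w := c.u * s * q⁻¹
  have hwT : w ∈ c.T := c.T.mul_mem (c.T.mul_mem c.u_T hsT) (c.T.inv_mem hq.mem)
  have hzs : s * c.z = c.z * s := c.zc s (c.T_le hsT)
  have hw : c.cx w = w := by
    show c.cx (c.u * s * q⁻¹) = c.u * s * q⁻¹
    rw [map_mul, map_mul, map_inv, hq.fixed, c.cx_u, hsx, hzs]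
    calc c.u * c.z * (c.z * s) * q⁻¹ = c.u * (c.z * c.z) * s * q⁻¹ := by group
      _ = _ := by rw [c.z2, mul_one]
  have hus : Commute c.u s := ((c.mem_T.1 hsT).2).symm
  have huq : Commute c.u q := ((c.mem_T.1 hq.mem).2).symm
  have h2 : (c.u * s) * (c.u * s) = c.z := by
    rw [mul_assoc, ← mul_assoc s, ← hus.eq, mul_assoc c.u s s, hs2, ← mul_assoc, c.u2, one_mul]
  have hc : Commute (c.u * s) q⁻¹ := (huq.mul_left hqs.symm).inv_right
  have hw2 : w * w = 1 := by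
    show c.u * s * q⁻¹ * (c.u * s * q⁻¹) = 1
    rw [mul_assoc, ← mul_assoc q⁻¹, ← hc.eq, mul_assoc (c.u * s) q⁻¹, ← mul_assoc, h2, ← mul_inv_rev, hq.sq,
      mul_inv_cancel]
  obtain ⟨f, hf, hsf⟩ : ∃ f, c.InU f ∧ s = f * q := by
    rcases c.fixed_one hwT hw hw2 with r | r
    · refine ⟨c.u, c.inU_u, ?_⟩
      rw [← mul_inv_eq_one.1 r, ← mul_assoc, c.u2, one_mul]
    · refine ⟨c.u * c.z, c.inU_uz, ?_⟩
      rw [mul_assoc, ← mul_inv_eq_iff_eq_mul.1 r, ← mul_assoc, c.u2, one_mul]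
  have h3 : t * s = s * t := by rw [hsf, ← mul_assoc, hf.comm h.1, mul_assoc, e, ← mul_assoc]
  rw [h3, mul_left_inj, eq_comm, mul_eq_left] at hts
  exact c.z1 hts

theorem Cent.inU_of_comm (hq : c.Cent q) {a : G} (ha : a ∈ c.T) (hc : a * q = q * a) (h2 : a * a = 1) :
    c.InU a := by
  by_contra h
  exact hq.noc ⟨ha, h2, h⟩ hc

/-- An element with square `z` commuting with `q` lies in a coset of the four-group at `q`. -/
theorem Cent.sq_z (hq : c.Cent q) {a : G} (ha : a ∈ c.T) (hc : a * q = q * a) (h2 : a * a = c.z) :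
    ∃ e, c.InU e ∧ a = e * q := by
  have hc' : Commute a q⁻¹ := (show Commute a q from hc).inv_right
  refine ⟨a * q⁻¹, hq.inU_of_comm (c.T.mul_mem ha (c.T.inv_mem hq.mem)) ?_ ?_, by group⟩
  · rw [inv_mul_cancel_right, ← mul_assoc, ← hc, mul_inv_cancel_right]
  · rw [mul_assoc, ← mul_assoc q⁻¹, ← hc'.eq, mul_assoc a q⁻¹, ← mul_assoc, h2, ← mul_inv_rev, hq.sq, mul_inv_cancel]

/-- An involution other than `z` is conjugate in `S` to its product with `z`. -/
theorem pair {a : G} (ha : a ∈ c.S) (h2 : a * a = 1) (h1 : a ≠ 1) (hz : a ≠ c.z) :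
    ∃ g ∈ c.S, g * a * g⁻¹ = a * c.z := by
  by_cases hT : a ∈ c.T
  · by_cases hU : c.InU a
    · refine ⟨c.x, c.xS, ?_⟩
      rw [c.xi, ← c.cx_def]
      rcases hU with rfl | rfl | rfl | rfl
      · exact absurd rfl h1
      · exact absurd rfl hz
      · exact c.cx_u
      · rw [c.cx_uz, mul_assoc, c.z2, mul_one]
    · obtain ⟨k, s, -, hsT, -, -, hts, -⟩ := IsT.rot (c := c) ⟨hT, h2, hU⟩
      refine ⟨s, c.T_le hsT, ?_⟩
      have hsz : s * c.z = c.z * s := c.zc s (c.T_le hsT)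
      have h3 : a * c.z * s = s * a := by
        rw [mul_assoc, ← hsz, ← mul_assoc, hts, mul_assoc s c.z a, ← c.zc a ha, mul_assoc, mul_assoc, c.z2, mul_one]
      rw [← h3, mul_inv_cancel_right]
  · refine ⟨c.u, c.uS, ?_⟩
    have h3 := c.out ha hT
    rw [c.ui, mul_assoc, h3, ← mul_assoc, ← mul_assoc, c.u2, one_mul, ← c.zc a ha]

omit [Finite G] in
/-- An involution outside `T` commutes with an element of order four with square `z`. -/
theorem Cent.out_comm (hq : c.Cent q) {w : G} (hw : w ∈ c.S) (hT : w ∉ c.T) (h2 : w * w = 1) :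
    ∃ a ∈ c.T, a * a = c.z ∧ w * a = a * w := by
  have hwi : w⁻¹ = w := inv_eq_of_mul_eq_one_right h2
  obtain ⟨e, he, hee⟩ := hq.lam (c.x_mul hw hT)
  have h1 : w * q * w⁻¹ = c.cx e * q := by
    have : c.x * w * q * (c.x * w)⁻¹ = e * q := hee
    rw [mul_inv_rev, c.xi] at this
    have h3 := congrArg c.cx this
    rw [map_mul c.cx e q, hq.fixed, c.cx_def] at h3
    rw [← h3]
    calc w * q * w⁻¹ = (c.x * c.x) * w * q * w⁻¹ * (c.x * c.x) := by rw [c.x2]; group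
      _ = _ := by group
  have hce : w * c.cx e * w⁻¹ = e := by
    have hc : c.InU e := he
    have e1 : w = c.x * (c.x * w) := by rw [← mul_assoc, c.x2, one_mul]
    rw [e1, mul_inv_rev, c.xi]
    calc c.x * (c.x * w) * c.cx e * ((c.x * w)⁻¹ * c.x) = c.x * (c.x * w * c.cx e * (c.x * w)⁻¹) * c.x := by group
      _ = _ := by rw [he.cx.comm (c.x_mul hw hT), mul_inv_cancel_right, ← c.cx_def, c.cx_cx]
  have hee' : e * c.cx e = 1 := by
    have h3 : q = e * (c.cx e * q) := by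
      calc q = (w * w) * q * (w * w)⁻¹ := by rw [h2]; simp
        _ = w * (w * q * w⁻¹) * w⁻¹ := by group
        _ = w * (c.cx e * q) * w⁻¹ := by rw [h1]
        _ = w * c.cx e * w⁻¹ * (w * q * w⁻¹) := by group
        _ = e * (c.cx e * q) := by rw [hce, h1]
    rw [← mul_assoc, eq_comm, mul_eq_right] at h3
    exact h3
  have hefix : c.cx e = e := by rw [eq_inv_of_mul_eq_one_right hee', he.inv]
  rw [hefix] at h1
  rcases he.cx_eq hefix with rfl | rfl
  · refine ⟨q, hq.mem, hq.sq, ?_⟩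
    rw [one_mul] at h1
    conv_rhs => rw [← h1, inv_mul_cancel_right]
  · refine ⟨c.u * q, c.T.mul_mem c.u_T hq.mem, ?_, ?_⟩
    · rw [mul_assoc, ← mul_assoc q, c.inU_u.comm hq.mem, mul_assoc c.u q q, hq.sq, ← mul_assoc, c.u2, one_mul]
    · calc w * (c.u * q) = (w * c.u) * q := by rw [mul_assoc]
        _ = c.u * c.z * (w * q) := by rw [c.out hw hT, mul_assoc]
        _ = c.u * c.z * (c.z * q * w) := by rw [← h1, inv_mul_cancel_right]
        _ = c.u * (c.z * c.z) * q * w := by group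
        _ = _ := by rw [c.z2, mul_one]

/-- The class of `z`. -/
def Zc (c : Conf G) (a : G) : Prop := ∃ g : G, g * c.z * g⁻¹ = a

omit [Finite G] in
theorem Zc.conj {a : G} (h : c.Zc a) (g : G) : c.Zc (g * a * g⁻¹) := by
  obtain ⟨k, rfl⟩ := h
  exact ⟨g * k, by group⟩

omit [Finite G] in
theorem Zc.sq {a : G} (h : c.Zc a) : a * a = 1 := by
  obtain ⟨k, rfl⟩ := h
  rw [show k * c.z * k⁻¹ * (k * c.z * k⁻¹) = k * (c.z * c.z) * k⁻¹ by group, c.z2, mul_one, mul_inv_cancel]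

omit [Finite G] in
theorem Zc.ne_one {a : G} (h : c.Zc a) : a ≠ 1 := by
  obtain ⟨k, rfl⟩ := h
  exact fun e => c.z1 (conj_eq_one_iff.1 e)

/-- Conjugating a centralizer into `S`. -/
theorem extr {t : G} (ht : t ∈ c.S) (h : c.Zc t) :
    ∃ f : G, f * t * f⁻¹ = c.z ∧ ∀ b ∈ c.S, b * t = t * b → f * b * f⁻¹ ∈ c.S := by
  haveI : Fact (Nat.Prime 2) := ⟨Nat.prime_two⟩
  obtain ⟨k, hk⟩ := h
  set C := centralizer ({c.z} : Set G)
  have hSC : (c.S : Subgroup G) ≤ C := fun g hg => mem_centralizer_singleton_iff.2 (c.zc g hg)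
  set B := (c.S : Subgroup G) ⊓ centralizer ({t} : Set G)
  have hBp : IsPGroup 2 ↥(B.map (MulAut.conj k⁻¹).toMonoidHom) :=
    (IsPGroup.to_le c.S.isPGroup' (inf_le_left : B ≤ _)).map _
  have hBC : B.map (MulAut.conj k⁻¹).toMonoidHom ≤ C := by
    rintro _ ⟨b, hb, rfl⟩
    refine mem_centralizer_singleton_iff.2 ?_
    have hbt : b * t = t * b := mem_centralizer_singleton_iff.1 hb.2
    rw [← hk] at hbt
    simp only [MulEquiv.coe_toMonoidHom, MulAut.conj_apply, inv_inv]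
    have h1 := congrArg (fun y => k⁻¹ * y * k) hbt
    simpa [mul_assoc] using h1
  obtain ⟨m, hm⟩ := Cfsg.Agent.Invol.exists_conj_subset_sylow
    (hBp.comap_subtype (K := C)) (c.S.subtype hSC)
  have hmz : (m : G) * c.z * (m : G)⁻¹ = c.z := by
    rw [mem_centralizer_singleton_iff.1 m.2, mul_inv_cancel_right]
  refine ⟨(m : G) * k⁻¹, ?_, fun b hb hbt => ?_⟩
  · rw [← hk]
    calc (m : G) * k⁻¹ * (k * c.z * k⁻¹) * ((m : G) * k⁻¹)⁻¹ = (m : G) * c.z * (m : G)⁻¹ := by group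
      _ = c.z := hmz
  · have hb' : b ∈ B := ⟨hb, mem_centralizer_singleton_iff.2 hbt⟩
    have h1 := hm ⟨_, hBC ⟨b, hb', rfl⟩⟩ ⟨b, hb', rfl⟩
    have h2 : (m : G) * (k⁻¹ * b * k⁻¹⁻¹) * (m : G)⁻¹ ∈ c.S := h1
    rwa [show (m : G) * k⁻¹ * b * ((m : G) * k⁻¹)⁻¹ = (m : G) * (k⁻¹ * b * k⁻¹⁻¹) * (m : G)⁻¹ by group]

variable (hno : ∀ g : G, g * c.z * g⁻¹ ≠ c.u)

include hno in
theorem not_zc_u : ¬ c.Zc c.u := fun ⟨g, hg⟩ => hno g hg

include hno in
theorem not_zc_uz : ¬ c.Zc (c.u * c.z) := fun h => not_zc_u hno (by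
  have := h.conj c.x
  rwa [c.xi, ← c.cx_def, c.cx_uz] at this)

include hno in
theorem Zc.eq_z {a : G} (h : c.Zc a) (hU : c.InU a) : a = c.z := by
  rcases hU with rfl | rfl | rfl | rfl
  · exact absurd rfl h.ne_one
  · rfl
  · exact absurd h (not_zc_u hno)
  · exact absurd h (not_zc_uz hno)

include hno in
/-- In a coset of the four-group, only one half is conjugate to `z`. -/
theorem zc_mul_u {t : G} (ht : c.IsT t) (h : c.Zc t) : ¬ c.Zc (t * c.u) := by
  intro h2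
  have hut : c.u * t = t * c.u := (c.inU_u.comm ht.1).symm
  obtain ⟨f, hf, hfS⟩ := extr (c.T_le ht.1) h
  have hfu : (f * c.u * f⁻¹) * (f * c.u * f⁻¹) = 1 := by
    rw [show f * c.u * f⁻¹ * (f * c.u * f⁻¹) = f * (c.u * c.u) * f⁻¹ by group, c.u2, mul_one, mul_inv_cancel]
  obtain ⟨g, -, hg⟩ := pair (hfS _ c.uS hut) hfu (fun e => c.u1 (conj_eq_one_iff.1 e)) fun e =>
    ht.2.2 (by
      rw [← hf] at e
      exact mul_left_cancel (mul_right_cancel e) ▸ c.inU_u)
  have e : f * c.u * f⁻¹ * c.z = f * (t * c.u) * f⁻¹ := by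
    rw [← hut, ← hf]; group
  rw [e] at hg
  have h3 := (h2.conj f).conj g⁻¹
  rw [← hg, show g⁻¹ * (g * (f * c.u * f⁻¹) * g⁻¹) * g⁻¹⁻¹ = f * c.u * f⁻¹ by group] at h3
  have h4 := h3.conj f⁻¹
  rw [show f⁻¹ * (f * c.u * f⁻¹) * f⁻¹⁻¹ = c.u by group] at h4
  exact not_zc_u hno h4

include hno in
theorem zc_mul_uz {t : G} (ht : c.IsT t) (h : c.Zc t) : ¬ c.Zc (t * (c.u * c.z)) := fun h2 => by
  have h3 := ht.mul_U c.inU_u
  obtain ⟨g, -, hg⟩ := pair (c.T_le h3.1) h3.2.1 h3.ne_one fun e => h3.2.2 (e ▸ c.inU_z)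
  refine zc_mul_u hno ht h ?_
  rw [← mul_assoc, ← hg] at h2
  have h4 := h2.conj g⁻¹
  rw [show g⁻¹ * (g * (t * c.u) * g⁻¹) * g⁻¹⁻¹ = t * c.u by group] at h4
  exact h4

include hno in
/-- The element `q` moves an involution in the class of `z` to its product with `z`. -/
theorem Cent.conj_q (hq : c.Cent q) {t : G} (ht : c.IsT t) (h : c.Zc t) : q * t * q⁻¹ = t * c.z := by
  obtain ⟨e, he, hee⟩ := hq.lam ht.1
  have hti : t⁻¹ = t := inv_eq_of_mul_eq_one_right ht.2.1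
  have hne : e ≠ 1 := fun r => hq.noc ht (by
    rw [r, one_mul] at hee
    conv_rhs => rw [← hee, inv_mul_cancel_right])
  have hq1 : q * t * q⁻¹ = t * e := by
    rw [show e = t * q * t⁻¹ * q⁻¹ by rw [hee]; group, ← mul_assoc, ← mul_assoc, ← mul_assoc, ht.2.1, one_mul, hti]
  have hz := h.conj q
  rw [hq1] at hz
  rcases he with rfl | rfl | rfl | rfl
  · exact absurd rfl hne
  · exact hq1
  · exact absurd hz (zc_mul_u hno ht h)
  · exact absurd hz (zc_mul_uz hno ht h)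

include hno in
theorem Cent.comm_p (hq : c.Cent q) {t : G} (ht : c.IsT t) (h : c.Zc t) : Commute q (t * c.cx t) := by
  have h1 := hq.conj_q hno ht h
  have h2 := congrArg c.cx h1
  rw [map_mul, map_mul, map_inv, map_mul, hq.fixed, c.cx_z] at h2
  have hz : c.cx t * c.z = c.z * c.cx t := c.zc _ (c.T_le ht.cx.1)
  have h3 : q * (t * c.cx t) * q⁻¹ = t * c.cx t := by
    calc q * (t * c.cx t) * q⁻¹ = (q * t * q⁻¹) * (q * c.cx t * q⁻¹) := by group
      _ = t * c.z * (c.cx t * c.z) := by rw [h1, h2]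
      _ = t * (c.z * c.z) * c.cx t := by rw [hz]; group
      _ = t * c.cx t := by rw [c.z2, mul_one]
  exact eq_mul_of_mul_inv_eq h3

include hno in
/-- The rotation is `u * q` up to `z`. -/
theorem Cent.exists_turn (hq : c.Cent q) {t : G} (ht : c.IsT t) (h : c.Zc t) :
    ∃ k : ℕ, ∃ s, (s = c.u * q ∨ s = c.u * q * c.z) ∧ s = (t * c.cx t) ^ k ∧ c.Zc (t * s) := by
  obtain ⟨k, s, hs, hsT, hs2, hsx, -, g, -, hg⟩ := ht.rot
  refine ⟨k, s, ?_, hs, hg ▸ h.conj g⟩
  have hqs : Commute q s := hs ▸ (hq.comm_p hno ht h).pow_right k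
  obtain ⟨e, he, rfl⟩ := hq.sq_z hsT hqs.eq.symm hs2
  rw [map_mul, hq.fixed, mul_assoc e q, c.zc q (c.T_le hq.mem), ← mul_assoc, mul_left_inj] at hsx
  rcases he with rfl | rfl | rfl | rfl
  · rw [map_one, one_mul] at hsx; exact absurd hsx.symm c.z1
  · rw [c.cx_z, c.z2] at hsx; exact absurd hsx c.z1
  · exact Or.inl rfl
  · refine Or.inr ?_
    rw [mul_assoc c.u c.z q, ← c.zc q (c.T_le hq.mem), ← mul_assoc]

include hno in
theorem Cent.zc_tq (hq : c.Cent q) {t : G} (ht : c.IsT t) (h : c.Zc t) :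
    c.Zc (t * (c.u * q)) ∧ c.Zc (t * (c.u * q) * c.z) ∧ c.IsT (t * (c.u * q)) := by
  obtain ⟨k, s, hs, -, hz⟩ := hq.exists_turn hno ht h
  have hT : t * (c.u * q) ∈ c.T := c.T.mul_mem ht.1 (c.T.mul_mem c.u_T hq.mem)
  have hne : ∀ e, c.InU e → t * (c.u * q) ≠ e := fun e he r => ht.2.2 (by
    have hc : Commute (t * (c.u * q)) q := by rw [r]; exact (he.comm hq.mem).symm
    refine absurd ?_ (hq.noc ht)
    have huq : Commute (c.u * q) q :=
      (show Commute c.u q from (c.inU_u.comm hq.mem).symm).mul_left (Commute.refl q)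
    have h5 : Commute (t * (c.u * q) * (c.u * q)⁻¹) q := hc.mul_left huq.inv_left
    rw [mul_inv_cancel_right] at h5
    exact h5.eq)
  have hsq : t * (c.u * q) * (t * (c.u * q)) = 1 := by
    rcases hs with rfl | rfl
    · exact hz.sq
    · rw [← mul_assoc] at hz
      have := hz.sq
      have hzc : c.z * (t * (c.u * q)) = t * (c.u * q) * c.z := (c.zc _ (c.T_le hT)).symm
      rwa [mul_assoc (t * (c.u * q)) c.z, ← mul_assoc c.z, hzc, mul_assoc _ c.z c.z, c.z2, mul_one] at this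
  have hisT : c.IsT (t * (c.u * q)) := ⟨hT, hsq, fun hu => hne _ hu rfl⟩
  obtain ⟨g, -, hg⟩ := pair (c.T_le hT) hsq hisT.ne_one fun r => hne _ c.inU_z r
  rcases hs with rfl | rfl
  · exact ⟨hz, hg ▸ hz.conj g, hisT⟩
  · rw [← mul_assoc] at hz
    have h4 := hz.conj g⁻¹
    rw [← hg, show g⁻¹ * (g * (t * (c.u * q)) * g⁻¹) * g⁻¹⁻¹ = t * (c.u * q) by group] at h4
    exact ⟨h4, hz, hisT⟩

end Finite

end Conf

end Cfsg.Agent.Spor.JTwoType.Disc
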