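import Cfsg.Agent.Lib.Spor.JTwoType.Disc.Rotation
import Cfsg.Agent.Lib.Invol.OneInvol
import Cfsg.Agent.Lib.Invol.Transfer2

/-!
# The transfer contradiction

Without fusion of `z` to `u`, the quotient of `S` by the rotations is abelian and `u` survives in it, while `u` has
no extremal conjugate outside `{u, u * z}`: the transfer is not trivial.
-/

set_option autoImplicit false
set_option linter.unusedSectionVars false
set_option linter.style.haveILetI false

namespace Cfsg.Agent.Spor.JTwoType.Disc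

open Subgroup

namespace Conf

variable {G : Type*} [Group G] [Finite G] {c : Conf G} {q t : G}

/-- A power series congruence: the exponent of an involutory power map fixing an element of order four. -/
theorem pow_sq_one {A : Type*} [Group A] {a : A} {K : ℕ} (ha : orderOf a = 2 ^ K) {n : ℤ} (h4 : (4 : ℤ) ∣ n - 1)
    (h : a ^ (n * n) = a) : a ^ (n - 1) * a ^ (n - 1) = 1 := by
  have h2 : ((2 : ℤ) ^ K) ∣ n * n - 1 := by
    have : (orderOf a : ℤ) ∣ n * n - 1 := orderOf_dvd_iff_zpow_eq_one.2 (by rw [zpow_sub_one, h, mul_inv_cancel])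
    rw [ha] at this
    exact_mod_cast this
  obtain ⟨m, hm⟩ := h4
  have h3 : ((2 : ℤ) ^ K) ∣ (2 * m + 1) * (2 * (n - 1)) := by
    rwa [show (2 * m + 1) * (2 * (n - 1)) = n * n - 1 by rw [show n = 4 * m + 1 by omega]; ring]
  have h5 : IsCoprime ((2 : ℤ) ^ K) (2 * m + 1) := IsCoprime.pow_left ⟨-m, 1, by ring⟩
  have h6 := h5.dvd_of_dvd_mul_left h3
  rw [← zpow_add, ← two_mul]
  refine orderOf_dvd_iff_zpow_eq_one.1 ?_
  rw [ha]
  exact_mod_cast h6

/-- An element of `T` commuting with `t` and with `q`. -/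
def InB (c : Conf G) (q t b : G) : Prop := b ∈ c.T ∧ b * t = t * b ∧ b * q = q * b

theorem InB.mul {a b : G} (ha : c.InB q t a) (hb : c.InB q t b) : c.InB q t (a * b) :=
  ⟨c.T.mul_mem ha.1 hb.1, ((show Commute a t from ha.2.1).mul_left hb.2.1).eq,
    ((show Commute a q from ha.2.2).mul_left hb.2.2).eq⟩

theorem InB.inv {a : G} (ha : c.InB q t a) : c.InB q t a⁻¹ :=
  ⟨c.T.inv_mem ha.1, (show Commute a t from ha.2.1).inv_left.eq, (show Commute a q from ha.2.2).inv_left.eq⟩

theorem InU.inB (ht : c.IsT t) (hq : c.Cent q) {a : G} (ha : c.InU a) : c.InB q t a :=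
  ⟨ha.mem, (ha.comm ht.1).symm, (ha.comm hq.mem).symm⟩

theorem Small.tq (d : c.Small q t) : q * t = t * c.z * q :=
  mul_inv_eq_iff_eq_mul.1 (d.cent.conj_q d.hno d.isT d.zc)

/-- An element of `T` commuting with `t` lies in `InB` or is `t` times such an element. -/
theorem Small.split (d : c.Small q t) {b : G} (hb : b ∈ c.T) (hbt : b * t = t * b) :
    c.InB q t b ∨ c.InB q t (t * b) := by
  rcases d.conj_qT hb with h | h
  · exact Or.inl ⟨hb, hbt, mul_inv_eq_iff_eq_mul.1 h⟩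
  · refine Or.inr ⟨c.T.mul_mem d.isT.1 hb, by rw [mul_assoc, hbt], ?_⟩
    rw [mul_inv_eq_iff_eq_mul] at h
    have hzt := c.zc _ (c.T_le d.isT.1)
    calc t * b * q = t * (q * c.z) * b := by rw [mul_assoc t b q, h]; group
      _ = t * c.z * q * b := by rw [c.zc q (c.T_le d.cent.mem)]; group
      _ = q * (t * b) := by rw [← d.tq]; group

/-- `z` is not the square of an element of `T` commuting with `t`. -/
theorem Small.nosqz (d : c.Small q t) {b : G} (hb : b ∈ c.T) (hbt : b * t = t * b) : b * b ≠ c.z := by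
  intro h2
  suffices ∀ a, c.InB q t a → a * a ≠ c.z by
    rcases d.split hb hbt with h | h
    · exact this b h h2
    · refine this _ h ?_
      rw [mul_assoc, ← mul_assoc b t b, hbt, mul_assoc, ← mul_assoc, d.isT.2.1, one_mul, h2]
  intro a ha h
  obtain ⟨e, he, rfl⟩ := d.cent.sq_z ha.1 ha.2.2 h
  refine d.cent.noc d.isT ?_
  have h1 := ha.2.1
  rw [← mul_assoc t, he.comm d.isT.1, mul_assoc, mul_assoc e t q] at h1
  exact (mul_left_cancel h1).symm

/-- An element of `T` commuting with `t` and with its image lies in the four-group. -/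
theorem Small.inter (d : c.Small q t) {b : G} (hb : b ∈ c.T) (h1 : b * t = t * b)
    (h2 : b * c.cx t = c.cx t * b) : c.InU b := by
  classical
  haveI : Fact (Nat.Prime 2) := ⟨Nat.prime_two⟩
  by_contra hbU
  set I : Subgroup G := c.T ⊓ (centralizer ({t} : Set G) ⊓ centralizer ({c.cx t} : Set G)) with hI
  have memI : ∀ {a : G}, a ∈ I ↔ a ∈ c.T ∧ a * t = t * a ∧ a * c.cx t = c.cx t * a := fun {a} => by
    simp only [hI, Subgroup.mem_inf, mem_centralizer_singleton_iff]
  have hcI : ∀ a ∈ I, c.cx a ∈ I := fun a ha => by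
    obtain ⟨x1, x2, x3⟩ := memI.1 ha
    refine memI.2 ⟨c.cx_T x1, ?_, by rw [← map_mul, x2, map_mul]⟩
    have := congrArg c.cx x3
    rwa [map_mul, map_mul, c.cx_cx] at this
  have hUI : ∀ a, c.InU a → a ∈ I := fun a ha =>
    memI.2 ⟨ha.mem, (ha.comm d.isT.1).symm, (ha.comm d.isT.cx.1).symm⟩
  let N : Subgroup ↥I :=
    { carrier := {a | c.InU (a : G)}
      one_mem' := c.inU_one
      mul_mem' := fun {a b} (ha : c.InU (a : G)) (hb : c.InU (b : G)) => ha.mul hb
      inv_mem' := fun {a} (ha : c.InU (a : G)) => show c.InU ((a : G))⁻¹ by rw [ha.inv]; exact ha }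
  haveI : N.Normal := ⟨fun a (ha : c.InU (a : G)) g => by
    show c.InU ((g : G) * a * (g : G)⁻¹)
    rw [ha.comm (memI.1 g.2).1, mul_inv_cancel_right]
    exact ha⟩
  let f : ↥I →* ↥I := (c.cx.comp I.subtype).codRestrict I fun a => hcI a a.2
  let σ₀ : ↥I ⧸ N →* ↥I ⧸ N := QuotientGroup.map N N f fun a (ha : c.InU (a : G)) => ha.cx
  have hσ : Function.Involutive σ₀ := fun y => by
    induction y using QuotientGroup.induction_on with
    | H a => exact congrArg (QuotientGroup.mk (s := N)) (Subtype.ext (c.cx_cx (a : G)))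
  let σ : Equiv.Perm (↥I ⧸ N) := hσ.toPerm
  haveI : Fintype (↥I ⧸ N) := Fintype.ofFinite _
  have hσ2 : σ ^ 2 ^ 1 = 1 := Equiv.ext fun y => by
    rw [pow_one, pow_two, Equiv.Perm.mul_apply]
    exact hσ y
  have hmod := Equiv.Perm.card_compl_support_modEq (p := 2) hσ2
  have hcardI : IsPGroup 2 (↥I ⧸ N) := (IsPGroup.to_le c.S.isPGroup' ((inf_le_left : I ≤ c.T).trans c.T_le)).to_quotient N
  obtain ⟨k, hk⟩ := hcardI.exists_card_eq
  have hbI : b ∈ I := memI.2 ⟨hb, h1, h2⟩
  have hk0 : k ≠ 0 := fun e => hbU (by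
    rw [e, pow_zero, Nat.card_eq_one_iff_unique] at hk
    obtain ⟨hss, -⟩ := hk
    have : (QuotientGroup.mk (⟨b, hbI⟩ : ↥I) : ↥I ⧸ N) = 1 := Subsingleton.elim _ _
    exact (QuotientGroup.eq_one_iff _).1 this)
  have heven : σ.supportᶜ.card % 2 = 0 := by
    rw [hmod, ← Nat.card_eq_fintype_card, hk]
    exact Nat.mod_eq_zero_of_dvd (dvd_pow_self 2 hk0) |>.trans rfl
  have h1s : (1 : ↥I ⧸ N) ∈ σ.supportᶜ := by
    rw [Finset.mem_compl, Equiv.Perm.mem_support, not_not]
    exact map_one σ₀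
  obtain ⟨y, hy, hy1⟩ : ∃ y ∈ σ.supportᶜ, y ≠ 1 := by
    refine Finset.exists_mem_ne ?_ _
    have := Finset.card_pos.2 ⟨_, h1s⟩
    omega
  rw [Finset.mem_compl, Equiv.Perm.mem_support, not_not] at hy
  induction y using QuotientGroup.induction_on with | H a => ?_
  have haU : ¬ c.InU (a : G) := fun h => hy1 ((QuotientGroup.eq_one_iff a).2 h)
  obtain ⟨haT, hat, -⟩ := memI.1 a.2
  have he : c.InU ((a : G)⁻¹ * c.cx a) := by
    have h3 : (QuotientGroup.mk (f a) : ↥I ⧸ N) = QuotientGroup.mk a := hy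
    exact QuotientGroup.eq.1 h3.symm
  set e := (a : G)⁻¹ * c.cx a with hee
  have hca : c.cx a = (a : G) * e := by rw [hee, mul_inv_cancel_left]
  have he2 : e * c.cx e = 1 := by
    have h3 : c.cx (c.cx a) = a * e * c.cx e := by rw [hca, map_mul, hca]
    rw [c.cx_cx, mul_assoc, eq_comm, mul_eq_left] at h3
    exact h3
  obtain ⟨w, hw, hwU, hwt, hwf⟩ : ∃ w, w ∈ c.T ∧ ¬ c.InU w ∧ w * t = t * w ∧ c.cx w = w := by
    rcases he.cx_eq (by rw [eq_inv_of_mul_eq_one_right he2, he.inv]) with r | r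
    · exact ⟨a, haT, haU, hat, by rw [hca, r, mul_one]⟩
    · refine ⟨a * c.u, c.T.mul_mem haT c.u_T, fun h => haU ?_, ?_, ?_⟩
      · have := h.mul c.inU_u
        rwa [mul_assoc, c.u2, mul_one] at this
      · rw [mul_assoc, ← (c.inU_u.comm d.isT.1), ← mul_assoc, hat, mul_assoc]
      · rw [map_mul, hca, r, c.cx_u, mul_assoc, ← mul_assoc c.z, c.zu, mul_assoc c.u, c.z2, mul_one]
  obtain ⟨j, hj⟩ := (IsPGroup.iff_orderOf.1 c.S.isPGroup') ⟨w, c.T_le hw⟩
  rw [← Subgroup.orderOf_coe] at hj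
  have hjpos : 2 ≤ j := by
    by_contra hlt
    have h3 : w * w = 1 := by
      rw [← pow_two]
      exact orderOf_dvd_iff_pow_eq_one.1 (hj ▸ (pow_dvd_pow 2 (show j ≤ 1 by omega)).trans (by norm_num))
    rcases c.fixed_one hw hwf h3 with r | r
    · exact hwU (r ▸ c.inU_one)
    · exact hwU (r ▸ c.inU_z)
  obtain ⟨l, rfl⟩ : ∃ l, j = l + 2 := ⟨j - 2, by omega⟩
  set v := w ^ 2 ^ l
  have hv : orderOf v = 4 := by
    rw [orderOf_pow_of_dvd (by positivity) (hj ▸ pow_dvd_pow 2 (by omega)), hj, pow_add,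
      Nat.mul_div_cancel_left _ (by positivity)]
    norm_num
  have hv2 : v * v ≠ 1 := fun e => by
    have := orderOf_dvd_of_pow_eq_one (show v ^ 2 = 1 by rw [pow_two, e])
    rw [hv] at this
    exact absurd (Nat.le_of_dvd two_pos this) (by norm_num)
  have hv4 : v * v * (v * v) = 1 := by
    have := pow_orderOf_eq_one v
    rw [hv] at this
    rw [← this, pow_succ, pow_succ, pow_succ, pow_one, mul_assoc, mul_assoc, mul_assoc]
  exact d.nosqz (c.T.pow_mem hw _) ((show Commute w t from hwt).pow_left _).eq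
    ((c.fixed_one (c.T.mul_mem (c.T.pow_mem hw _) (c.T.pow_mem hw _))
      (by rw [map_mul, map_pow, hwf]) hv4).resolve_left hv2)

theorem Small.inB_pow (d : c.Small q t) {b : G} (hb : c.InB q t b) :
    ∃ n : ℤ, (4 : ℤ) ∣ n - 1 ∧ b * c.pr t * b⁻¹ = (c.pr t) ^ n := by
  obtain ⟨n, h | h⟩ := d.K_normal (c.T_le hb.1) (b := c.pr t) ⟨1, Or.inl (zpow_one _).symm⟩
  swap
  · exfalso
    refine d.p2 ?_
    have := (d.zc_refl n).2.2.1
    rw [← h, show b * c.pr t * b⁻¹ * (b * c.pr t * b⁻¹) = b * (c.pr t * c.pr t) * b⁻¹ by group] at this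
    exact conj_eq_one_iff.1 this
  refine ⟨n, ?_, h⟩
  obtain ⟨k, hk2, hks⟩ := d.turn
  have hbs : b * (c.pr t) ^ k * b⁻¹ = (c.pr t) ^ k := by
    have huq : Commute b (c.u * q) := (show Commute b c.u from c.inU_u.comm hb.1).mul_right hb.2.2
    rcases hks with e | e <;> rw [e]
    · rw [huq.eq, mul_inv_cancel_right]
    · rw [(huq.mul_right (show Commute b c.z from c.zc b (c.T_le hb.1))).eq, mul_inv_cancel_right]
  have h1 : (c.pr t ^ k) ^ (n - 1) = 1 := by
    rw [zpow_sub_one, ← zpow_mul, mul_comm, zpow_mul, ← h, conj_zpow, hbs, mul_inv_cancel]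
  have ho : orderOf (c.pr t ^ k) = 4 := by
    haveI : Fact (Nat.Prime 2) := ⟨Nat.prime_two⟩
    refine orderOf_eq_prime_pow (n := 1) (p := 2) ?_ ?_
    · rw [pow_one, pow_two, hk2]; exact c.z1
    · rw [show (2 : ℕ) ^ (1 + 1) = 2 * 2 by norm_num, pow_mul, pow_two (c.pr t ^ k), hk2, pow_two, c.z2]
  have := orderOf_dvd_iff_zpow_eq_one.2 h1
  rw [ho] at this
  exact_mod_cast this

theorem Small.cx_InB (d : c.Small q t) {b : G} (hb : c.InB q t b) :
    ∃ i : ℤ, ∃ b', c.InB q t b' ∧ c.cx b = (c.pr t) ^ i * b' := by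
  obtain ⟨i, b', hb', hbt, he⟩ := d.decomp (c.cx_T hb.1)
  refine ⟨i, b', ⟨hb', hbt, ?_⟩, he⟩
  have h1 : Commute (c.cx b) q := by
    show c.cx b * q = q * c.cx b
    rw [← d.cent.fixed, ← map_mul, ← map_mul, hb.2.2]
  have h2 : b' = (c.pr t ^ i)⁻¹ * c.cx b := by rw [he, inv_mul_cancel_left]
  rw [h2]
  exact ((d.p_q.zpow_right i).symm.inv_left.mul_left h1).eq

/-- The image of an element of order four. -/
theorem Small.cx_four (d : c.Small q t) {b : G} (hb : c.InB q t b) (hbU : ¬ c.InU b) (h2 : c.InU (b * b)) :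
    ∃ i : ℤ, ∃ b', c.InB q t b' ∧ c.cx b = (c.pr t) ^ i * b' ∧ (c.pr t) ^ i * (c.pr t) ^ i = c.z ∧
      ∀ a, c.InB q t a → Commute a ((c.pr t) ^ i) := by
  set p := c.pr t
  obtain ⟨i, b', hb', he⟩ := d.cx_InB hb
  obtain ⟨n, hn4, hn⟩ := d.inB_pow hb'
  have h3 : p ^ (i + n * i) * (b' * b') = c.cx (b * b) := by
    rw [map_mul, he]
    calc p ^ (i + n * i) * (b' * b') = p ^ i * (p ^ n) ^ i * (b' * b') := by rw [zpow_add, zpow_mul]
      _ = p ^ i * (b' * p ^ i * b'⁻¹) * (b' * b') := by rw [← hn, conj_zpow]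
      _ = _ := by simp only [p]; group
  have h4 : Commute (p ^ (i + n * i)) t := by
    have e : p ^ (i + n * i) = c.cx (b * b) * (b' * b')⁻¹ := by rw [← h3, mul_inv_cancel_right]
    rw [e]
    exact (h2.cx.inB d.isT d.cent).2.1 |> fun h => (show Commute (c.cx (b * b)) t from h).mul_left
      (show Commute (b' * b') t from (hb'.mul hb').2.1).inv_left
  have h5 : p ^ (i + n * i) * p ^ (i + n * i) = 1 := by
    have h6 := d.pow_t (i + n * i)
    rw [h4.eq, mul_right_inj] at h6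
    nth_rewrite 2 [h6]
    rw [← zpow_add, add_neg_cancel, zpow_zero]
  obtain ⟨K, hK⟩ := d.p_pow_order
  have h6 : p ^ i * p ^ i * (p ^ i * p ^ i) = 1 := by
    obtain ⟨m, hm⟩ := hn4
    have hdvd : ((2 : ℤ) ^ K) ∣ (2 * m + 1) * (4 * i) := by
      rw [show (2 * m + 1) * (4 * i) = (i + n * i) + (i + n * i) by rw [show n = 4 * m + 1 by omega]; ring]
      have : (orderOf p : ℤ) ∣ (i + n * i) + (i + n * i) := orderOf_dvd_iff_zpow_eq_one.2 (by rw [zpow_add, h5])
      rw [hK] at this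
      exact_mod_cast this
    have := (IsCoprime.pow_left (m := K) (⟨-m, 1, by ring⟩ : IsCoprime (2 : ℤ) (2 * m + 1))).dvd_of_dvd_mul_left hdvd
    rw [← zpow_add, ← zpow_add, show i + i + (i + i) = 4 * i by ring]
    refine orderOf_dvd_iff_zpow_eq_one.1 ?_
    rw [hK]
    exact_mod_cast this
  have hi2 : p ^ i * p ^ i = c.z := by
    rcases d.pow_inv (i := i + i) (by rw [zpow_add]; exact h6) with e | e
    · exfalso
      rw [zpow_add] at e
      have hrc : Commute (p ^ i) t := by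
        have h7 : p ^ (-i) = p ^ i := by rw [zpow_neg, inv_eq_of_mul_eq_one_right e]
        show p ^ i * t = t * p ^ i
        rw [d.pow_t, h7]
      refine hbU (d.inter hb.1 hb.2.1 ?_)
      have h8 : Commute (c.cx b) t := he ▸ hrc.mul_left (show Commute b' t from hb'.2.1)
      have h9 := congrArg c.cx h8.eq
      rwa [map_mul, map_mul, c.cx_cx] at h9
    · rwa [zpow_add] at e
  refine ⟨i, b', hb', he, hi2, fun a ha => ?_⟩
  obtain ⟨f, hf, hfe⟩ := d.cent.sq_z (c.T.zpow_mem d.p_T i) (d.p_q.zpow_right i).symm.eq hi2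
  rw [hfe]
  exact (show Commute a f from hf.comm ha.1).mul_right ha.2.2

theorem Small.four_unique (d : c.Small q t) {a b : G} (ha : c.InB q t a) (haU : ¬ c.InU a) (ha2 : c.InU (a * a))
    (hb : c.InB q t b) (hbU : ¬ c.InU b) (hb2 : c.InU (b * b)) : c.InU (a * b) := by
  obtain ⟨i, a', ha', hae, hi, hic⟩ := d.cx_four ha haU ha2
  obtain ⟨j, b', hb', hbe, hj, hjc⟩ := d.cx_four hb hbU hb2
  set p := c.pr t
  have h1 : c.cx (a * b) = p ^ (i + j) * (a' * b') := by
    rw [map_mul, hae, hbe, zpow_add]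
    calc p ^ i * a' * (p ^ j * b') = p ^ i * (a' * p ^ j) * b' := by group
      _ = _ := by rw [(hjc a' ha').eq]; group
  have h2 : p ^ (i + j) * p ^ (i + j) = 1 := by
    rw [← zpow_add, show i + j + (i + j) = i + i + (j + j) by ring, zpow_add, zpow_add p i i, hi,
      zpow_add p j j, hj, c.z2]
  refine d.inter (ha.mul hb).1 (ha.mul hb).2.1 ?_
  have h3 : Commute (p ^ (i + j)) t := by
    rcases d.pow_inv h2 with e | e <;> rw [e]
    · exact Commute.one_left t
    · exact (c.zc t (c.T_le d.isT.1)).symm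
  have h8 : Commute (c.cx (a * b)) t := h1 ▸ h3.mul_left (show Commute (a' * b') t from (ha'.mul hb').2.1)
  have h9 := congrArg c.cx h8.eq
  rwa [map_mul c.cx (c.cx (a * b)), map_mul c.cx t, c.cx_cx] at h9

theorem Small.rot_meet (d : c.Small q t) {b : G} (hb : b * t = t * b) {i : ℤ} (he : b = (c.pr t) ^ i) :
    b = 1 ∨ b = c.z := by
  have h6 := d.pow_t i
  rw [← he, hb, mul_right_inj] at h6
  rw [he]
  refine d.pow_inv ?_
  rw [he] at h6
  nth_rewrite 2 [h6]
  rw [← zpow_add, add_neg_cancel, zpow_zero]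

/-- The rotations as a subgroup of `S`. -/
def Small.R (d : c.Small q t) : Subgroup ↥(c.S : Subgroup G) :=
  (zpowers (⟨c.pr t, c.T_le d.p_T⟩ : ↥(c.S : Subgroup G)))

theorem Small.mem_R (d : c.Small q t) {a : ↥(c.S : Subgroup G)} : a ∈ d.R ↔ ∃ i : ℤ, (a : G) = (c.pr t) ^ i :=
  ⟨fun ⟨i, h⟩ => ⟨i, by rw [← h]; simp⟩, fun ⟨i, h⟩ => ⟨i, Subtype.ext (by simp [h])⟩⟩

theorem Small.z_R (d : c.Small q t) : (⟨c.z, c.zS⟩ : ↥(c.S : Subgroup G)) ∈ d.R := by
  obtain ⟨k, hk, -⟩ := d.turn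
  exact d.mem_R.2 ⟨k + k, by rw [zpow_add]; exact hk.symm⟩

theorem Small.R_normal (d : c.Small q t) : d.R.Normal := ⟨fun a ha g => by
  obtain ⟨i, hi⟩ := d.mem_R.1 ha
  obtain ⟨n, h | h⟩ := d.K_normal g.2 (b := c.pr t) ⟨1, Or.inl (zpow_one _).symm⟩
  · refine d.mem_R.2 ⟨n * i, ?_⟩
    show (g : G) * a * (g : G)⁻¹ = _
    rw [hi, zpow_mul, ← h, conj_zpow]
  · exfalso
    refine d.p2 ?_
    have := (d.zc_refl n).2.2.1
    rw [← h, show (g : G) * c.pr t * (g : G)⁻¹ * ((g : G) * c.pr t * (g : G)⁻¹) =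
      (g : G) * (c.pr t * c.pr t) * (g : G)⁻¹ by group] at this
    exact conj_eq_one_iff.1 this⟩

/-- The centralizer of `t` and `q` in `T` is cyclic modulo the rotations. -/
theorem Small.exists_gen (d : c.Small q t) :
    ∃ y, c.InB q t y ∧ ∀ b, c.InB q t b → ∃ k : ℤ, b * (y ^ k)⁻¹ = 1 ∨ b * (y ^ k)⁻¹ = c.z := by
  classical
  haveI : Fact (Nat.Prime 2) := ⟨Nat.prime_two⟩
  let B : Subgroup G :=
    { carrier := {b | c.InB q t b}
      one_mem' := c.inU_one.inB d.isT d.cent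
      mul_mem' := fun ha hb => ha.mul hb
      inv_mem' := fun ha => ha.inv }
  let N : Subgroup ↥B :=
    { carrier := {a | (a : G) = 1 ∨ (a : G) = c.z}
      one_mem' := Or.inl rfl
      mul_mem' := fun {a b} (ha : (a : G) = 1 ∨ (a : G) = c.z) (hb : (b : G) = 1 ∨ (b : G) = c.z) => by
        show (a : G) * b = 1 ∨ (a : G) * b = c.z
        rcases ha with h | h <;> rcases hb with h' | h' <;> simp [h, h', c.z2]
      inv_mem' := fun {a} (ha : (a : G) = 1 ∨ (a : G) = c.z) => by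
        show (a : G)⁻¹ = 1 ∨ (a : G)⁻¹ = c.z
        rcases ha with h | h <;> simp [h, c.zi] }
  haveI : N.Normal := ⟨fun a (ha : (a : G) = 1 ∨ (a : G) = c.z) g => by
    show (g : G) * a * (g : G)⁻¹ = 1 ∨ (g : G) * a * (g : G)⁻¹ = c.z
    rcases ha with h | h <;> rw [h]
    · simp
    · exact Or.inr (by rw [c.zc _ (c.T_le g.2.1), mul_inv_cancel_right])⟩
  have hp : IsPGroup 2 (↥B ⧸ N) :=
    (IsPGroup.to_le c.S.isPGroup' (fun b hb => c.T_le hb.1 : B ≤ (c.S : Subgroup G))).to_quotient N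
  have hone : ∀ a : ↥B, orderOf (QuotientGroup.mk a : ↥B ⧸ N) = 2 →
      (QuotientGroup.mk a : ↥B ⧸ N) = QuotientGroup.mk (⟨c.u, c.inU_u.inB d.isT d.cent⟩ : ↥B) := by
    intro a ha
    have h2 : (QuotientGroup.mk (a * a) : ↥B ⧸ N) = 1 := by
      rw [QuotientGroup.mk_mul, ← pow_two, ← ha, pow_orderOf_eq_one]
    have h3 : (a : G) * a = 1 ∨ (a : G) * a = c.z := (QuotientGroup.eq_one_iff _).1 h2
    have hU := d.cent.inU_of_comm a.2.1 a.2.2.2 (h3.resolve_right (d.nosqz a.2.1 a.2.2.1))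
    have hne : ¬ ((a : G) = 1 ∨ (a : G) = c.z) := fun h => by
      have h4 : (QuotientGroup.mk a : ↥B ⧸ N) = 1 := (QuotientGroup.eq_one_iff _).2 h
      rw [h4, orderOf_one] at ha
      exact absurd ha (by norm_num)
    refine QuotientGroup.eq.2 ?_
    show (a : G)⁻¹ * c.u = 1 ∨ (a : G)⁻¹ * c.u = c.z
    rcases hU with h | h | h | h
    · exact absurd (Or.inl h) hne
    · exact absurd (Or.inr h) hne
    · exact Or.inl (by rw [h, inv_mul_cancel])
    · exact Or.inr (by rw [h, mul_inv_rev, mul_assoc, inv_mul_cancel, mul_one, c.zi])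
  have huniq : ∀ u v : ↥B ⧸ N, orderOf u = 2 → orderOf v = 2 → u = v := fun u v hu hv => by
    induction u using QuotientGroup.induction_on with | H a => ?_
    induction v using QuotientGroup.induction_on with | H b => ?_
    rw [hone a hu, hone b hv]
  have hfour : ∀ u v : ↥B ⧸ N, orderOf u = 4 → orderOf v = 4 → (u * v) * (u * v) = 1 := fun u v hu hv => by
    induction u using QuotientGroup.induction_on with | H a => ?_
    induction v using QuotientGroup.induction_on with | H b => ?_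
    have key : ∀ a : ↥B, orderOf (QuotientGroup.mk a : ↥B ⧸ N) = 4 → ¬ c.InU (a : G) ∧ c.InU ((a : G) * a) :=
      fun a ha => by
      refine ⟨fun h => ?_, ?_⟩
      · have h4 : (QuotientGroup.mk a : ↥B ⧸ N) ^ 2 = 1 := by
          rw [pow_two, ← QuotientGroup.mk_mul, QuotientGroup.eq_one_iff]
          exact Or.inl h.sq
        have := orderOf_dvd_of_pow_eq_one h4
        rw [ha] at this
        exact absurd (Nat.le_of_dvd two_pos this) (by norm_num)
      · have h4 : orderOf (QuotientGroup.mk (a * a) : ↥B ⧸ N) = 2 := by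
          rw [QuotientGroup.mk_mul, ← pow_two, orderOf_pow_of_dvd two_ne_zero (by rw [ha]; norm_num), ha]
        have h5 : ((a : G) * a)⁻¹ * c.u = 1 ∨ ((a : G) * a)⁻¹ * c.u = c.z := QuotientGroup.eq.1 (hone _ h4)
        rcases h5 with h5 | h5
        · rw [inv_mul_eq_one.1 h5]; exact c.inU_u
        · rw [inv_mul_eq_iff_eq_mul] at h5
          rw [eq_mul_inv_of_mul_eq h5.symm, c.zi]
          exact c.inU_uz
    have h1 := d.four_unique a.2 (key a hu).1 (key a hu).2 b.2 (key b hv).1 (key b hv).2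
    rw [← QuotientGroup.mk_mul, ← QuotientGroup.mk_mul, QuotientGroup.eq_one_iff]
    exact Or.inl h1.sq
  rcases Cfsg.Agent.OneInvol.cyclic_or_quatShape hp huniq with hc | ⟨a, ha4, hidx, hinv⟩
  · obtain ⟨g, hg⟩ := hc.exists_generator
    induction g using QuotientGroup.induction_on with | H y => ?_
    refine ⟨y, y.2, fun b hb => ?_⟩
    obtain ⟨k, hk⟩ := hg (QuotientGroup.mk (⟨b, hb⟩ : ↥B))
    refine ⟨k, ?_⟩
    simp only [← QuotientGroup.mk_zpow] at hk
    have h2 := N.inv_mem (QuotientGroup.eq.1 hk)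
    rw [mul_inv_rev, inv_inv] at h2
    have h3 : ((⟨b, hb⟩ : ↥B)⁻¹ * y ^ k : ↥B) ∈ N := h2
    have h4 : (b⁻¹ * (y : G) ^ k) = 1 ∨ (b⁻¹ * (y : G) ^ k) = c.z := by
      have h5 : ((((⟨b, hb⟩ : ↥B)⁻¹ * y ^ k : ↥B)) : G) = 1 ∨
          ((((⟨b, hb⟩ : ↥B)⁻¹ * y ^ k : ↥B)) : G) = c.z := h3
      simpa using h5
    rcases h4 with h4 | h4
    · exact Or.inl (by rw [inv_mul_eq_one.1 h4, mul_inv_cancel])
    · refine Or.inr ?_
      rw [inv_mul_eq_iff_eq_mul.1 h4, mul_inv_rev, c.zi, ← mul_assoc, c.zc b (c.T_le hb.1), mul_inv_cancel_right]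
  · exfalso
    obtain ⟨g, hg⟩ : ∃ g, g ∉ zpowers a := by
      by_contra h
      push Not at h
      rw [(zpowers a).eq_top_iff'.2 h, index_top] at hidx
      exact absurd hidx (by norm_num)
    have hinvz : ∀ k : ℤ, g * a ^ k * g⁻¹ = (a ^ k)⁻¹ := fun k => by rw [← conj_zpow, hinv g hg, inv_zpow]
    obtain ⟨k, hk⟩ := mul_self_mem_of_index_two hidx g
    simp only at hk
    have hgg : g * g * (g * g) = 1 := by
      have h1 := hinvz k
      rw [hk] at h1
      have h2 : g * g = (g * g)⁻¹ := by rw [← h1]; group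
      nth_rewrite 2 [h2]
      exact mul_inv_cancel _
    obtain ⟨m, hm⟩ := ha4
    have hm0 : 0 < m := Nat.pos_of_ne_zero fun h => by
      rw [h, mul_zero] at hm
      exact (orderOf_pos a).ne' hm
    have ha2 : orderOf (a ^ (2 * m)) = 2 := by
      rw [orderOf_pow_of_dvd (by omega) (by rw [hm]; exact Dvd.intro 2 (by ring)), hm,
        show 4 * m = 2 * (2 * m) by ring, Nat.mul_div_cancel _ (by omega)]
    have hg2 : g * g ≠ 1 := fun h => hg (by
      have hgo : orderOf g = 2 := orderOf_eq_prime (by rw [pow_two, h]) (fun e => hg (e ▸ one_mem _))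
      rw [huniq g _ hgo ha2]
      exact pow_mem (mem_zpowers a) _)
    have hgo : orderOf g = 4 := orderOf_eq_prime_pow (n := 1) (p := 2) (by rwa [pow_one, pow_two])
      (by rw [show (2 : ℕ) ^ (1 + 1) = 2 * 2 by norm_num, pow_mul, pow_two g, pow_two, hgg])
    have ham : orderOf (a ^ m) = 4 := by
      rw [orderOf_pow_of_dvd hm0.ne' (by rw [hm]; exact Dvd.intro_left 4 rfl), hm, Nat.mul_div_cancel _ hm0]
    have h1 := hfour g (a ^ m) hgo ham
    by_cases h2 : g * a ^ m = 1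
    · refine hg ?_
      rw [eq_inv_of_mul_eq_one_left h2]
      exact inv_mem (pow_mem (mem_zpowers a) _)
    · refine hg ((Subgroup.mul_mem_cancel_right _ (pow_mem (mem_zpowers a) m)).1 ?_)
      rw [huniq (g * a ^ m) _ (orderOf_eq_prime (by rw [pow_two, h1]) h2) ha2]
      exact pow_mem (mem_zpowers a) _
where
  mul_self_mem_of_index_two {A : Type _} [Group A] {H : Subgroup A} (h : H.index = 2) (g : A) : g * g ∈ H :=
    (Subgroup.mul_mem_iff_of_index_two h).2 Iff.rfl

/-- The quotient by the rotations is commutative. -/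
theorem Small.quot_comm (d : c.Small q t) : ∀ a b : ↥(c.S : Subgroup G), a * b * a⁻¹ * b⁻¹ ∈ d.R := by
  haveI := d.R_normal
  let π := QuotientGroup.mk' d.R
  obtain ⟨y, hy, hgen⟩ := d.exists_gen
  set X : ↥(c.S : Subgroup G) := ⟨c.x, c.xS⟩ with hXdef
  set Tt : ↥(c.S : Subgroup G) := ⟨t, c.T_le d.isT.1⟩ with hTdef
  set Y : ↥(c.S : Subgroup G) := ⟨y, c.T_le hy.1⟩ with hYdef
  set P : ↥(c.S : Subgroup G) := ⟨c.pr t, c.T_le d.p_T⟩ with hPdef
  set W : ↥(c.S : Subgroup G) := ⟨c.u, c.uS⟩ with hWdef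
  have hP : ∀ i : ℤ, π (P ^ i) = 1 := fun i => (QuotientGroup.eq_one_iff _).2 (zpow_mem (mem_zpowers P) i)
  have hR : ∀ a : ↥(c.S : Subgroup G), (∃ i : ℤ, (a : G) = c.pr t ^ i) → π a = 1 := fun a h =>
    (QuotientGroup.eq_one_iff _).2 (d.mem_R.2 h)
  have hN : ∀ a : ↥(c.S : Subgroup G), ((a : G) = 1 ∨ (a : G) = c.z) → π a = 1 := by
    rintro a (h | h)
    · rw [show a = 1 from Subtype.ext h, map_one]
    · exact (QuotientGroup.eq_one_iff _).2 (by rw [show a = ⟨c.z, c.zS⟩ from Subtype.ext h]; exact d.z_R)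
  have hXX : π X * π X = 1 := by rw [← map_mul, show X * X = 1 from Subtype.ext c.x2, map_one]
  have hXi : (π X)⁻¹ = π X := inv_eq_of_mul_eq_one_right hXX
  -- the centralizer modulo the rotations
  have hB : ∀ b (hb : c.InB q t b), ∃ k : ℤ, π ⟨b, c.T_le hb.1⟩ = π Y ^ k := fun b hb => by
    obtain ⟨k, hk⟩ := hgen b hb
    refine ⟨k, ?_⟩
    rw [← map_zpow, ← mul_inv_eq_one, ← map_inv, ← map_mul]
    exact hN _ (by simpa [hYdef] using hk)
  have hcxY : ∃ m : ℤ, π X * π Y * π X = π Y ^ m := by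
    obtain ⟨i, b', hb', he⟩ := d.cx_InB hy
    obtain ⟨k, hk⟩ := hB b' hb'
    refine ⟨k, ?_⟩
    rw [← map_mul, ← map_mul, ← hk, show X * Y * X = P ^ i * ⟨b', c.T_le hb'.1⟩ from Subtype.ext (by
      rw [Subgroup.coe_mul, Subgroup.coe_mul, ← c.cx_def, he]; simp [hPdef]), map_mul, hP, one_mul]
  have hXY : Commute (π X) (π Y) := by
    obtain ⟨m, hm⟩ := hcxY
    haveI : Fact (Nat.Prime 2) := ⟨Nat.prime_two⟩
    obtain ⟨K, hK⟩ := (IsPGroup.iff_orderOf.1 (c.S.isPGroup'.to_quotient d.R)) (π Y)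
    have hconj : ∀ k : ℤ, π X * π Y ^ k * π X = (π Y ^ m) ^ k := fun k => by
      rw [← hm]
      have h := (conj_zpow : (π X * π Y * (π X)⁻¹) ^ k = π X * π Y ^ k * (π X)⁻¹)
      rw [hXi] at h
      exact h.symm
    have hmm : π Y ^ (m * m) = π Y := by
      rw [zpow_mul, ← hconj, ← hm]
      calc π X * (π X * π Y * π X) * π X = (π X * π X) * π Y * (π X * π X) := by group
        _ = _ := by rw [hXX, one_mul, mul_one]
    have hhalf : π Y ^ (m - 1) * π Y ^ (m - 1) = 1 := by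
      rcases Nat.lt_or_ge K 2 with hK2 | hK2
      · rw [← zpow_add, ← two_mul, zpow_mul, show π Y ^ (2 : ℤ) = 1 from ?_, one_zpow]
        rw [zpow_two, ← pow_two]
        exact orderOf_dvd_iff_pow_eq_one.1 (hK ▸ (pow_dvd_pow 2 (show K ≤ 1 by omega)).trans (by norm_num))
      refine pow_sq_one hK ?_ hmm
      obtain ⟨L, rfl⟩ : ∃ L, K = L + 2 := ⟨K - 2, by omega⟩
      set b := y ^ 2 ^ L with hbdef
      have hb : c.InB q t b := ⟨c.T.pow_mem hy.1 _, ((show Commute y t from hy.2.1).pow_left _).eq,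
        ((show Commute y q from hy.2.2).pow_left _).eq⟩
      have hbY : π ⟨b, c.T_le hb.1⟩ = π Y ^ (2 ^ L : ℕ) := by
        rw [← map_pow]; exact congrArg π (Subtype.ext (by simp [hYdef, hbdef]))
      have hbo : orderOf (π ⟨b, c.T_le hb.1⟩) = 4 := by
        rw [hbY, orderOf_pow_of_dvd (by positivity) (hK ▸ pow_dvd_pow 2 (by omega)), hK, pow_add,
          Nat.mul_div_cancel_left _ (by positivity)]
        norm_num
      have hbU : ¬ c.InU b := fun h => by
        have h4 : π ⟨b, c.T_le hb.1⟩ ^ 2 = 1 := by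
          rw [← map_pow]; exact hN _ (Or.inl (by simpa [pow_two] using h.sq))
        have := orderOf_dvd_of_pow_eq_one h4
        rw [hbo] at this
        exact absurd (Nat.le_of_dvd two_pos this) (by norm_num)
      have hb4 : b * b * (b * b) = 1 ∨ b * b * (b * b) = c.z := by
        have h4 : π (⟨b, c.T_le hb.1⟩ ^ 4) = 1 := by rw [map_pow, ← hbo, pow_orderOf_eq_one]
        obtain ⟨l, hl⟩ := d.mem_R.1 ((QuotientGroup.eq_one_iff _).1 h4)
        refine d.rot_meet ((hb.mul hb).mul (hb.mul hb)).2.1 (i := l) ?_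
        rw [← hl]
        simp [pow_succ, mul_assoc]
      have hb2 : c.InU (b * b) := d.cent.inU_of_comm (hb.mul hb).1 (hb.mul hb).2.2
        (hb4.resolve_right (d.nosqz (hb.mul hb).1 (hb.mul hb).2.1))
      obtain ⟨i, b', hb', he, hi2, hic⟩ := d.cx_four hb hbU hb2
      have hb'U : ¬ c.InU b' := fun h => hbU (by
        have hb'' : b = (c.pr t) ^ (-i) * c.cx b' := by
          have := congrArg c.cx he
          rwa [c.cx_cx, map_mul, d.cx_pow] at this
        refine absurd (show b * b = c.z from ?_) (d.nosqz hb.1 hb.2.1)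
        have hcm : Commute (c.cx b') ((c.pr t) ^ (-i)) := (h.cx.comm (c.T.zpow_mem d.p_T _)).symm
        rw [hb'', mul_assoc, ← mul_assoc (c.cx b'), hcm.eq, mul_assoc (c.pr t ^ (-i)), h.cx.sq, mul_one,
          zpow_neg, ← mul_inv_rev, hi2, c.zi])
      have hb'2 : c.InU (b' * b') := by
        have h3 : c.cx (b * b) = c.z * (b' * b') := by
          rw [map_mul, he, ← hi2]
          calc c.pr t ^ i * b' * (c.pr t ^ i * b') = c.pr t ^ i * (b' * c.pr t ^ i) * b' := by group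
            _ = _ := by rw [(hic b' hb').eq]; group
        have := c.inU_z.mul hb2.cx
        rwa [h3, ← mul_assoc, c.z2, one_mul] at this
      obtain ⟨e, hee, hbe⟩ : ∃ e, c.InU e ∧ b' = b⁻¹ * e :=
        ⟨b * b', d.four_unique hb hbU hb2 hb' hb'U hb'2, by rw [inv_mul_cancel_left]⟩
      have hfix : π X * π ⟨b, c.T_le hb.1⟩ * π X = π ⟨b, c.T_le hb.1⟩ := by
        rw [← map_mul, ← map_mul, show X * ⟨b, c.T_le hb.1⟩ * X = P ^ i * (⟨b, c.T_le hb.1⟩⁻¹ *
          ⟨e, c.T_le hee.mem⟩) from Subtype.ext (by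
            rw [Subgroup.coe_mul, Subgroup.coe_mul, ← c.cx_def, he, hbe]; simp [hPdef]),
          map_mul, hP, one_mul, map_mul, map_inv, inv_mul_eq_iff_eq_mul, ← map_mul]
        have hnot : ¬ (e = 1 ∨ e = c.z) := by
          intro h
          have hce : c.cx e = e := by
            rcases h with rfl | rfl
            · exact map_one c.cx
            · exact c.cx_z
          have h1 : c.cx b = c.pr t ^ i * b⁻¹ * e := by rw [he, hbe, mul_assoc]
          have h2 := congrArg c.cx h1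
          rw [c.cx_cx, map_mul, map_mul, map_inv, d.cx_pow, h1, hce, mul_inv_rev, mul_inv_rev, inv_inv,
            zpow_neg, hee.inv] at h2
          have hri : Commute b (c.pr t ^ i)⁻¹ := (hic b hb).inv_right
          have h3 : b = b * c.z := by
            calc b = (c.pr t ^ i)⁻¹ * (e * (b * (c.pr t ^ i)⁻¹)) * e := h2
              _ = (c.pr t ^ i)⁻¹ * (b * (c.pr t ^ i)⁻¹) * (e * e) := by
                rw [← hee.comm (c.T.mul_mem hb.1 (c.T.inv_mem (c.T.zpow_mem d.p_T i)))]; group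
              _ = b * ((c.pr t ^ i)⁻¹ * (c.pr t ^ i)⁻¹) := by
                rw [hee.sq, mul_one, ← mul_assoc, ← hri.eq, mul_assoc]
              _ = b * c.z := by rw [← mul_inv_rev, hi2, c.zi]
          exact c.z1 (mul_eq_left.1 h3.symm)
        rcases hb2 with h | h | h | h
        · exfalso
          exact hbU (d.cent.inU_of_comm hb.1 hb.2.2 h)
        · exact absurd h (d.nosqz hb.1 hb.2.1)
        all_goals
          have he' : e = c.u ∨ e = c.u * c.z := by
            rcases hee with r | r | r | r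
            · exact absurd (Or.inl r) hnot
            · exact absurd (Or.inr r) hnot
            · exact Or.inl r
            · exact Or.inr r
          rw [← mul_inv_eq_one, ← map_inv, ← map_mul]
          refine hN _ ?_
          show e * (b * b)⁻¹ = 1 ∨ e * (b * b)⁻¹ = c.z
          rcases he' with r | r <;> rw [r, h]
          all_goals
            have e' : ∀ w, c.u * (c.u * w) = w := fun w => by rw [← mul_assoc, c.u2, one_mul]
            have e3 : ∀ w, c.z * (c.u * w) = c.u * (c.z * w) := fun w => by rw [← mul_assoc, c.zu, mul_assoc]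
            simp [c.ui, c.zi, mul_assoc, c.u2, c.z2, e', e3, c.zu]
      have h4 : (4 : ℤ) ∣ m - 1 := by
        have h1 : (π ⟨b, c.T_le hb.1⟩) ^ (m - 1) = 1 := by
          rw [zpow_sub_one, hbY, ← zpow_natCast, ← zpow_mul, mul_comm, zpow_mul, ← hconj, zpow_natCast, ← hbY,
            hfix, mul_inv_cancel]
        have := orderOf_dvd_iff_zpow_eq_one.2 h1
        rw [hbo] at this
        exact_mod_cast this
      exact h4
    have hm1 : π Y ^ (m - 1) = 1 := by
      by_contra h1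
      obtain ⟨i, b', hb', he⟩ := d.cx_InB hy
      obtain ⟨i2, h2⟩ : ∃ k : ℤ, y ^ (m - 1) * y ^ (m - 1) = c.pr t ^ k := by
        have h5 : π (Y ^ (m - 1) * Y ^ (m - 1)) = 1 := by rw [map_mul, map_zpow]; exact hhalf
        obtain ⟨k, hk⟩ := d.mem_R.1 ((QuotientGroup.eq_one_iff _).1 h5)
        exact ⟨k, by simpa [hYdef] using hk⟩
      have hyB : c.InB q t (y ^ (m - 1)) := ⟨c.T.zpow_mem hy.1 _, ((show Commute y t from hy.2.1).zpow_left _).eq,
        ((show Commute y q from hy.2.2).zpow_left _).eq⟩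
      have hU := d.cent.inU_of_comm hyB.1 hyB.2.2
        ((d.rot_meet (hyB.mul hyB).2.1 h2).resolve_right (d.nosqz hyB.1 hyB.2.1))
      have hUu : π Y ^ (m - 1) = π W := by
        rw [← map_zpow, ← mul_inv_eq_one, ← map_inv, ← map_mul]
        refine hN _ ?_
        show ((Y ^ (m - 1) : ↥(c.S : Subgroup G)) : G) * (c.u)⁻¹ = 1 ∨ _ * (c.u)⁻¹ = c.z
        rw [Subgroup.coe_zpow]
        rcases hU with h | h | h | h
        · exact absurd (by rw [← map_zpow]; exact hN _ (Or.inl (by simpa [hYdef] using h))) h1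
        · exact absurd (by rw [← map_zpow]; exact hN _ (Or.inr (by simpa [hYdef] using h))) h1
        · exact Or.inl (by rw [show (Y : G) = y from rfl, h, mul_inv_cancel])
        · refine Or.inr ?_
          rw [show (Y : G) = y from rfl, h, c.ui, mul_assoc, c.zu, ← mul_assoc, c.u2, one_mul]
      obtain ⟨w, hw⟩ : ∃ w : ℤ, c.cx y = c.pr t ^ w * (y * c.u) := by
        have h5 : π (X * Y * X * (Y * W)⁻¹) = 1 := by
          rw [map_mul π (X * Y * X), map_mul, map_mul, hm, map_inv, map_mul, mul_inv_eq_one, ← hUu,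
            zpow_sub_one, ← mul_assoc, (Commute.self_zpow (π Y) m).eq, mul_inv_cancel_right]
        obtain ⟨k, hk⟩ := d.mem_R.1 ((QuotientGroup.eq_one_iff _).1 h5)
        refine ⟨k, mul_inv_eq_iff_eq_mul.1 ?_⟩
        rw [← hk, c.cx_def]; rfl
      have h5 := congrArg c.cx hw
      rw [c.cx_cx, map_mul, map_mul, d.cx_pow, c.cx_u, hw, zpow_neg] at h5
      refine c.z1 ((mul_eq_left (a := y)).1 ?_)
      calc y * c.z = (c.pr t ^ w)⁻¹ * (c.pr t ^ w * (y * c.u)) * (c.u * c.z) := by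
            rw [inv_mul_cancel_left, mul_assoc, ← mul_assoc c.u, c.u2, one_mul]
        _ = y := by rw [mul_assoc]; exact h5.symm
    show π X * π Y = π Y * π X
    rw [zpow_sub_one, mul_inv_eq_one] at hm1
    rw [hm1] at hm
    calc π X * π Y = π X * π Y * π X * π X := by rw [mul_assoc _ (π X) (π X), hXX, mul_one]
      _ = π Y * π X := by rw [hm]
  have hTY : Commute (π Tt) (π Y) := by
    show π Tt * π Y = π Y * π Tt
    rw [← map_mul, ← map_mul]
    exact congrArg π (Subtype.ext hy.2.1.symm)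
  have hXT : Commute (π X) (π Tt) := by
    show π X * π Tt = π Tt * π X
    have h1 : X * Tt * X = Tt * P := Subtype.ext (by
      rw [Subgroup.coe_mul, Subgroup.coe_mul, ← c.cx_def, d.cx_t]; rfl)
    have h2 := congrArg π h1
    rw [map_mul, map_mul, map_mul, show π P = 1 by simpa using hP 1, mul_one] at h2
    calc π X * π Tt = π X * π Tt * π X * π X := by rw [mul_assoc _ (π X) (π X), hXX, mul_one]
      _ = π Tt * π X := by rw [h2]
  have hgenAll : ∀ g, π g ∈ closure ({π X, π Tt, π Y} : Set _) := by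
    set C := closure ({π X, π Tt, π Y} : Set (↥(c.S : Subgroup G) ⧸ d.R))
    have hXC : π X ∈ C := subset_closure (by simp)
    have hTC : π Tt ∈ C := subset_closure (by simp)
    have hYC : π Y ∈ C := subset_closure (by simp)
    have hTm : ∀ g, ∀ hg : g ∈ c.T, π ⟨g, c.T_le hg⟩ ∈ C := fun g hg => by
      obtain ⟨i, b, hb, hbt, rfl⟩ := d.decomp hg
      rw [show (⟨c.pr t ^ i * b, c.T_le hg⟩ : ↥(c.S : Subgroup G)) = P ^ i * ⟨b, c.T_le hb⟩ from
        Subtype.ext (by simp [hPdef]), map_mul, hP, one_mul]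
      rcases d.split hb hbt with h | h
      · obtain ⟨k, hk⟩ := hB b h
        rw [hk]; exact zpow_mem hYC k
      · obtain ⟨k, hk⟩ := hB _ h
        rw [show (⟨b, c.T_le hb⟩ : ↥(c.S : Subgroup G)) = Tt * ⟨t * b, c.T_le h.1⟩ from Subtype.ext (by
          show b = t * (t * b)
          rw [← mul_assoc, d.isT.2.1, one_mul]), map_mul, hk]
        exact mul_mem hTC (zpow_mem hYC k)
    intro g
    by_cases hg : (g : G) ∈ c.T
    · exact hTm g hg
    · have h1 := hTm _ (c.x_mul g.2 hg)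
      rw [show (⟨c.x * g, c.T_le (c.x_mul g.2 hg)⟩ : ↥(c.S : Subgroup G)) = X * g from rfl, map_mul] at h1
      exact (Subgroup.mul_mem_cancel_left _ hXC).1 h1
  have hcent : ∀ g, ∀ v ∈ ({π X, π Tt, π Y} : Set (↥(c.S : Subgroup G) ⧸ d.R)), v * π g = π g * v := by
    intro g v hv
    have hle : closure ({π X, π Tt, π Y} : Set _) ≤ centralizer ({v} : Set _) := by
      refine (closure_le _).2 fun w hw => mem_centralizer_singleton_iff.2 ?_
      simp only [Set.mem_insert_iff, Set.mem_singleton_iff] at hv hw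
      rcases hv with rfl | rfl | rfl <;> rcases hw with rfl | rfl | rfl
      exacts [rfl, hXT.eq.symm, hXY.eq.symm, hXT.eq, rfl, hTY.eq.symm, hXY.eq, hTY.eq, rfl]
    exact (mem_centralizer_singleton_iff.1 (hle (hgenAll g))).symm
  intro a b
  rw [← QuotientGroup.eq_one_iff]
  show π (a * b * a⁻¹ * b⁻¹) = 1
  have hab : π a * π b = π b * π a := by
    have hle : closure ({π X, π Tt, π Y} : Set _) ≤ centralizer ({π b} : Set _) :=
      (closure_le _).2 fun w hw => mem_centralizer_singleton_iff.2 (hcent b w hw)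
    exact mem_centralizer_singleton_iff.1 (hle (hgenAll a))
  rw [map_mul, map_mul, map_mul, map_inv, map_inv, hab, mul_inv_cancel_right, mul_inv_cancel]

theorem Small.u_not_R (d : c.Small q t) : (⟨c.u, c.uS⟩ : ↥(c.S : Subgroup G)) ∉ d.R := fun h => by
  obtain ⟨i, hi⟩ := d.mem_R.1 h
  rcases d.rot_meet (c.inU_u.inB d.isT d.cent).2.1 hi with e | e
  exacts [c.u1 e, c.uz e]

/-- The extremal conjugates of `u`. -/
theorem Small.extremal (d : c.Small q t) {g : G} (hg : ∀ r ∈ c.T, g⁻¹ * r * g ∈ c.S) :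
    g⁻¹ * c.u * g = c.u ∨ g⁻¹ * c.u * g = c.u * c.z := by
  set a := g⁻¹ * c.u * g with ha
  have haS : a ∈ c.S := hg _ c.u_T
  have ha1 : a ≠ 1 := fun e => c.u1 (by
    have := congrArg (fun y => g * y * g⁻¹) e
    simpa [ha, mul_assoc] using this)
  have haz : a ≠ c.z := fun e => d.hno g (by rw [← e, ha]; group)
  have ha2 : a * a = 1 := by
    rw [ha, show g⁻¹ * c.u * g * (g⁻¹ * c.u * g) = g⁻¹ * (c.u * c.u) * g by group, c.u2, mul_one, inv_mul_cancel]
  by_cases hU : c.InU a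
  · rcases hU with h | h | h | h
    exacts [absurd h ha1, absurd h haz, Or.inl h, Or.inr h]
  exfalso
  set Ts := c.T.subgroupOf (c.S : Subgroup G) with hTs
  have hidx : Ts.index = 2 := Subgroup.index_eq_two_iff.2 ⟨⟨c.x, c.xS⟩, fun b => by
    simp only [hTs, Subgroup.mem_subgroupOf, Subgroup.coe_mul]
    rw [c.mem_T_mul b.2 c.xS]
    by_cases hb : (b : G) ∈ c.T
    · exact Or.inr ⟨hb, fun h => c.x_not_T (h.1 hb)⟩
    · exact Or.inl ⟨⟨fun h => absurd h hb, fun h => absurd h c.x_not_T⟩, hb⟩⟩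
  have hMle : c.T.map (MulAut.conj g⁻¹).toMonoidHom ≤ (c.S : Subgroup G) := by
    rintro _ ⟨r, hr, rfl⟩
    simp only [MulEquiv.toMonoidHom_eq_coe, MonoidHom.coe_coe, MulAut.conj_apply, inv_inv]
    exact hg r hr
  set M := (c.T.map (MulAut.conj g⁻¹).toMonoidHom).subgroupOf (c.S : Subgroup G)
  have hMidx : M.index = 2 := by
    have h1 : Nat.card ↥M = Nat.card ↥Ts := by
      rw [Nat.card_congr (subgroupOfEquivOfLe hMle).toEquiv, Nat.card_congr (subgroupOfEquivOfLe c.T_le).toEquiv,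
        card_map_of_injective (MulAut.conj g⁻¹).injective]
    have h2 := M.card_mul_index
    rw [h1, ← Ts.card_mul_index, hidx] at h2
    exact Nat.eq_of_mul_eq_mul_left Nat.card_pos h2
  have hMc : ∀ y : ↥(c.S : Subgroup G), y ∈ M → (y : G) * a = a * y := by
    rintro y ⟨r, hr, he⟩
    rw [← show g⁻¹ * r * g = (y : G) by simpa using he, ha]
    calc g⁻¹ * r * g * (g⁻¹ * c.u * g) = g⁻¹ * (r * c.u) * g := by group
      _ = g⁻¹ * (c.u * r) * g := by rw [(c.mem_T.1 hr).2]
      _ = _ := by group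
  have heq : ∀ g1 ∈ c.S, ∀ g2 ∈ c.S, g1 * a * g1⁻¹ ≠ a → g2 * a * g2⁻¹ ≠ a →
      g1 * a * g1⁻¹ = g2 * a * g2⁻¹ := by
    intro g1 h1 g2 h2 n1 n2
    have k1 : (⟨g1, h1⟩ : ↥(c.S : Subgroup G)) ∉ M := fun h => n1 (mul_inv_eq_iff_eq_mul.2 (hMc _ h))
    have k2 : (⟨g2, h2⟩ : ↥(c.S : Subgroup G)) ∉ M := fun h => n2 (mul_inv_eq_iff_eq_mul.2 (hMc _ h))
    have k3 : (⟨g2, h2⟩⁻¹ * ⟨g1, h1⟩ : ↥(c.S : Subgroup G)) ∈ M :=
      (Subgroup.mul_mem_iff_of_index_two hMidx).2 ⟨fun h => absurd ((inv_mem_iff).1 h) k2, fun h => absurd h k1⟩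
    have k4 : g2⁻¹ * g1 * a = a * (g2⁻¹ * g1) := hMc _ k3
    calc g1 * a * g1⁻¹ = g2 * (g2⁻¹ * g1 * a) * g1⁻¹ := by group
      _ = g2 * a * g2⁻¹ := by rw [k4]; group
  have hne : a * c.z ≠ a := fun h => c.z1 (mul_eq_left.1 h)
  by_cases haT : a ∈ c.T
  · have hT : c.IsT a := ⟨haT, ha2, hU⟩
    obtain ⟨g1, hg1, e1⟩ := pair haS ha2 ha1 haz
    have n2 : c.x * a * c.x⁻¹ ≠ a := by
      rw [c.xi, ← c.cx_def]
      intro e
      exact hT.noncomm (by rw [e])
    have h3 := heq g1 hg1 c.x c.xS (e1 ▸ hne) n2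
    rw [e1, c.xi, ← c.cx_def] at h3
    refine hT.noncomm ?_
    rw [← h3, ← mul_assoc, ha2, mul_assoc a c.z a, ← c.zc a haS, ← mul_assoc, ha2]
  · have hu' : c.u * a * c.u⁻¹ = a * c.z := by
      rw [c.ui, mul_assoc, c.out haS haT, c.zc a haS, mul_assoc c.u c.z a, ← mul_assoc c.u c.u, c.u2, one_mul]
    have ht' : t * a * t⁻¹ ≠ a := fun e => d.no_cent haS haT (mul_inv_eq_iff_eq_mul.1 e).symm
    have h3 := heq c.u c.uS t (c.T_le d.isT.1) (hu' ▸ hne) ht'
    rw [hu', eq_comm, mul_inv_eq_iff_eq_mul] at h3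
    refine d.no_flip haS haT (mul_inv_eq_iff_eq_mul.2 ?_)
    have h4 : t * a * t = a * c.z := by rw [h3, mul_assoc, d.isT.2.1, mul_one]
    calc a * t = t * (t * a * t) := by simp only [← mul_assoc, d.isT.2.1, one_mul]
      _ = t * c.z * a := by rw [h4, c.zc a haS, ← mul_assoc]

/-- A Sylow 2-subgroup in this configuration, without a nontrivial abelian quotient of the group, fuses `z` to `u`. -/
theorem Small.false (d : c.Small q t) (hperf : commutator G = ⊤) : False := by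
  classical
  haveI : Fact (Nat.Prime 2) := ⟨Nat.prime_two⟩
  haveI := d.R_normal
  letI : CommGroup (↥(c.S : Subgroup G) ⧸ d.R) :=
    { (inferInstance : Group (↥(c.S : Subgroup G) ⧸ d.R)) with
      mul_comm := fun a b => by
        induction a using QuotientGroup.induction_on with | H a => ?_
        induction b using QuotientGroup.induction_on with | H b => ?_
        rw [← QuotientGroup.mk_mul, ← QuotientGroup.mk_mul, QuotientGroup.eq]
        have := d.quot_comm b⁻¹ a⁻¹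
        simpa [mul_assoc] using this }
  set φ : ↥(c.S : Subgroup G) →* ↥(c.S : Subgroup G) ⧸ d.R := QuotientGroup.mk' d.R
  haveI : Fintype (G ⧸ (c.S : Subgroup G)) := Fintype.ofFinite _
  haveI : Fintype (↥(c.S : Subgroup G) ⧸ d.R) := Fintype.ofFinite _
  have htr : MonoidHom.transfer φ c.u = 1 := by
    have h := Abelianization.commutator_subset_ker (MonoidHom.transfer φ)
    rw [hperf] at h
    exact MonoidHom.mem_ker.1 (h (Subgroup.mem_top c.u))
  rw [Cfsg.Agent.Invol.transfer_involution φ c.u2] at htr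
  set f : G ⧸ (c.S : Subgroup G) → ↥(c.S : Subgroup G) ⧸ d.R :=
    fun o => if h : o.out⁻¹ * c.u * o.out ∈ (c.S : Subgroup G) then φ ⟨_, h⟩ else 1 with hf
  change ∏ o, f o = 1 at htr
  have hval : ∀ y : G, f (QuotientGroup.mk y) =
      if h : y⁻¹ * c.u * y ∈ (c.S : Subgroup G) then φ ⟨_, h⟩ else 1 := by
    intro y
    obtain ⟨s, hs⟩ := QuotientGroup.mk_out_eq_mul (c.S : Subgroup G) y
    show dite _ _ _ = _
    set o := (QuotientGroup.mk y : G ⧸ (c.S : Subgroup G)).out with ho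
    have e : o⁻¹ * c.u * o = (s : G)⁻¹ * (y⁻¹ * c.u * y) * s := by rw [hs]; group
    by_cases hy : y⁻¹ * c.u * y ∈ (c.S : Subgroup G)
    · have ho' : o⁻¹ * c.u * o ∈ (c.S : Subgroup G) := e ▸ mul_mem (mul_mem (inv_mem s.2) hy) s.2
      rw [dif_pos ho', dif_pos hy, show (⟨_, ho'⟩ : ↥(c.S : Subgroup G)) = s⁻¹ * ⟨_, hy⟩ * s from
        Subtype.ext (by simpa using e), map_mul, map_mul, map_inv, mul_comm, mul_inv_cancel_left]
    · have ho' : o⁻¹ * c.u * o ∉ (c.S : Subgroup G) := fun h => hy (by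
        rw [show y⁻¹ * c.u * y = (s : G) * (o⁻¹ * c.u * o) * (s : G)⁻¹ by rw [e]; group]
        exact mul_mem (mul_mem s.2 h) (inv_mem s.2))
      rw [dif_neg ho', dif_neg hy]
  have hinv : ∀ r ∈ c.T, ∀ o, f (r • o) = f o := by
    intro r hr o
    induction o using QuotientGroup.induction_on with | H y => ?_
    rw [MulAction.Quotient.smul_mk, smul_eq_mul, hval, hval]
    have e : (r * y)⁻¹ * c.u * (r * y) = y⁻¹ * c.u * y := by
      rw [show (r * y)⁻¹ * c.u * (r * y) = y⁻¹ * r⁻¹ * (c.u * r) * y by group, ← (c.mem_T.1 hr).2]; group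
    simp only [e]
  have hsq : ∀ o, f o * f o = 1 := by
    intro o
    rw [hf]
    dsimp only
    split_ifs with h
    · rw [← map_mul]
      refine (congrArg φ (Subtype.ext ?_)).trans (map_one φ)
      simp only [Subgroup.coe_mul, Subgroup.coe_one]
      calc o.out⁻¹ * c.u * o.out * (o.out⁻¹ * c.u * o.out) = o.out⁻¹ * (c.u * c.u) * o.out := by group
        _ = 1 := by rw [c.u2]; group
    · exact one_mul 1
  set v := φ ⟨c.u, c.uS⟩ with hv
  have hfix : ∀ o : G ⧸ (c.S : Subgroup G), (∀ r ∈ c.T, r • o = o) → f o = v := by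
    intro o ho
    induction o using QuotientGroup.induction_on with | H y => ?_
    have hy : ∀ r ∈ c.T, y⁻¹ * r * y ∈ c.S := fun r hr => Cfsg.Agent.Invol.smul_mk_eq_iff.1 (ho r hr)
    have hy' : y⁻¹ * c.u * y ∈ (c.S : Subgroup G) := hy _ c.u_T
    rw [hval, dif_pos hy']
    rcases d.extremal hy with e | e
    · exact congrArg φ (Subtype.ext e)
    · rw [show (⟨y⁻¹ * c.u * y, hy _ c.u_T⟩ : ↥(c.S : Subgroup G)) = ⟨c.u, c.uS⟩ * ⟨c.z, c.zS⟩ from Subtype.ext e,
        map_mul, show φ ⟨c.z, c.zS⟩ = 1 from (QuotientGroup.eq_one_iff _).2 d.z_R, mul_one]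
  have hT2 : IsPGroup 2 ↥c.T := IsPGroup.to_le c.S.isPGroup' c.T_le
  have hcount : ∀ a, (Finset.univ.filter fun o => f o = a).card % 2 =
      Nat.card {o : G ⧸ (c.S : Subgroup G) // f o = a ∧ ∀ r ∈ c.T, r • o = o} % 2 := fun a => by
    have h := Cfsg.Agent.Invol.card_invariant_modEq hT2 (fun o : G ⧸ (c.S : Subgroup G) => f o = a)
      fun r hr o ho => by rw [hinv r hr]; exact ho
    rw [← h, Nat.card_eq_fintype_card, Fintype.card_subtype]
  have hodd : Nat.card {o : G ⧸ (c.S : Subgroup G) // ∀ r ∈ c.T, r • o = o} % 2 = 1 := by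
    have h := Cfsg.Agent.Invol.card_invariant_modEq hT2 (fun _ : G ⧸ (c.S : Subgroup G) => True) fun _ _ _ _ => trivial
    rw [Nat.card_congr (Equiv.subtypeUnivEquiv fun _ => trivial),
      Nat.card_congr (Equiv.subtypeEquivRight fun o => and_iff_right trivial), ← Subgroup.index_eq_card] at h
    rw [← h]
    exact Nat.two_dvd_ne_zero.1 c.S.not_dvd_index
  refine d.u_not_R ((QuotientGroup.eq_one_iff _).1 ?_)
  show v = 1
  change ∏ o, id (f o) = 1 at htr
  rw [← Finset.prod_fiberwise' Finset.univ f id, Finset.prod_eq_single v] at htr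
  · simp only [id, Finset.prod_const] at htr
    have hodd' : (Finset.univ.filter fun o => f o = v).card % 2 = 1 := by
      rw [hcount, Nat.card_congr (Equiv.subtypeEquivRight fun o => ⟨fun h => h.2, fun h => ⟨hfix o h, h⟩⟩), hodd]
    rw [← Nat.div_add_mod (Finset.univ.filter fun o => f o = v).card 2, hodd', pow_succ, pow_mul, pow_two,
      show v * v = 1 by rw [hv, ← map_mul, show (⟨c.u, c.uS⟩ : ↥(c.S : Subgroup G)) * ⟨c.u, c.uS⟩ = 1 from
        Subtype.ext c.u2, map_one], one_pow, one_mul] at htr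
    exact htr
  · intro a _ ha
    simp only [id, Finset.prod_const]
    by_cases hne : (Finset.univ.filter fun o => f o = a).Nonempty
    · obtain ⟨o, ho⟩ := hne
      have ha2 : a * a = 1 := (Finset.mem_filter.1 ho).2 ▸ hsq o
      have heven : (Finset.univ.filter fun o => f o = a).card % 2 = 0 := by
        rw [hcount]
        haveI : IsEmpty {o : G ⧸ (c.S : Subgroup G) // f o = a ∧ ∀ r ∈ c.T, r • o = o} :=
          ⟨fun o => ha (o.2.1.symm.trans (hfix _ o.2.2))⟩
        rw [Nat.card_of_isEmpty]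
      rw [← Nat.div_add_mod (Finset.univ.filter fun o => f o = a).card 2, heven, add_zero, pow_mul, pow_two, ha2,
        one_pow]
    · rw [Finset.not_nonempty_iff_eq_empty.1 hne, Finset.card_empty, pow_zero]
  · exact fun h => absurd (Finset.mem_univ v) h

end Conf

end Cfsg.Agent.Spor.JTwoType.Disc
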