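import Cfsg.Agent.Lib.Spor.JTwoType.Disc.Four
import Cfsg.Agent.Lib.Local.CoreConsumers.FourSetting
import Cfsg.Prelude

/-!
# Disconnected Sylow 2-subgroups of rank at least three give the configuration
-/

set_option autoImplicit false
set_option linter.unusedSectionVars false
set_option linter.style.haveILetI false

namespace Cfsg.Agent.Spor.JTwoType.Disc

open Subgroup Cfsg

universe u

/-- The four-group spanned by two commuting involutions. -/
theorem exists_four {P : Type*} [Group P] {a b : P} (ha : a * a = 1) (hb : b * b = 1) (hab : a * b = b * a)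
    (ha1 : a ≠ 1) (hb1 : b ≠ 1) (hne : a ≠ b) :
    ∃ K : Subgroup P, IsKleinFour K ∧ a ∈ K ∧ b ∈ K ∧
      ∀ g : P, g * a = a * g → g * b = b * g → ∀ k ∈ K, g * k = k * g := by
  have e1 : a * (a * b) = b := by rw [← mul_assoc, ha, one_mul]
  have e2 : b * (a * b) = a := by rw [hab, ← mul_assoc, hb, one_mul]
  have e3 : a * b * a = b := by rw [hab, mul_assoc, ha, mul_one]
  have e4 : a * b * b = a := by rw [mul_assoc, hb, mul_one]
  have e5 : a * b * (a * b) = 1 := by rw [mul_assoc, e2, ha]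
  let K : Subgroup P :=
    { carrier := {1, a, b, a * b}
      one_mem' := Or.inl rfl
      mul_mem' := fun {x y} hx hy => by
        rcases hx with rfl | rfl | rfl | rfl <;> rcases hy with rfl | rfl | rfl | rfl <;>
          simp [ha, hb, e1, e2, e3, e4, e5, ← hab]
      inv_mem' := fun {x} hx => by
        have key : x⁻¹ = x := inv_eq_of_mul_eq_one_right (by rcases hx with rfl | rfl | rfl | rfl <;> simp [ha, hb, e5])
        rw [key]; exact hx }
  have hab1 : a * b ≠ 1 := fun e => hne (by rw [← e4, e, one_mul])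
  have hK : Nat.card ↥K = 4 := by
    rw [show Nat.card ↥K = ({1, a, b, a * b} : Set P).ncard from Nat.card_coe_set_eq _,
      Set.ncard_insert_of_notMem (by simp [ha1.symm, hb1.symm, hab1.symm]) (Set.toFinite _),
      Set.ncard_insert_of_notMem (by simp [hne, hb1]) (Set.toFinite _), Set.ncard_pair fun e => ha1 (by
        exact (mul_eq_right.1 e.symm))]
  have hcm : ∀ g : P, g * a = a * g → g * b = b * g → ∀ k ∈ K, g * k = k * g := fun g ga gb k hk => by
    rcases hk with rfl | rfl | rfl | rfl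
    · simp
    · exact ga
    · exact gb
    · rw [← mul_assoc, ga, mul_assoc, gb, mul_assoc]
  refine ⟨K, Fus.isKleinFour_iff_elementary.2 ⟨⟨⟨⟨fun x y => Subtype.ext ?_⟩⟩, fun x hx => ?_⟩, hK⟩,
    Or.inr (Or.inl rfl), Or.inr (Or.inr (Or.inl rfl)), hcm⟩
  · exact hcm x (hcm a rfl hab x x.2).symm (hcm b hab.symm rfl x x.2).symm y y.2
  · rw [pow_two]
    rcases hx with rfl | rfl | rfl | rfl <;> simp [ha, hb, e5]

theorem exists_conf {G : Type u} [Group G] [Finite G] (h3 : ¬ Cfsg.PRankLE 2 2 G) (S : Sylow 2 G)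
    (hS : ¬ Cfsg.IsFourConnected (S : Subgroup G)) : ∃ c : Conf G, c.S = S := by
  classical
  haveI : Fact (Nat.Prime 2) := ⟨Nat.prime_two⟩
  simp only [Cfsg.PRankLE, not_forall, not_le] at h3
  obtain ⟨F, hFc, hF2, hF⟩ := h3
  have hFe : Cfsg.IsElementaryAbelian 2 F := ⟨hFc, hF2⟩
  have h8 : 8 ≤ Nat.card F := by
    obtain ⟨k, hk⟩ := (Grp.elemAb_isPGroup (p := 2) hFe).exists_card_eq
    rw [hk] at hF ⊢
    rcases Nat.lt_or_ge k 3 with h | h
    · exact absurd (Nat.pow_le_pow_right two_pos (show k ≤ 2 by omega)) (by omega)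
    · exact le_trans (by norm_num) (Nat.pow_le_pow_right two_pos h)
  obtain ⟨E, hES, hE, hE8⟩ : ∃ E : Subgroup G, E ≤ (S : Subgroup G) ∧ Cfsg.IsElementaryAbelian 2 E ∧
      8 ≤ Nat.card E := by
    obtain ⟨T, hT⟩ := (Grp.elemAb_isPGroup (p := 2) hFe).exists_le_sylow
    obtain ⟨g, hg⟩ := MulAction.exists_smul_eq G T S
    refine ⟨F.map (MulAut.conj g).toMonoidHom, ?_, CoreConsumers.elemAb_map _ hFe, ?_⟩
    · rw [← hg, Fus.FourGraph.sylow_smul]
      exact map_mono hT
    · rwa [Subgroup.card_map_of_injective (MulAut.conj g).injective]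
  obtain ⟨U, z, hU⟩ := CoreConsumers.Disc.exists_fourIn S hES hE hE8
  obtain ⟨u, huU, hu1, huz⟩ := hU.exists_ne
  have hcases : ∀ {g}, g ∈ U → g = 1 ∨ g = z ∨ g = u ∨ g = z * u := fun hg => hU.cases huU hu1 huz hg
  have hzS : z ∈ S := hU.le hU.mem
  have huS : u ∈ S := hU.le huU
  have hzc : ∀ g ∈ S, g * z = z * g := fun g hg => (hU.central g hg).symm.eq
  have hz2 : z * z = 1 := hU.mul_self hU.mem
  have hu2 : u * u = 1 := hU.mul_self huU
  have hz1 : z ≠ 1 := hU.ne_one
  have huzc : u * z = z * u := hzc u huS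
  have hout : ∀ g ∈ S, g * u = u * g ∨ g * u = u * z * g := by
    intro g hg
    have e : ∀ w, g * u * g⁻¹ = w → g * u = w * g := fun w h => by rw [← h, inv_mul_cancel_right]
    rcases hcases (hU.normal g hg u huU) with h | h | h | h
    · exact absurd (conj_eq_one_iff.1 h) hu1
    · refine absurd ?_ huz
      have := e z h
      rw [← hzc g hg] at this
      exact mul_left_cancel this
    · exact Or.inl (e u h)
    · exact Or.inr (huzc ▸ e _ h)
  -- a four-group outside the component of `U`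
  let R : Subgroup ↥(S : Subgroup G) → Subgroup ↥(S : Subgroup G) → Prop := fun A B =>
    IsKleinFour A ∧ IsKleinFour B ∧ ∀ a ∈ A, ∀ b ∈ B, a * b = b * a
  have hRsymm : ∀ {A B}, R A B → R B A := fun h => ⟨h.2.1, h.1, fun a ha b hb => (h.2.2 b hb a ha).symm⟩
  let zS : ↥(S : Subgroup G) := ⟨z, hzS⟩
  let uS : ↥(S : Subgroup G) := ⟨u, huS⟩
  have hz2' : zS * zS = 1 := Subtype.ext hz2
  have hu2' : uS * uS = 1 := Subtype.ext hu2
  have hz1' : zS ≠ 1 := fun e => hz1 (congrArg Subtype.val e)
  have hu1' : uS ≠ 1 := fun e => hu1 (congrArg Subtype.val e)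
  have huz' : uS ≠ zS := fun e => huz (congrArg Subtype.val e)
  have hzcS : ∀ g : ↥(S : Subgroup G), g * zS = zS * g := fun g => Subtype.ext (hzc g g.2)
  obtain ⟨U0, hU0, hzU0, huU0, hU0c⟩ := exists_four hz2' hu2' (hzcS uS).symm hz1' hu1' huz'.symm
  obtain ⟨V0, hV0, hV0U⟩ : ∃ V0 : Subgroup ↥(S : Subgroup G), IsKleinFour V0 ∧ ¬ Relation.ReflTransGen R V0 U0 := by
    by_contra h
    push Not at h
    exact hS fun A B hA hB =>
      (h A hA).trans (Relation.reflTransGen_swap.1 (Relation.ReflTransGen.mono (p := Function.swap R) (fun _ _ => hRsymm) _ _ (h B hB)))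
  obtain ⟨hV0e, hV0card⟩ := Fus.isKleinFour_iff_elementary.1 hV0
  obtain ⟨xS, hxV, hxu⟩ : ∃ x ∈ V0, x * uS ≠ uS * x := by
    by_contra h
    push Not at h
    refine hV0U (Relation.ReflTransGen.single ⟨hV0, hU0, fun a ha b hb => ?_⟩)
    exact hU0c a (hzcS a) (h a ha) b hb
  have hx2' : xS * xS = 1 := by rw [← pow_two]; exact hV0e.2 _ hxV
  have hxu' : (xS : G) * u = u * z * (xS : G) := (hout _ xS.2).resolve_left fun e => hxu (Subtype.ext e)
  have hxz : zS ≠ xS := fun e => hxu (by rw [← e]; exact (hzcS uS).symm)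
  have hx1' : xS ≠ 1 := fun e => hxu (by rw [e, one_mul, mul_one])
  obtain ⟨X0, hX0, -, -, hX0c⟩ := exists_four hz2' hx2' (hzcS xS).symm hz1' hx1' hxz
  have hV0X : R V0 X0 := ⟨hV0, hX0, fun a ha b hb =>
    hX0c a (hzcS a) (Grp.elemAb_comm hV0e a ha xS hxV) b hb⟩
  have rank1 : ∀ y ∈ S, y * u = u * y → y * (xS : G) = (xS : G) * y → y * y = 1 → y = 1 ∨ y = z := by
    intro y hy hyu hyx hy2
    by_contra h
    push Not at h
    let yS : ↥(S : Subgroup G) := ⟨y, hy⟩
    obtain ⟨W, hW, -, -, hWc⟩ := exists_four hz2' (show yS * yS = 1 from Subtype.ext hy2) (hzcS yS).symm hz1'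
      (fun e => h.1 (congrArg Subtype.val e)) (fun e => h.2 (congrArg Subtype.val e).symm)
    have hXW : R X0 W := ⟨hX0, hW, fun a ha b hb =>
      hWc a (hzcS a) (hX0c yS (hzcS yS) (Subtype.ext hyx) a ha).symm b hb⟩
    have hWU : R W U0 := ⟨hW, hU0, fun a ha b hb =>
      hU0c a (hzcS a) (hWc uS (hzcS uS) (Subtype.ext hyu.symm) a ha).symm b hb⟩
    exact hV0U ((Relation.ReflTransGen.single hV0X).tail hXW |>.tail hWU)
  have rank3 : ∃ t ∈ S, t * u = u * t ∧ t * t = 1 ∧ ¬ (t = 1 ∨ t = z ∨ t = u ∨ t = u * z) := by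
    by_contra hno
    push Not at hno
    have hcomm : ∀ a ∈ E, ∀ b ∈ E, a * b = b * a := fun a ha b hb => Grp.elemAb_comm hE a ha b hb
    have hsq : ∀ a ∈ E, a * a = 1 := fun a ha => by rw [← pow_two]; exact hE.2 a ha
    have hsmall : ∀ a ∈ E, a * u = u * a → a = 1 ∨ a = z ∨ a = u ∨ a = u * z := by
      intro a ha hau
      exact hno a (hES ha) hau (hsq a ha)
    by_cases hout0 : ∀ a ∈ E, a * u = u * a
    · have hle : ((E : Subgroup G) : Set G) ⊆ ({1, z, u, u * z} : Set G) := fun a ha => hsmall a ha (hout0 a ha)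
      have h1 := Set.ncard_le_ncard hle (Set.toFinite _)
      rw [show ((E : Subgroup G) : Set G).ncard = Nat.card ↥E from (Nat.card_coe_set_eq _).symm] at h1
      have e1 := Set.ncard_insert_le (1 : G) {z, u, u * z}
      have e2 := Set.ncard_insert_le z {u, u * z}
      have e3 := Set.ncard_insert_le u {u * z}
      rw [Set.ncard_singleton] at e3
      omega
    · push Not at hout0
      obtain ⟨e0, he0, he0u⟩ := hout0
      have hu_not : ∀ a ∈ E, a ≠ u ∧ a ≠ u * z := fun a ha => ⟨fun e => he0u (e ▸ hcomm e0 he0 a ha), fun e => by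
        have h := hcomm e0 he0 a ha
        rw [e, ← mul_assoc, mul_assoc u z e0, ← hzc e0 (hES he0), ← mul_assoc u e0 z] at h
        exact he0u (mul_right_cancel h)⟩
      have hsmall' : ∀ a ∈ E, a * u = u * a → a = 1 ∨ a = z := fun a ha hau => by
        rcases hsmall a ha hau with h | h | h | h
        exacts [Or.inl h, Or.inr h, absurd h (hu_not a ha).1, absurd h (hu_not a ha).2]
      have h0 := (hout e0 (hES he0)).resolve_left he0u
      have hle : ((E : Subgroup G) : Set G) ⊆ ({1, z, e0, e0 * z} : Set G) := by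
        intro a ha
        by_cases hau : a * u = u * a
        · rcases hsmall' a ha hau with h | h
          · exact Or.inl h
          · exact Or.inr (Or.inl h)
        · have ha' := (hout a (hES ha)).resolve_left hau
          have hcu : e0 * a * u = u * (e0 * a) := by
            rw [mul_assoc, ha', ← mul_assoc, ← mul_assoc, h0, mul_assoc (u * z) e0 z, hzc e0 (hES he0),
              ← mul_assoc (u * z) z e0, mul_assoc u z z, hz2, mul_one, mul_assoc]
          have e : a = e0 * (e0 * a) := by rw [← mul_assoc, hsq e0 he0, one_mul]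
          rcases hsmall' _ (E.mul_mem he0 ha) hcu with h | h <;> rw [h] at e
          · exact Or.inr (Or.inr (Or.inl (by rw [e, mul_one])))
          · exact Or.inr (Or.inr (Or.inr e))
      have h1 := Set.ncard_le_ncard hle (Set.toFinite _)
      rw [show ((E : Subgroup G) : Set G).ncard = Nat.card ↥E from (Nat.card_coe_set_eq _).symm] at h1
      have e1 := Set.ncard_insert_le (1 : G) {z, e0, e0 * z}
      have e2 := Set.ncard_insert_le z {e0, e0 * z}
      have e3 := Set.ncard_insert_le e0 {e0 * z}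
      rw [Set.ncard_singleton] at e3
      omega
  exact ⟨{ S := S, z := z, u := u, x := xS, zS := hzS, uS := huS, xS := xS.2, z2 := hz2, u2 := hu2,
           x2 := congrArg Subtype.val hx2', z1 := hz1, u1 := hu1, uz := huz, zc := hzc, hu := hout, xu := hxu',
           rank1 := rank1, rank3 := rank3 }, rfl⟩

end Cfsg.Agent.Spor.JTwoType.Disc
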