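import Cfsg.Agent.Lib.Spor.JTwoType.Disc.Table
import Cfsg.Agent.Lib.Spor.JTwoType.J2

/-!
# The Sylow 2-subgroup has Hall-Janko shape

Four commuting involutions and their conjugates of `x` coordinatise the Sylow 2-subgroup.
-/

set_option autoImplicit false
set_option linter.unusedSectionVars false
set_option linter.style.haveILetI false

namespace Cfsg.Agent.Spor.JTwoType.Disc

open Subgroup

theorem pI_ne : ∀ j i : Fin 4, j ≠ 0 → pI j i ≠ i := by decide +kernel

theorem pI_eq : pI = ![![0, 1, 2, 3], ![1, 0, 3, 2], ![2, 3, 0, 1], ![3, 2, 1, 0]] := by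
  funext i j; fin_cases i <;> fin_cases j <;> rfl

theorem pI_cancel : ∀ i j : Fin 4, pI (pI i j) j = i ∧ pI i j = pI j i := by decide +kernel

theorem assoc_code : ∀ n m : Fin 128, mulM (invM m) n = 0 → n = m := by decide +kernel

namespace Conf

variable {G : Type*} [Group G] [Finite G] {c : Conf G} {q r : G}

theorem Tri.exists_v (d : c.Tri q r) {t : G} (ht : c.IsT t) (hs : c.Sig q r t (3, 2)) :
    ∃ v, c.IsT v ∧ c.Sig q r v (2, 1) ∧ t * v = v * t ∧ c.IsT (t * v) ∧ c.Sig q r (t * v) (1, 3) := by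
  have hsx : c.Sig q r (c.cx t) (2, 1) := hs.cx d
  set q2 := r⁻¹ * q * r with hq2
  have hA2 : InA q r q2 := d.A2
  set v := c.cx t * q2 with hv
  have hsv : c.Sig q r v (2, 1) := hsx.mul (d.sig_A hA2)
  have hv2 : v * v = 1 := by
    have h1 : c.cx t * q2 * (c.cx t)⁻¹ = c.u * c.z * q2 := hsx.second d
    rw [inv_eq_of_mul_eq_one_right ht.cx.2.1] at h1
    rw [hv, ← mul_assoc, h1, mul_assoc (c.u * c.z), d.sq2, c.inU_uz.sq]
  have hvT : c.IsT v := ⟨hsv.1, hv2, fun h => by
    have := hsv.unique (d.sig_A (d.AU h))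
    exact absurd this (by decide)⟩
  have hsp : c.Sig q r (t * v) (1, 3) := hs.mul hsv
  have htv2 : t * v * (t * v) = 1 := by
    have h1 : t * c.cx t * q2 * (t * c.cx t)⁻¹ = c.u * q2 := (hs.mul hsx).second d
    have h2 := d.sq_rot ht
    rw [hv, show t * (c.cx t * q2) * (t * (c.cx t * q2)) =
      (t * c.cx t * q2 * (t * c.cx t)⁻¹) * (t * c.cx t * (t * c.cx t)) * q2 by group, h1, h2, mul_assoc _ c.z,
      ← c.zc q2 (c.T_le d.T2), mul_assoc c.u, ← mul_assoc q2, d.sq2, mul_assoc c.u, c.z2, mul_one, c.u2]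
  refine ⟨v, hvT, hsv, ?_, ⟨hsp.1, htv2, fun h => ?_⟩, hsp⟩
  · have h := inv_eq_of_mul_eq_one_right htv2
    rw [mul_inv_rev, inv_eq_of_mul_eq_one_right hv2, inv_eq_of_mul_eq_one_right ht.2.1] at h
    exact h.symm
  · have := hsp.unique (d.sig_A (d.AU h))
    exact absurd this (by decide)

variable [IsSimpleGroup G]

theorem exists_shape (c : Conf G) : Nonempty (Shape (c.S : Subgroup G)) := by
  classical
  obtain ⟨q, r, d⟩ := c.exists_tri
  obtain ⟨t, ht, hts⟩ := d.exists_t
  obtain ⟨v, hv, hvs, htv, hp, hps⟩ := d.exists_v ht hts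
  have ht2 := ht.2.1
  have hv2 := hv.2.1
  have hp2 := hp.2.1
  set H : Fin 4 → G := ![1, t, v, t * v] with hHdef
  have hHT : ∀ i, H i ∈ c.T := by
    intro i; fin_cases i <;> simp [H, c.T.one_mem, ht.1, hv.1, hp.1]
  have hH : ∀ i j, H i * H j = H (pI i j) := by
    have e1 : t * (t * v) = v := by rw [← mul_assoc, ht2, one_mul]
    have e2 : v * (t * v) = t := by rw [htv, ← mul_assoc, hv2, one_mul]
    have e3 : t * v * t = v := by rw [htv, mul_assoc, ht2, mul_one]
    have e4 : t * v * v = t := by rw [mul_assoc, hv2, mul_one]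
    intro i j
    fin_cases i <;> fin_cases j <;> simp [H, pI_eq, ht2, hv2, hp2, e1, e2, e3, e4, ← htv]
  have hH2 : ∀ i, H i * H i = 1 := fun i => by rw [hH, pI_self]; rfl
  have hHisT : ∀ i, i ≠ 0 → c.IsT (H i) := by
    intro i hi
    fin_cases i
    exacts [absurd rfl hi, ht, hv, hp]
  set a : Fin 4 → G := fun i => H i * c.x * H i with hadef
  have haS : ∀ i, a i ∈ c.S := fun i =>
    (c.S : Subgroup G).mul_mem ((c.S : Subgroup G).mul_mem (c.T_le (hHT i)) c.xS) (c.T_le (hHT i))
  have hprod : ∀ i j, a i * a j = H i * (c.cx (H (pI i j)) * H (pI i j)) * H i := by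
    intro i j
    have e : H i * H j = H (pI i j) := hH i j
    have e' : H (pI i j) * H i = H j := by rw [hH, (pI_cancel i j).2, (pI_cancel j i).1]
    calc H i * c.x * H i * (H j * c.x * H j) = H i * c.x * (H i * H j) * c.x * H j := by group
      _ = H i * c.x * H (pI i j) * c.x * (H (pI i j) * H i) := by rw [e, e']
      _ = _ := by rw [c.cx_def]; group
  have hanti : Anti c.z a := by
    refine ⟨c.z2, fun i => (c.zc _ (haS i)).symm, fun i => ?_, fun i j hij => ?_⟩
    · calc H i * c.x * H i * (H i * c.x * H i) = H i * c.x * (H i * H i) * c.x * H i := by group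
        _ = H i * (c.x * c.x) * H i := by rw [hH2]; group
        _ = 1 := by rw [c.x2, mul_one, hH2]
    · have hh : c.IsT (H (pI i j)) := hHisT _ fun e => hij (by
        have := (pI_cancel i j).1
        rw [e] at this
        revert this; revert i j; decide +kernel)
      set h := H (pI i j) with hhdef
      have hsq : c.cx h * h * (c.cx h * h) = c.z := by
        have := congrArg c.cx (d.sq_rot hh)
        rwa [map_mul c.cx (h * c.cx h), map_mul c.cx h, c.cx_cx, c.cx_z] at this
      have h2 : a i * a j * (a i * a j) = c.z := by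
        rw [hprod, show H i * (c.cx h * h) * H i * (H i * (c.cx h * h) * H i) =
          H i * ((c.cx h * h) * (H i * H i) * (c.cx h * h)) * H i by group, hH2, mul_one, hsq, c.zc _ (c.T_le (hHT i)),
          mul_assoc, hH2, mul_one]
      have hsqi : ∀ k, (a k)⁻¹ = a k := fun k => inv_eq_of_mul_eq_one_right (by
        calc H k * c.x * H k * (H k * c.x * H k) = H k * c.x * (H k * H k) * c.x * H k := by group
          _ = H k * (c.x * c.x) * H k := by rw [hH2]; group
          _ = 1 := by rw [c.x2, mul_one, hH2])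
      calc a i * a j = (a i * a j * (a i * a j)) * (a i * a j)⁻¹ := (mul_inv_cancel_right _ _).symm
        _ = _ := by rw [h2, mul_inv_rev, hsqi, hsqi]
  have hHz : ∀ i, H i * c.z = c.z * H i := fun i => c.zc _ (c.T_le (hHT i))
  have hHa : ∀ j i, H j * a i = a (pI j i) * H j := by
    intro j i
    have e : H (pI j i) * H j = H i := by rw [hH, (pI_cancel j i).2, (pI_cancel i j).1]
    calc H j * (H i * c.x * H i) = (H j * H i) * c.x * H i := by group
      _ = H (pI j i) * c.x * (H (pI j i) * H j) := by rw [hH, e]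
      _ = _ := by simp only [a, mul_assoc]
  have hker : ∀ n, val c.z a H n = 1 → n = 0 := by
    intro n hn
    unfold val at hn
    set b := ((n : ℕ) / 16 % 2 == 1) with hb
    set x : Fin 16 := ⟨(n : ℕ) % 16, Nat.mod_lt _ (by norm_num)⟩ with hx
    set j : Fin 4 := ⟨(n : ℕ) / 32, by omega⟩ with hj
    have hzj : zz c.z b * monA a x = H j := by
      rw [eq_inv_of_mul_eq_one_left hn, inv_eq_of_mul_eq_one_right (hH2 j)]
    have hsign : ∀ i : Fin 4, zz c.z (xor (betaF x (2 ^ (i : ℕ)) == 1) (betaF (2 ^ (i : ℕ)) x == 1)) * a i = a (pI j i) := by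
      intro i
      have h1 : H j * a i = zz c.z (xor (betaF x (2 ^ (i : ℕ)) == 1) (betaF (2 ^ (i : ℕ)) x == 1)) * a i * H j := by
        have hzz : ∀ (b : Bool) (y : G), y ∈ c.S → zz c.z b * y = y * zz c.z b := fun b y hy => by
          cases b <;> simp [zz, c.zc y hy]
        have hm : monA a x ∈ c.S := list_prod_mem fun y hy => by
          obtain ⟨k, -, rfl⟩ := List.mem_map.1 hy
          exact haS k
        rw [← hzj, mul_assoc, hanti.monA_comm x i, ← mul_assoc, hzz _ _ (by
          cases (xor (betaF x (2 ^ (i : ℕ)) == 1) (betaF (2 ^ (i : ℕ)) x == 1)) <;> simp [zz, c.zS])]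
        simp only [mul_assoc]
        congr 1
        rw [← mul_assoc (zz c.z b) (a i), hzz _ _ (haS i), mul_assoc]
      rw [hHa] at h1
      exact (mul_right_cancel h1).symm
    by_cases hj0 : j = 0
    · have hx0 : x = 0 := by
        by_contra hx0
        obtain ⟨i, hi⟩ := sign_table x hx0
        have h1 := hsign i
        rw [hi, hj0, show pI 0 i = i by rw [pI_eq]; fin_cases i <;> rfl] at h1
        exact c.z1 (mul_eq_right.1 h1)
      refine split_code n (congrArg Fin.val hx0) (congrArg Fin.val hj0) ?_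
      rw [hj0, hx0] at hzj
      have h1 : monA a 0 = 1 := by rw [monA, show lst (0 : Fin 16) = [] by decide +kernel, W_nil]
      rw [h1, mul_one] at hzj
      have hb' : b = false := by
        cases hb1 : b with
        | false => rfl
        | true => rw [hb1] at hzj; exact absurd hzj c.z1
      rw [hb, beq_eq_false_iff_ne] at hb'
      omega
    · exfalso
      set k := pI j 0 with hk
      have hk0 : k ≠ 0 := pI_ne j 0 hj0
      have hcomm : a k * a 0 = a 0 * a k := by
        rw [hk, ← hsign 0]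
        cases (xor (betaF x (2 ^ ((0 : Fin 4) : ℕ)) == 1) (betaF (2 ^ ((0 : Fin 4) : ℕ)) x == 1)) <;>
          simp [zz, mul_assoc, ← c.zc (a 0) (haS 0)]
      have h1 := hanti.anti k 0 hk0
      rw [hcomm] at h1
      exact c.z1 (right_eq_mul.1 h1)
  have hmul := val_mul hanti hH hHz hHa
  have hval : ∀ n, val c.z a H n ∈ (c.S : Subgroup G) := fun n => by
    refine (c.S : Subgroup G).mul_mem ((c.S : Subgroup G).mul_mem ?_ ?_) (c.T_le (hHT _))
    · cases ((n : ℕ) / 16 % 2 == 1)
      · exact one_mem _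
      · exact c.zS
    · exact list_prod_mem fun y hy => by
        obtain ⟨i, -, rfl⟩ := List.mem_map.1 hy
        exact haS i
  have h0 : val c.z a H 0 = 1 := by
    have h' := hmul 0 0
    rw [(invM_spec 0).2.2.1] at h'
    exact mul_eq_left.1 h'
  have hinj : Function.Injective (fun n => (⟨val c.z a H n, hval n⟩ : ↥(c.S : Subgroup G))) := fun n m e => by
    have e' : val c.z a H n = val c.z a H m := congrArg Subtype.val e
    refine assoc_code n m (hker _ ?_)
    rw [← hmul, e', hmul, (invM_spec m).2.1, h0]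
  have h128 : Nat.card ↥(c.S : Subgroup G) = 128 := by
    refine le_antisymm ?_ (by simpa using Nat.card_le_card_of_injective _ hinj)
    let f : Bool × Fin 4 × Fin 4 × Fin 4 → ↥(c.S : Subgroup G) := fun p =>
      ⟨(if p.1 then c.x else 1) * (H p.2.1 * ((r * q * r⁻¹) ^ (p.2.2.1 : ℕ) * (r⁻¹ * q * r) ^ (p.2.2.2 : ℕ))), by
        refine (c.S : Subgroup G).mul_mem ?_ ((c.S : Subgroup G).mul_mem (c.T_le (hHT _))
          (c.T_le (c.T.mul_mem (c.T.pow_mem d.T1 _) (c.T.pow_mem d.T2 _))))
        cases p.1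
        · exact one_mem _
        · exact c.xS⟩
    have hsigs : ∀ g ∈ c.T, ∃ j, InA q r (H j * g) := by
      intro g hg
      obtain ⟨⟨i, k⟩, hs⟩ := d.exists_sig hg
      rcases hs.ok d with h | h | h | h <;> obtain ⟨rfl, rfl⟩ := h
      · exact ⟨0, Sig.inA d (by simpa [H] using hs)⟩
      · exact ⟨3, Sig.inA d (hps.mul hs)⟩
      · exact ⟨1, Sig.inA d (hts.mul hs)⟩
      · exact ⟨2, Sig.inA d (hvs.mul hs)⟩
    have h4 : ∀ y : G, y * y * (y * y) = 1 → ∀ i : ℤ, ∃ n : Fin 4, y ^ i = y ^ (n : ℕ) := by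
      intro y hy i
      refine ⟨⟨(i % 4).toNat, by omega⟩, ?_⟩
      have e : y ^ (4 : ℤ) = 1 := by rw [← hy]; simp [pow_succ, mul_assoc, zpow_ofNat]
      conv_lhs => rw [← Int.emod_add_mul_ediv i 4, zpow_add, zpow_mul, e, one_zpow, mul_one]
      rw [← zpow_natCast]
      congr 1
      simp only
      omega
    have hsurj : Function.Surjective f := by
      rintro ⟨g, hg⟩
      obtain ⟨b, hb⟩ : ∃ b : Bool, (if b then c.x else 1) * g ∈ c.T := by
        by_cases h : g ∈ c.T
        · exact ⟨false, by simpa using h⟩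
        · exact ⟨true, by simpa using c.x_mul hg h⟩
      obtain ⟨j, i, k, hjk⟩ := hsigs _ hb
      obtain ⟨n, hn⟩ := h4 _ (by rw [d.sq1, c.u2]) i
      obtain ⟨m, hm⟩ := h4 _ (by rw [d.sq2, c.inU_uz.sq]) k
      refine ⟨(b, j, n, m), Subtype.ext ?_⟩
      show (if b then c.x else 1) * (H j * ((r * q * r⁻¹) ^ (n : ℕ) * (r⁻¹ * q * r) ^ (m : ℕ))) = g
      rw [← hn, ← hm, ← hjk, ← mul_assoc (H j), hH2, one_mul]
      cases b <;> simp [← mul_assoc, c.x2]
    have := Nat.card_le_card_of_surjective f hsurj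
    simpa using this
  exact Cfsg.Agent.Spor.JTwoType.exists_shape h128 hanti c.zS haS (fun i => c.T_le (hHT i)) hH hHz hHa hker

end Conf

end Cfsg.Agent.Spor.JTwoType.Disc
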