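import Cfsg.Agent.Lib.Spor.JTwoType.Disc.Contra
import Cfsg.Agent.Lib.Fus.ZStarCenter
import Cfsg.Agent.Lib.Grp.Cores

/-!
# The four-group is fused, and an element of three-power order rotates it

In a simple group `z` is conjugate to `u`, and then some element normalizing `T`, inverted by `x`, permutes the
involutions of the four-group cyclically.
-/

set_option autoImplicit false
set_option linter.unusedSectionVars false
set_option linter.style.haveILetI false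

namespace Cfsg.Agent.Spor.JTwoType.Disc

open Subgroup

namespace Conf

variable {G : Type*} [Group G] [Finite G] (c : Conf G)

/-- An involution of `T` central in `T` lies in the four-group. -/
theorem central_inU {a : G} (ha : a ∈ c.T) (h2 : a * a = 1) (hc : ∀ r ∈ c.T, r * a = a * r) : c.InU a := by
  by_contra h
  exact IsT.noncomm (c := c) ⟨ha, h2, h⟩ (hc _ (c.cx_T ha)).symm

variable [IsSimpleGroup G]

include c in
theorem perfect : commutator G = ⊤ := by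
  refine (IsSimpleGroup.eq_bot_or_eq_top_of_normal (commutator G) inferInstance).resolve_left fun e => ?_
  obtain ⟨t, ht⟩ := c.exists_isT
  have h1 : t * c.cx t * t⁻¹ * (c.cx t)⁻¹ ∈ (⊥ : Subgroup G) := e ▸ by
    rw [← commutatorElement_def]
    exact Subgroup.commutator_mem_commutator (mem_top _) (mem_top _)
  rw [mem_bot, mul_inv_eq_one, mul_inv_eq_iff_eq_mul] at h1
  exact ht.noncomm h1

theorem exists_fused : ∃ g : G, g * c.z * g⁻¹ = c.u := by
  by_contra hno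
  push Not at hno
  haveI : Fact (Nat.Prime 2) := ⟨Nat.prime_two⟩
  obtain ⟨w, hwS, hwz, hw⟩ : ∃ w ∈ c.S, w ≠ c.z ∧ c.Zc w := by
    by_contra h
    push Not at h
    have hI : Fus.IsoElt c.S c.z := ⟨c.zS, fun g hg => by
      by_contra hne
      exact h _ hg hne ⟨g, rfl⟩⟩
    have hO : Cfsg.pPrimeCore 2 G = ⊥ := by
      haveI : (Cfsg.pPrimeCore 2 G).Normal := Grp.pPrimeCore_isNormal
      refine (IsSimpleGroup.eq_bot_or_eq_top_of_normal _ inferInstance).resolve_right fun e => ?_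
      have h1 := Grp.pPrimeCore_coprime (p := 2) (G := G)
      rw [e, card_top] at h1
      have h2 : orderOf c.z = 2 := orderOf_eq_prime (by rw [pow_two]; exact c.z2) c.z1
      exact Nat.Prime.not_coprime_iff_dvd.2 ⟨2, Nat.prime_two, h2 ▸ orderOf_dvd_natCard _, dvd_rfl⟩ h1
    have hc : c.z ∈ center G := mem_center_iff.2 fun g => by
      have h1 := Fus.IsoElt.commutator_mem _ G rfl c.S _ hI g
      rw [hO, mem_bot, mul_inv_eq_one, mul_inv_eq_iff_eq_mul] at h1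
      exact h1.symm
    obtain ⟨t, ht⟩ := c.exists_isT
    rcases IsSimpleGroup.eq_bot_or_eq_top_of_normal (center G) inferInstance with e | e
    · rw [e, mem_bot] at hc; exact c.z1 hc
    · exact ht.noncomm ((mem_center_iff.1 (e ▸ mem_top (c.cx t))) t)
  have isT : ∀ {a : G}, a ∈ c.T → a ≠ c.z → c.Zc a → c.IsT a ∧ c.Zc a := fun ha hne h =>
    ⟨⟨ha, h.sq, fun hU => hne (Zc.eq_z hno h hU)⟩, h⟩
  obtain ⟨q, hq⟩ := c.exists_cent
  obtain ⟨t, ht, htc⟩ : ∃ t, c.IsT t ∧ c.Zc t := by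
    by_cases hwT : w ∈ c.T
    · exact ⟨w, isT hwT hwz hw⟩
    · obtain ⟨a, haT, ha2, hwa⟩ := hq.out_comm hwS hwT hw.sq
      obtain ⟨f, hf, hfS⟩ := extr hwS hw
      have e : f * c.z * f⁻¹ = (f * a * f⁻¹) * (f * a * f⁻¹) := by rw [← ha2]; group
      refine ⟨f * c.z * f⁻¹, isT (e ▸ c.sq_mem (hfS a (c.T_le haT) hwa.symm)) (fun r => hwz ?_) ⟨f, rfl⟩⟩
      have r' : f * c.z * f⁻¹ = f * w * f⁻¹ := r.trans hf.symm
      exact (mul_left_cancel (mul_right_cancel r')).symm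
  exact (show c.Small q t from ⟨hq, ht, htc, hno⟩).false c.perfect

/-- An element normalizing `T` moves `u` to `z`. -/
theorem exists_norm : ∃ f ∈ normalizer (c.T : Set G), f * c.u * f⁻¹ = c.z := by
  classical
  obtain ⟨f, hf, hfS⟩ := extr c.uS c.exists_fused
  refine ⟨f, mem_normalizer_fintype fun r hr => ?_, hf⟩
  have hS : ∀ r ∈ c.T, f * r * f⁻¹ ∈ c.S := fun r hr => hfS r (c.T_le hr) (c.mem_T.1 hr).2
  set w := f * c.z * f⁻¹ with hw
  have hwT : w ∈ c.T := by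
    obtain ⟨t, ht⟩ := c.exists_isT
    obtain ⟨k, s, -, hsT, -, -, hts, -⟩ := ht.rot
    have e : c.z = t * s * t⁻¹ * s⁻¹ := by
      rw [hts, mul_assoc (s * c.z) t, mul_inv_cancel, mul_one, c.zc s (c.T_le hsT), mul_inv_cancel_right]
    rw [hw, e, show f * (t * s * t⁻¹ * s⁻¹) * f⁻¹ =
      (f * t * f⁻¹) * (f * s * f⁻¹) * (f * t * f⁻¹)⁻¹ * (f * s * f⁻¹)⁻¹ by group]
    exact c.commutator_T (hS t ht.1) (hS s hsT)
  have hwc : ∀ r ∈ c.T, f * r * f⁻¹ * w = w * (f * r * f⁻¹) := fun r hr => by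
    rw [hw, show f * r * f⁻¹ * (f * c.z * f⁻¹) = f * (r * c.z) * f⁻¹ by group, c.zc r (c.T_le hr)]; group
  have hw2 : w * w = 1 := (show c.Zc w from ⟨f, rfl⟩).sq
  have hwz : w ≠ c.z := fun e => c.uz (by
    have e' : f * c.z * f⁻¹ = f * c.u * f⁻¹ := (hw ▸ e).trans hf.symm
    exact (mul_left_cancel (mul_right_cancel e')).symm)
  suffices hwU : c.InU w by
    have hw' : w = c.u ∨ w = c.u * c.z := by
      rcases hwU with h | h | h | h
      · exact absurd (conj_eq_one_iff.1 h) c.z1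
      · exact absurd h hwz
      · exact Or.inl h
      · exact Or.inr h
    refine c.mem_T.2 ⟨hS r hr, ?_⟩
    have h1 := hwc r hr
    rcases hw' with h | h <;> rw [h] at h1
    · exact h1
    · rw [mul_assoc c.u c.z, ← c.zc _ (hS r hr), ← mul_assoc _ c.u c.z, ← mul_assoc c.u _ c.z] at h1
      exact mul_right_cancel h1
  by_contra hwU
  have hT : c.IsT w := ⟨hwT, hw2, hwU⟩
  set Ts := c.T.subgroupOf (c.S : Subgroup G) with hTs
  have hidx : Ts.index = 2 := Subgroup.index_eq_two_iff.2 ⟨⟨c.x, c.xS⟩, fun b => by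
    simp only [hTs, Subgroup.mem_subgroupOf, Subgroup.coe_mul]
    rw [c.mem_T_mul b.2 c.xS]
    by_cases hb : (b : G) ∈ c.T
    · exact Or.inr ⟨hb, fun h => c.x_not_T (h.1 hb)⟩
    · exact Or.inl ⟨⟨fun h => absurd h hb, fun h => absurd h c.x_not_T⟩, hb⟩⟩
  have hMle : c.T.map (MulAut.conj f).toMonoidHom ≤ (c.S : Subgroup G) := by
    rintro _ ⟨r, hr, rfl⟩
    exact hS r hr
  set M := (c.T.map (MulAut.conj f).toMonoidHom).subgroupOf (c.S : Subgroup G)
  have hMidx : M.index = 2 := by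
    have h1 : Nat.card ↥M = Nat.card ↥Ts := by
      rw [Nat.card_congr (subgroupOfEquivOfLe hMle).toEquiv, Nat.card_congr (subgroupOfEquivOfLe c.T_le).toEquiv,
        card_map_of_injective (MulAut.conj f).injective]
    have h2 := M.card_mul_index
    rw [h1, ← Ts.card_mul_index, hidx] at h2
    exact Nat.eq_of_mul_eq_mul_left Nat.card_pos h2
  haveI := Subgroup.normal_of_index_eq_two hMidx
  have hwM : (⟨w, c.T_le hwT⟩ : ↥(c.S : Subgroup G)) ∈ M := ⟨c.z, c.z_T, rfl⟩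
  obtain ⟨a, ha, hae⟩ : ∃ a ∈ c.T, f * a * f⁻¹ = c.cx w := by
    obtain ⟨a, ha, hae⟩ := Subgroup.Normal.conj_mem inferInstance _ hwM ⟨c.x, c.xS⟩
    refine ⟨a, ha, ?_⟩
    have h : f * a * f⁻¹ = c.x * w * c.x⁻¹ := hae
    rw [h, c.xi, c.cx_def]
  have haU : c.InU a := by
    refine c.central_inU ha ?_ fun r hr => ?_
    · have h1 : f * (a * a) * f⁻¹ = 1 := by
        rw [show f * (a * a) * f⁻¹ = (f * a * f⁻¹) * (f * a * f⁻¹) by group, hae, ← map_mul, hw2, map_one]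
      exact conj_eq_one_iff.1 h1
    · have hrM : (⟨f * r * f⁻¹, hS r hr⟩ : ↥(c.S : Subgroup G)) ∈ M := ⟨r, hr, rfl⟩
      obtain ⟨r', hr', hre⟩ := Subgroup.Normal.conj_mem inferInstance _ hrM ⟨c.x, c.xS⟩
      have h3 : f * r' * f⁻¹ = c.x * (f * r * f⁻¹) * c.x⁻¹ := hre
      have h4 := hwc r' hr'
      rw [h3, c.xi, ← c.cx_def] at h4
      have h4 := congrArg c.cx h4
      rw [map_mul c.cx (c.cx (f * r * f⁻¹)), map_mul c.cx w, c.cx_cx, ← hae] at h4
      refine mul_left_cancel (a := f) (mul_right_cancel (b := f⁻¹) ?_)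
      simpa [mul_assoc] using h4
  refine hT.noncomm ?_
  rw [← hae]
  show Commute w (f * a * f⁻¹)
  have h5 : Commute c.z a := (c.zc a (c.T_le ha)).symm
  exact h5.map (MulAut.conj f).toMonoidHom

/-- An element rotating the four-group. -/
structure Rot (c : Conf G) (r : G) : Prop where
  norm : r ∈ normalizer (c.T : Set G)
  cz : r * c.z * r⁻¹ = c.u
  cu : r * c.u * r⁻¹ = c.u * c.z
  inv : c.x * r * c.x = r⁻¹
  three : ∃ k : ℕ, orderOf r = 3 ^ k

theorem exists_rot : ∃ r, c.Rot r := by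
  classical
  obtain ⟨f, hfN, hfu⟩ := c.exists_norm
  have hxN : c.x ∈ normalizer (c.T : Set G) := mem_normalizer_fintype fun r hr => by
    rw [c.xi, ← c.cx_def]; exact c.cx_T hr
  let Fwd : G → Prop := fun r => r * c.z * r⁻¹ = c.u ∧ r * c.u * r⁻¹ = c.u * c.z
  let Bwd : G → Prop := fun r => r * c.z * r⁻¹ = c.u * c.z ∧ r * c.u * r⁻¹ = c.z
  have hprod : ∀ r a b : G, r * (a * b) * r⁻¹ = (r * a * r⁻¹) * (r * b * r⁻¹) := fun r a b => by group
  have hcomp : ∀ r s a : G, r * s * a * (r * s)⁻¹ = r * (s * a * s⁻¹) * r⁻¹ := fun r s a => by group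
  have huzu : c.u * c.z * c.u = c.z := by
    rw [mul_assoc, c.zu, ← mul_assoc, c.u2, one_mul]
  have fuz : ∀ r, Fwd r → r * (c.u * c.z) * r⁻¹ = c.z := fun r h => by rw [hprod, h.1, h.2, huzu]
  have buz : ∀ r, Bwd r → r * (c.u * c.z) * r⁻¹ = c.u := fun r h => by
    rw [hprod, h.1, h.2, ← mul_assoc, c.zu, mul_assoc, c.z2, mul_one]
  have xz : c.x * c.z * c.x⁻¹ = c.z := by rw [c.xi, ← c.cx_def, c.cx_z]
  have xu : c.x * c.u * c.x⁻¹ = c.u * c.z := by rw [c.xi, ← c.cx_def, c.cx_u]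
  have xuz : c.x * (c.u * c.z) * c.x⁻¹ = c.u := by rw [c.xi, ← c.cx_def, c.cx_uz]
  obtain ⟨r0, hr0N, hr0⟩ : ∃ r ∈ normalizer (c.T : Set G), Fwd r ∨ Bwd r := by
    have hfz : c.InU (f * c.z * f⁻¹) := by
      refine c.central_inU ((mem_normalizer_iff.1 hfN c.z).1 c.z_T) (show c.Zc _ from ⟨f, rfl⟩).sq fun r hr => ?_
      have hr' : f⁻¹ * r * f ∈ c.T := by
        have := (mem_normalizer_iff.1 (inv_mem hfN) r).1 hr
        rwa [inv_inv] at this
      calc r * (f * c.z * f⁻¹) = f * (f⁻¹ * r * f * c.z) * f⁻¹ := by group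
        _ = f * (c.z * (f⁻¹ * r * f)) * f⁻¹ := by rw [c.zc _ (c.T_le hr')]
        _ = f * c.z * f⁻¹ * r := by group
    rcases hfz with h | h | h | h
    · exact absurd (conj_eq_one_iff.1 h) c.z1
    · exfalso
      have h' : f * c.z * f⁻¹ = f * c.u * f⁻¹ := h.trans hfu.symm
      exact c.uz (mul_left_cancel (mul_right_cancel h')).symm
    · refine ⟨f * c.x, mul_mem hfN hxN, Or.inl ⟨?_, ?_⟩⟩
      · rw [hcomp, xz, h]
      · rw [hcomp, xu, hprod, hfu, h, c.zu]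
    · exact ⟨f, hfN, Or.inr ⟨h, hfu⟩⟩
  set r1 := c.x * r0 * c.x * r0⁻¹ with hr1
  have hr1N : r1 ∈ normalizer (c.T : Set G) := mul_mem (mul_mem (mul_mem hxN hr0N) hxN) (inv_mem hr0N)
  have hr1i : c.x * r1 * c.x = r1⁻¹ := by
    rw [hr1, mul_inv_rev, mul_inv_rev, mul_inv_rev, inv_inv, c.xi]
    calc c.x * (c.x * r0 * c.x * r0⁻¹) * c.x = (c.x * c.x) * (r0 * c.x * r0⁻¹ * c.x) := by group
      _ = _ := by rw [c.x2, one_mul]; group
  have binv : ∀ {a b : G} (r : G), r * a * r⁻¹ = b → r⁻¹ * b * r⁻¹⁻¹ = a := fun r h => by rw [← h]; group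
  have hFB : Fwd r1 ∨ Bwd r1 := by
    have hk : ∀ a, r1 * a * r1⁻¹ = c.x * (r0 * (c.x * (r0⁻¹ * a * r0⁻¹⁻¹) * c.x⁻¹) * r0⁻¹) * c.x⁻¹ := fun a => by
      rw [hr1]; group
    rcases hr0 with h | h
    · exact Or.inl ⟨by rw [hk, binv r0 (fuz r0 h), xuz, h.2, xuz],
        by rw [hk, binv r0 h.1, xz, h.1, xu]⟩
    · exact Or.inr ⟨by rw [hk, binv r0 h.2, xu, buz r0 h, xu],
        by rw [hk, binv r0 (buz r0 h), xuz, h.2, xz]⟩
  have hsq : ∀ r, (Fwd r → Bwd (r * r)) ∧ (Bwd r → Fwd (r * r)) := fun r =>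
    ⟨fun h => ⟨by rw [hcomp, h.1, h.2], by rw [hcomp, h.2, fuz r h]⟩,
      fun h => ⟨by rw [hcomp, h.1, buz r h], by rw [hcomp, h.2, h.1]⟩⟩
  have hcube : ∀ r, (Fwd r ∨ Bwd r) → ∀ a, c.InU a → r ^ 3 * a * (r ^ 3)⁻¹ = a := by
    intro r hr a ha
    rw [show r ^ 3 * a * (r ^ 3)⁻¹ = r * (r * (r * a * r⁻¹) * r⁻¹) * r⁻¹ by
      simp only [pow_succ, pow_zero, one_mul, mul_inv_rev, mul_assoc]]
    rcases ha with rfl | rfl | rfl | rfl
    · group
    all_goals rcases hr with h | h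
    · rw [h.1, h.2, fuz r h]
    · rw [h.1, buz r h, h.2]
    · rw [h.2, fuz r h, h.1]
    · rw [h.2, h.1, buz r h]
    · rw [fuz r h, h.1, h.2]
    · rw [buz r h, h.2, h.1]
  -- the part of three-power order
  obtain ⟨k, m, hm, hkm⟩ := Nat.exists_eq_pow_mul_and_not_dvd (orderOf_pos r1).ne' 3 (by norm_num)
  have hm0 : m ≠ 0 := fun e => hm (e ▸ dvd_zero 3)
  have hrest : Fwd (r1 ^ m) ∨ Bwd (r1 ^ m) := by
    have hstep : ∀ j : ℕ, ∀ l : ℕ, ∀ a, c.InU a →
        r1 ^ (3 * j + l) * a * (r1 ^ (3 * j + l))⁻¹ = r1 ^ l * a * (r1 ^ l)⁻¹ := by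
      intro j l
      induction j with
      | zero => intro a _; rw [mul_zero, zero_add]
      | succ j ih =>
        intro a ha
        rw [show 3 * (j + 1) + l = (3 * j + l) + 3 by ring, pow_add, hcomp, hcube r1 hFB a ha, ih a ha]
    have hml : m % 3 = 1 ∨ m % 3 = 2 := by omega
    rcases hml with e | e <;> rw [← Nat.div_add_mod m 3, e] <;> simp only [Fwd, Bwd] <;>
      rw [hstep _ _ _ c.inU_z, hstep _ _ _ c.inU_u]
    · rw [pow_one]; exact hFB
    · rw [pow_two]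
      exact hFB.elim (fun h => Or.inr ((hsq r1).1 h)) fun h => Or.inl ((hsq r1).2 h)
  have hord : orderOf (r1 ^ m) = 3 ^ k := by
    rw [orderOf_pow_of_dvd hm0 (hkm ▸ dvd_mul_left m _), hkm, Nat.mul_div_cancel _ (Nat.pos_of_ne_zero hm0)]
  have hinv : c.x * r1 ^ m * c.x = (r1 ^ m)⁻¹ := by
    conv_lhs => enter [2]; rw [← c.xi]
    rw [← conj_pow, c.xi, hr1i, inv_pow]
  rcases hrest with h | h
  · exact ⟨r1 ^ m, pow_mem hr1N m, h.1, h.2, hinv, k, hord⟩
  · refine ⟨(r1 ^ m)⁻¹, inv_mem (pow_mem hr1N m), binv _ h.2, binv _ (buz _ h), ?_, k, by rw [orderOf_inv, hord]⟩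
    · conv_lhs => enter [2]; rw [← c.xi]
      rw [← conj_inv, c.xi, hinv]

end Conf

end Cfsg.Agent.Spor.JTwoType.Disc
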