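import Cfsg.Agent.Lib.Spor.JTwoType.Disc.Fuse

/-!
# The fixed plane modulo the four-group

Among the elements of order four fixed by `x` and central in `T` modulo the four-group, one is congruent modulo the
four-group to the product of its two images under the rotation.
-/

set_option autoImplicit false
set_option linter.unusedSectionVars false
set_option linter.style.haveILetI false

namespace Cfsg.Agent.Spor.JTwoType.Disc

open Subgroup

namespace Conf

variable {G : Type*} [Group G] [Finite G] {c : Conf G} {r : G}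

theorem Rot.T_r (h : c.Rot r) {a : G} (ha : a ∈ c.T) : r * a * r⁻¹ ∈ c.T := (mem_normalizer_iff.1 h.norm a).1 ha

theorem Rot.T_r' (h : c.Rot r) {a : G} (ha : a ∈ c.T) : r⁻¹ * a * r ∈ c.T := by
  have := (mem_normalizer_iff.1 (inv_mem h.norm) a).1 ha
  rwa [inv_inv] at this

theorem Rot.cuz (h : c.Rot r) : r * (c.u * c.z) * r⁻¹ = c.z := by
  rw [show r * (c.u * c.z) * r⁻¹ = (r * c.u * r⁻¹) * (r * c.z * r⁻¹) by group, h.cu, h.cz, mul_assoc, c.zu,
    ← mul_assoc, c.u2, one_mul]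

theorem Rot.cz' (h : c.Rot r) : r⁻¹ * c.z * r = c.u * c.z := by
  conv_lhs => rw [← h.cuz]
  group

theorem Rot.cu' (h : c.Rot r) : r⁻¹ * c.u * r = c.z := by
  conv_lhs => rw [← h.cz]
  group

theorem Rot.cuz' (h : c.Rot r) : r⁻¹ * (c.u * c.z) * r = c.u := by
  conv_lhs => rw [← h.cu]
  group

theorem Rot.inU (h : c.Rot r) {a : G} (ha : c.InU a) : c.InU (r * a * r⁻¹) := by
  rcases ha with rfl | rfl | rfl | rfl
  · exact Or.inl (by group)
  · rw [h.cz]; exact c.inU_u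
  · rw [h.cu]; exact c.inU_uz
  · rw [h.cuz]; exact c.inU_z

theorem Rot.inU' (h : c.Rot r) {a : G} (ha : c.InU a) : c.InU (r⁻¹ * a * r) := by
  rcases ha with rfl | rfl | rfl | rfl
  · exact Or.inl (by group)
  · rw [h.cz']; exact c.inU_uz
  · rw [h.cu']; exact c.inU_z
  · rw [h.cuz']; exact c.inU_u

theorem Rot.fix_inU (h : c.Rot r) {a : G} (ha : c.InU a) (hf : r * a * r⁻¹ = a) : a = 1 := by
  rcases ha with rfl | rfl | rfl | rfl
  · rfl
  · exact absurd (h.cz.symm.trans hf) c.uz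
  · exact absurd (h.cu.symm.trans hf) c.uz_ne_u
  · exact absurd (h.cuz.symm.trans hf).symm c.uz_ne_z

theorem Rot.cx_r (h : c.Rot r) (a : G) : c.cx (r * a * r⁻¹) = r⁻¹ * c.cx a * r := by
  have hi : c.x * r⁻¹ * c.x = r := by
    rw [← h.inv]
    calc c.x * (c.x * r * c.x) * c.x = (c.x * c.x) * r * (c.x * c.x) := by group
      _ = r := by rw [c.x2, one_mul, mul_one]
  rw [c.cx_def, c.cx_def]
  calc c.x * (r * a * r⁻¹) * c.x = c.x * r * (c.x * c.x) * a * (c.x * c.x) * r⁻¹ * c.x := by rw [c.x2]; group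
    _ = (c.x * r * c.x) * (c.x * a * c.x) * (c.x * r⁻¹ * c.x) := by group
    _ = _ := by rw [h.inv, hi]

theorem Rot.cx_r' (h : c.Rot r) (a : G) : c.cx (r⁻¹ * a * r) = r * c.cx a * r⁻¹ := by
  refine c.cx_inj ?_
  rw [c.cx_cx, h.cx_r, c.cx_cx]

theorem Rot.isT' (h : c.Rot r) {t : G} (ht : c.IsT t) : c.IsT (r⁻¹ * t * r) := by
  refine ⟨h.T_r' ht.1, ?_, fun hu => ht.2.2 ?_⟩
  · rw [show r⁻¹ * t * r * (r⁻¹ * t * r) = r⁻¹ * (t * t) * r by group, ht.2.1, mul_one, inv_mul_cancel]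
  · have := h.inU hu
    rwa [show r * (r⁻¹ * t * r) * r⁻¹ = t by group] at this

theorem Rot.isT (h : c.Rot r) {t : G} (ht : c.IsT t) : c.IsT (r * t * r⁻¹) := by
  refine ⟨h.T_r ht.1, ?_, fun hu => ht.2.2 ?_⟩
  · rw [show r * t * r⁻¹ * (r * t * r⁻¹) = r * (t * t) * r⁻¹ by group, ht.2.1, mul_one, mul_inv_cancel]
  · have := h.inU' hu
    rwa [show r⁻¹ * (r * t * r⁻¹) * r = t by group] at this

/-- An element of order four, its images and the rotation. -/
structure Tri (c : Conf G) (q r : G) : Prop where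
  cent : c.Cent q
  rot : c.Rot r
  rel : c.InU (q⁻¹ * (r * q * r⁻¹) * (r⁻¹ * q * r))

/-- Two independent elements of order four fixed by `x` have commutator `z`. -/
theorem Cent.comm_z {a b : G} (ha : c.Cent a) (hb : c.Cent b) (h : ¬ c.InU (a⁻¹ * b)) :
    a * b * a⁻¹ * b⁻¹ = c.z := by
  have he := hb.comm a ha.mem
  refine (he.cx_eq (by rw [map_mul, map_mul, map_mul, map_inv, map_inv, ha.fixed, hb.fixed])).resolve_left fun e => h ?_
  rw [mul_inv_eq_one, mul_inv_eq_iff_eq_mul] at e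
  obtain ⟨f, hf, rfl⟩ := ha.sq_z hb.mem e.symm hb.sq
  rw [← mul_assoc, hf.comm (c.T.inv_mem ha.mem), mul_assoc, inv_mul_cancel, mul_one]
  exact hf

variable [IsSimpleGroup G]

theorem exists_tri (c : Conf G) : ∃ q r, c.Tri q r := by
  classical
  obtain ⟨r, hr⟩ := c.exists_rot
  obtain ⟨q, hq⟩ := c.exists_cent
  let U : Subgroup ↥c.T :=
    { carrier := {a | c.InU (a : G)}
      one_mem' := c.inU_one
      mul_mem' := fun {a b} (ha : c.InU (a : G)) (hb : c.InU (b : G)) => ha.mul hb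
      inv_mem' := fun {a} (ha : c.InU (a : G)) => show c.InU ((a : G))⁻¹ by rw [ha.inv]; exact ha }
  haveI : U.Normal := ⟨fun a (ha : c.InU (a : G)) g => by
    show c.InU ((g : G) * a * (g : G)⁻¹)
    rw [ha.comm g.2, mul_inv_cancel_right]; exact ha⟩
  let fR : ↥c.T →* ↥c.T := ((MulAut.conj r).toMonoidHom.comp c.T.subtype).codRestrict c.T fun a => hr.T_r a.2
  let fR' : ↥c.T →* ↥c.T := ((MulAut.conj r⁻¹).toMonoidHom.comp c.T.subtype).codRestrict c.T fun a => by
    show r⁻¹ * (a : G) * r⁻¹⁻¹ ∈ c.T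
    rw [inv_inv]; exact hr.T_r' a.2
  let fX : ↥c.T →* ↥c.T := (c.cx.comp c.T.subtype).codRestrict c.T fun a => c.cx_T a.2
  let R : ↥c.T ⧸ U →* ↥c.T ⧸ U := QuotientGroup.map U U fR fun a (ha : c.InU (a : G)) => hr.inU ha
  let R' : ↥c.T ⧸ U →* ↥c.T ⧸ U := QuotientGroup.map U U fR' fun a (ha : c.InU (a : G)) => by
    show c.InU (r⁻¹ * (a : G) * r⁻¹⁻¹)
    rw [inv_inv]; exact hr.inU' ha
  let X : ↥c.T ⧸ U →* ↥c.T ⧸ U := QuotientGroup.map U U fX fun a (ha : c.InU (a : G)) => ha.cx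
  let π := QuotientGroup.mk' U
  have hRR' : ∀ v, R (R' v) = v := fun v => by
    induction v using QuotientGroup.induction_on with | H a => ?_
    refine congrArg π (Subtype.ext ?_)
    show r * (r⁻¹ * (a : G) * r⁻¹⁻¹) * r⁻¹ = a
    group
  have hR'R : ∀ v, R' (R v) = v := fun v => by
    induction v using QuotientGroup.induction_on with | H a => ?_
    refine congrArg π (Subtype.ext ?_)
    show r⁻¹ * (r * (a : G) * r⁻¹) * r⁻¹⁻¹ = a
    group
  have hXR : ∀ v, X (R v) = R' (X v) := fun v => by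
    induction v using QuotientGroup.induction_on with | H a => ?_
    refine congrArg π (Subtype.ext ?_)
    show c.cx (r * (a : G) * r⁻¹) = r⁻¹ * c.cx a * r⁻¹⁻¹
    rw [inv_inv, hr.cx_r]
  have hXR' : ∀ v, X (R' v) = R (X v) := fun v => by
    induction v using QuotientGroup.induction_on with | H a => ?_
    refine congrArg π (Subtype.ext ?_)
    show c.cx (r⁻¹ * (a : G) * r⁻¹⁻¹) = r * c.cx a * r⁻¹
    rw [inv_inv, hr.cx_r']
  -- the plane
  let V : Subgroup (↥c.T ⧸ U) :=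
    { carrier := {v | v * v = 1 ∧ ∀ w, w * v = v * w}
      one_mem' := ⟨one_mul 1, fun w => by rw [mul_one, one_mul]⟩
      mul_mem' := fun {a b} ha hb => ⟨by
          rw [mul_assoc, ← mul_assoc b, ha.2 b, mul_assoc a b b, hb.1, mul_one, ha.1],
        fun w => by rw [← mul_assoc, ha.2 w, mul_assoc, hb.2 w, mul_assoc]⟩
      inv_mem' := fun {a} ha => by
        rw [Set.mem_ofPred_eq, inv_eq_of_mul_eq_one_right ha.1]; exact ha }
  have hVR : ∀ v ∈ V, R v ∈ V := fun v hv => ⟨by rw [← map_mul, hv.1, map_one], fun w => by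
    rw [← hRR' w, ← map_mul, hv.2, map_mul]⟩
  have hVR' : ∀ v ∈ V, R' v ∈ V := fun v hv => ⟨by rw [← map_mul, hv.1, map_one], fun w => by
    rw [← hR'R w, ← map_mul, hv.2, map_mul]⟩
  have hcent : ∀ a : ↥c.T, c.Cent a → π a ∈ V ∧ X (π a) = π a ∧ π a ≠ 1 := fun a ha =>
    ⟨⟨by
      rw [← map_mul]
      exact (QuotientGroup.eq_one_iff _).2 (show c.InU ((a : G) * a) by rw [ha.sq]; exact c.inU_z),
      fun w => by
        induction w using QuotientGroup.induction_on with | H g => ?_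
        show π g * π a = π a * π g
        rw [← mul_inv_eq_iff_eq_mul, ← mul_inv_eq_one, ← map_mul, ← map_inv, ← map_mul, ← map_inv, ← map_mul]
        exact (QuotientGroup.eq_one_iff _).2 (ha.comm g g.2)⟩,
      congrArg π (Subtype.ext ha.fixed), fun e => ha.not_InU ((QuotientGroup.eq_one_iff a).1 e)⟩
  have hlift : ∀ v ∈ V, X v = v → v ≠ 1 → ∃ a : ↥c.T, c.Cent a ∧ π a = v := by
    intro v hv hX hne
    induction v using QuotientGroup.induction_on with | H a => ?_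
    have haU : ¬ c.InU (a : G) := fun h => hne ((QuotientGroup.eq_one_iff a).2 h)
    have hcm : ∀ g ∈ c.T, c.InU (g * a * g⁻¹ * (a : G)⁻¹) := fun g hg =>
      (QuotientGroup.eq_one_iff (⟨g, hg⟩ * a * (⟨g, hg⟩ : ↥c.T)⁻¹ * a⁻¹)).1 (by
        show π (⟨g, hg⟩ * a * (⟨g, hg⟩ : ↥c.T)⁻¹ * a⁻¹) = 1
        rw [map_mul, map_mul, map_mul, map_inv, map_inv,
          show π ⟨g, hg⟩ * π a = π a * π ⟨g, hg⟩ from hv.2 _, mul_inv_cancel_right]
        exact mul_inv_cancel _)
    have hsq : c.InU ((a : G) * a) := (QuotientGroup.eq_one_iff (a * a)).1 hv.1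
    set e := (a : G)⁻¹ * c.cx a with hee
    have he : c.InU e := QuotientGroup.eq.1 hX.symm
    have hca : c.cx a = (a : G) * e := by rw [hee, mul_inv_cancel_left]
    have he2 : e * c.cx e = 1 := by
      have h3 : c.cx (c.cx a) = a * e * c.cx e := by rw [hca, map_mul, hca]
      rw [c.cx_cx, mul_assoc, eq_comm, mul_eq_left] at h3
      exact h3
    obtain ⟨f, hf, hfix⟩ : ∃ f, c.InU f ∧ c.cx ((a : G) * f) = (a : G) * f := by
      rcases he.cx_eq (by rw [eq_inv_of_mul_eq_one_right he2, he.inv]) with h | h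
      · exact ⟨1, c.inU_one, by rw [mul_one, hca, h, mul_one]⟩
      · refine ⟨c.u, c.inU_u, ?_⟩
        rw [map_mul, hca, h, c.cx_u, mul_assoc, ← mul_assoc c.z, c.zu, mul_assoc c.u, c.z2, mul_one]
    have hU : ¬ c.InU ((a : G) * f) := fun h => haU (by
      have := h.mul hf
      rwa [mul_assoc, hf.sq, mul_one] at this)
    have hmem : (a : G) * f ∈ c.T := c.T.mul_mem a.2 hf.mem
    have hsq' : (a : G) * f * ((a : G) * f) = a * a := by
      rw [mul_assoc, ← mul_assoc f, ← hf.comm a.2, mul_assoc, hf.sq, mul_one]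
    refine ⟨⟨_, hmem⟩, ⟨hmem, hfix, ?_, fun g hg => ?_⟩, QuotientGroup.eq.2 ?_⟩
    · show (a : G) * f * ((a : G) * f) = c.z
      rcases InU.cx_eq (a := (a : G) * f * ((a : G) * f)) (hsq' ▸ hsq) (by rw [map_mul, hfix]) with h | h
      · rcases c.fixed_one hmem hfix h with h' | h'
        · exact absurd (h' ▸ c.inU_one) hU
        · exact absurd (h' ▸ c.inU_z) hU
      · exact h
    · show c.InU (g * ((a : G) * f) * g⁻¹ * ((a : G) * f)⁻¹)
      rw [show g * ((a : G) * f) * g⁻¹ * ((a : G) * f)⁻¹ = g * a * (f * g⁻¹ * f⁻¹) * (a : G)⁻¹ by group,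
        ← hf.comm (c.T.inv_mem hg), mul_inv_cancel_right]
      exact hcm g hg
    · show c.InU (((a : G) * f)⁻¹ * a)
      rw [mul_inv_rev, mul_assoc, inv_mul_cancel, mul_one, hf.inv]
      exact hf
  -- the operator
  let E : ↥c.T ⧸ U → ↥c.T ⧸ U := fun v => R v * R' v
  have hE : ∀ v ∈ V, X v = v → v ≠ 1 → E v ∈ V ∧ X (E v) = E v ∧ E v ≠ 1 := by
    intro v hv hX hne
    refine ⟨V.mul_mem (hVR v hv) (hVR' v hv), ?_, fun e => ?_⟩
    · show X (R v * R' v) = R v * R' v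
      rw [map_mul, hXR, hXR', hX, (hVR v hv).2]
    · obtain ⟨a, ha, rfl⟩ := hlift v hv hX hne
      have h2 : R (π a) = R' (π a) := by
        rw [← mul_left_inj (R' (π a))]
        exact e.trans (hVR' _ hv).1.symm
      have h3 : c.InU ((r * (a : G) * r⁻¹)⁻¹ * (r⁻¹ * (a : G) * r⁻¹⁻¹)) := QuotientGroup.eq.1 h2
      rw [inv_inv] at h3
      obtain ⟨f, hf, hfe⟩ : ∃ f, c.InU f ∧ r⁻¹ * (a : G) * r = r * a * r⁻¹ * f :=
        ⟨_, h3, (mul_inv_cancel_left _ _).symm⟩
      have h4 : r⁻¹ * ((a : G) * a) * r = r * ((a : G) * a) * r⁻¹ := by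
        have hc := hf.comm (hr.T_r a.2)
        rw [show r⁻¹ * ((a : G) * a) * r = (r⁻¹ * a * r) * (r⁻¹ * a * r) by group, hfe,
          show r * ((a : G) * a) * r⁻¹ = (r * a * r⁻¹) * (r * a * r⁻¹) by group, mul_assoc _ f,
          ← mul_assoc f, ← hc, mul_assoc _ f f, hf.sq, mul_one]
      rw [ha.sq, hr.cz', hr.cz] at h4
      exact c.uz_ne_u h4
  have hdim : ∀ v ∈ V, ∀ w ∈ V, ∀ y ∈ V, X v = v → X w = w → X y = y → v ≠ 1 → w ≠ 1 → y ≠ 1 → v ≠ w →
      y = v ∨ y = w ∨ y = v * w := by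
    intro v hv w hw y hy hXv hXw hXy hv1 hw1 hy1 hvw
    by_contra h
    push Not at h
    obtain ⟨a, ha, rfl⟩ := hlift v hv hXv hv1
    obtain ⟨b, hb, rfl⟩ := hlift w hw hXw hw1
    obtain ⟨d, hd, rfl⟩ := hlift y hy hXy hy1
    have hp1 : π a * π b ≠ 1 := fun e => hvw (by rw [← mul_left_inj (π b), e, hw.1])
    obtain ⟨p, hp, hpe⟩ := hlift (π a * π b) (V.mul_mem hv hw) (by rw [map_mul, hXv, hXw]) hp1
    have ne : ∀ {a' b' : ↥c.T}, π a' ≠ π b' → ¬ c.InU ((a' : G)⁻¹ * b') := fun h hu => h (QuotientGroup.eq.2 hu)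
    have e1 := hd.comm_z ha (ne h.1)
    have e2 := hd.comm_z hb (ne h.2.1)
    have e3 := hd.comm_z hp (ne fun e => h.2.2 (e.trans hpe))
    obtain ⟨f, hf, hfe⟩ : ∃ f, c.InU f ∧ (p : G) = (a : G) * b * f :=
      ⟨_, QuotientGroup.eq.1 ((map_mul π a b).trans hpe.symm), (mul_inv_cancel_left _ _).symm⟩
    rw [hfe] at e3
    refine c.z1 ?_
    have hzb : ∀ g ∈ c.T, g * c.z = c.z * g := fun g hg => c.zc g (c.T_le hg)
    have ea : (d : G) * a = c.z * a * d := by rw [← e1]; group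
    have eb : (d : G) * b = c.z * b * d := by rw [← e2]; group
    have eab : (d : G) * ((a : G) * b * f) = (a : G) * b * f * d := by
      calc (d : G) * ((a : G) * b * f) = ((d : G) * a) * b * f := by group
        _ = c.z * a * ((d : G) * b) * f := by rw [ea]; group
        _ = c.z * ((a : G) * c.z) * b * ((d : G) * f) := by rw [eb]; group
        _ = (c.z * c.z) * a * b * (f * d) := by rw [hzb _ a.2, hf.comm d.2]; group
        _ = _ := by rw [c.z2]; group
    rw [← e3, eab]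
    group
  set v := π ⟨q, hq.mem⟩ with hv_def
  obtain ⟨hv, hXv, hv1⟩ := hcent ⟨q, hq.mem⟩ hq
  suffices ∃ w ∈ V, X w = w ∧ w ≠ 1 ∧ E w = w by
    obtain ⟨w, hw, hXw, hw1, hEw⟩ := this
    obtain ⟨a, ha, rfl⟩ := hlift w hw hXw hw1
    refine ⟨a, r, ha, hr, ?_⟩
    have h : π a⁻¹ * E (π a) = 1 := by rw [hEw, map_inv, inv_mul_cancel]
    have h' : c.InU ((a : G)⁻¹ * (r * (a : G) * r⁻¹ * (r⁻¹ * (a : G) * r⁻¹⁻¹))) :=
      (QuotientGroup.eq_one_iff (a⁻¹ * (fR a * fR' a))).1 h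
    rwa [inv_inv, ← mul_assoc] at h'
  obtain ⟨hp, hXp, hp1⟩ := hE v hv hXv hv1
  set p := E v with hp_def
  by_cases hpv : p = v
  · exact ⟨v, hv, hXv, hv1, hpv⟩
  obtain ⟨hp', hXp', hp'1⟩ := hE p hp hXp hp1
  rcases hdim v hv p hp (E p) hp' hXv hXp hXp' hv1 hp1 hp'1 (Ne.symm hpv) with h | h | h
  · refine ⟨v * p, V.mul_mem hv hp, by rw [map_mul, hXv, hXp], fun e => hpv ?_, ?_⟩
    · exact (inv_eq_of_mul_eq_one_right e).symm.trans (inv_eq_of_mul_eq_one_right hv.1)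
    · show R (v * p) * R' (v * p) = v * p
      rw [map_mul R v p, map_mul R' v p, show R v * R p * (R' v * R' p) = (R v * R' v) * (R p * R' p) by
        rw [mul_assoc, ← mul_assoc (R p), ← (hVR p hp).2 (R' v)]; group]
      show p * E p = v * p
      rw [h]; exact hv.2 p
  · exact ⟨p, hp, hXp, hp1, h⟩
  · exfalso
    have hR2 : R (R v) ∈ V := hVR _ (hVR v hv)
    have hR3 : R (R (R v)) ∈ V := hVR _ hR2
    have hEE : E p = R (R v) * R' (R' v) := by
      show R (R v * R' v) * R' (R v * R' v) = _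
      rw [map_mul, map_mul, hRR', hR'R, mul_assoc, ← mul_assoc v, hv.1, one_mul]
    rw [hEE] at h
    have h4 := congrArg (fun w => R (R w)) h
    simp only [p, E, map_mul, hRR'] at h4
    -- `R⁴ v * v = R² v * (R³ v * R v)`
    have h5 : R (R (R (R v))) = v * (R v * (R (R v) * R (R (R v)))) := by
      calc R (R (R (R v))) = R (R (R (R v))) * v * v := by rw [mul_assoc, hv.1, mul_one]
        _ = R (R v) * (R (R (R v)) * R v) * v := by rw [h4]
        _ = _ := by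
          rw [hv.2 (R (R v) * (R (R (R v)) * R v))]
          congr 1
          rw [← mul_assoc, (hVR v hv).2]
    have h6 : R (R (R (R (R v)))) = v := by
      have h7 := congrArg R h5
      rw [map_mul, map_mul, map_mul] at h7
      rw [h7, h5]
      have hw := V.mul_mem (hVR v hv) (V.mul_mem hR2 hR3)
      calc _ = (R v * (R (R v) * R (R (R v)))) * (v * (R v * (R (R v) * R (R (R v))))) := by simp only [mul_assoc]
        _ = _ := by rw [hw.2 v, ← mul_assoc, hw.1, one_mul]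
    obtain ⟨f, hf, hfe⟩ : ∃ f, c.InU f ∧ r * (r * (r * (r * (r * q * r⁻¹) * r⁻¹) * r⁻¹) * r⁻¹) * r⁻¹ = q * f :=
      ⟨_, QuotientGroup.eq.1 h6.symm, (mul_inv_cancel_left _ _).symm⟩
    have h8 : r * (r * (r * (r * (r * (q * q) * r⁻¹) * r⁻¹) * r⁻¹) * r⁻¹) * r⁻¹ = q * q := by
      have hc := hf.comm hq.mem
      calc _ = (r * (r * (r * (r * (r * q * r⁻¹) * r⁻¹) * r⁻¹) * r⁻¹) * r⁻¹) *
            (r * (r * (r * (r * (r * q * r⁻¹) * r⁻¹) * r⁻¹) * r⁻¹) * r⁻¹) := by group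
        _ = q * q * (f * f) := by rw [hfe, mul_assoc, ← mul_assoc f, ← hc]; group
        _ = _ := by rw [hf.sq, mul_one]
    rw [hq.sq, hr.cz, hr.cu, hr.cuz, hr.cz, hr.cu] at h8
    exact c.uz_ne_z h8

end Conf

end Cfsg.Agent.Spor.JTwoType.Disc
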