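import Cfsg.Agent.Lib.Spor.JTwoType.Disc.Classes

/-!
# The rotations of an involution fused to the centre form a normal cyclic subgroup

Without fusion of `z` inside the four-group, every element of `S` sends `q` to `q` or `q * z`, no element outside
`T` centralizes an involution `t` of the class of `z`, and the dihedral group on `t` and its image is normal in `S`.
-/

set_option autoImplicit false
set_option linter.unusedSectionVars false
set_option linter.style.haveILetI false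

namespace Cfsg.Agent.Spor.JTwoType.Disc

open Subgroup

namespace Conf

variable {G : Type*} [Group G] [Finite G] (c : Conf G)

theorem mem_T_mul {a b : G} (ha : a ∈ c.S) (hb : b ∈ c.S) : a * b ∈ c.T ↔ (a ∈ c.T ↔ b ∈ c.T) := by
  by_cases h1 : a ∈ c.T <;> by_cases h2 : b ∈ c.T <;> simp only [h1, h2, iff_false, iff_true, not_true, not_false_eq_true]
  · exact c.T.mul_mem h1 h2
  · exact fun h => h2 ((Subgroup.mul_mem_cancel_left _ h1).1 h)
  · exact fun h => h1 ((Subgroup.mul_mem_cancel_right _ h2).1 h)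
  · exact c.out_mul ha hb h1 h2

theorem commutator_T {a b : G} (ha : a ∈ c.S) (hb : b ∈ c.S) : a * b * a⁻¹ * b⁻¹ ∈ c.T := by
  have hai := (c.S : Subgroup G).inv_mem ha
  have hbi := (c.S : Subgroup G).inv_mem hb
  rw [c.mem_T_mul ((c.S : Subgroup G).mul_mem ((c.S : Subgroup G).mul_mem ha hb) hai) hbi,
    c.mem_T_mul ((c.S : Subgroup G).mul_mem ha hb) hai, c.mem_T_mul ha hb]
  simp only [Subgroup.inv_mem_iff]
  tauto

/-- An involution of the class of `z` in `T` outside the four-group, when `z` is not fused to `u`. -/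
structure Small (q t : G) : Prop where
  cent : c.Cent q
  isT : c.IsT t
  zc : c.Zc t
  hno : ∀ g : G, g * c.z * g⁻¹ ≠ c.u

variable {c}

/-- The product of `t` with its image. -/
def pr (c : Conf G) (t : G) : G := t * c.cx t

variable {q t : G}

theorem Small.conj_qT (d : c.Small q t) {g : G} (hg : g ∈ c.T) : g * q * g⁻¹ = q ∨ g * q * g⁻¹ = q * c.z := by
  obtain ⟨e, he, hee⟩ := d.cent.lam hg
  rw [hee]
  have hgi := c.T_le hg
  rcases he with rfl | rfl | rfl | rfl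
  · exact Or.inl (one_mul q)
  · exact Or.inr (c.zc q (c.T_le d.cent.mem)).symm
  all_goals
    exfalso
    set t' := g * t * g⁻¹ with ht'
    have h1 : c.IsT t' := d.isT.conj hgi
    obtain ⟨hz1, hz2, hT⟩ := d.cent.zc_tq d.hno h1 (d.zc.conj g)
    have h2 : c.Zc (g * (t * (c.u * q)) * g⁻¹) := (d.cent.zc_tq d.hno d.isT d.zc).1.conj g
    rw [show g * (t * (c.u * q)) * g⁻¹ = t' * ((g * c.u * g⁻¹) * (g * q * g⁻¹)) by rw [ht']; group, hee,
      c.inU_u.comm hg, mul_inv_cancel_right, ← mul_assoc c.u, ← mul_assoc] at h2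
  · rw [c.u2, mul_one] at h2
    refine zc_mul_u d.hno hT hz1 ?_
    rw [mul_assoc t' (c.u * q), mul_assoc c.u q, c.inU_u.comm d.cent.mem, ← mul_assoc c.u c.u, c.u2, one_mul]
    exact h2
  · rw [← mul_assoc c.u, c.u2, one_mul, mul_assoc] at h2
    refine zc_mul_uz d.hno hT hz1 ?_
    rw [mul_assoc t' (c.u * q), mul_assoc c.u q, c.inU_uz.comm d.cent.mem, ← mul_assoc c.u, ← mul_assoc c.u, c.u2,
      one_mul]
    exact h2

theorem Small.conj_q' (d : c.Small q t) {g : G} (hg : g ∈ c.S) : g * q * g⁻¹ = q ∨ g * q * g⁻¹ = q * c.z := by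
  by_cases h : g ∈ c.T
  · exact d.conj_qT h
  have h1 := d.conj_qT (c.x_mul hg h)
  have e : g * q * g⁻¹ = c.cx (c.x * g * q * (c.x * g)⁻¹) := by
    rw [c.cx_def, mul_inv_rev, c.xi]
    calc g * q * g⁻¹ = (c.x * c.x) * g * q * g⁻¹ * (c.x * c.x) := by rw [c.x2]; group
      _ = _ := by group
  rcases h1 with h1 | h1
  · left; rw [e, h1, d.cent.fixed]
  · right; rw [e, h1, map_mul, d.cent.fixed, c.cx_z]

/-- Squares commute with `q`. -/
theorem Small.sq_comm (d : c.Small q t) {a : G} (ha : a ∈ c.S) : Commute (a * a) q := by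
  show a * a * q = q * (a * a)
  refine mul_inv_eq_iff_eq_mul.1 ?_
  rw [show a * a * q * (a * a)⁻¹ = a * (a * q * a⁻¹) * a⁻¹ by group]
  rcases d.conj_q' ha with h | h <;> rw [h]
  · exact h
  · rw [show a * (q * c.z) * a⁻¹ = a * q * a⁻¹ * (a * c.z * a⁻¹) by group, h, c.zc a ha, mul_inv_cancel_right,
      mul_assoc, c.z2, mul_one]

/-- Commutators commute with `q`. -/
theorem Small.commutator_comm (d : c.Small q t) {a b : G} (ha : a ∈ c.S) (hb : b ∈ c.S) :
    Commute (a * b * a⁻¹ * b⁻¹) q := by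
  have key : ∀ g ∈ c.S, ∃ e, (e = 1 ∨ e = c.z) ∧ g * q = q * e * g ∧ e * e = 1 := fun g hg => by
    rcases d.conj_q' hg with h | h
    · exact ⟨1, Or.inl rfl, by rw [mul_one]; exact mul_inv_eq_iff_eq_mul.1 h, mul_one 1⟩
    · exact ⟨c.z, Or.inr rfl, mul_inv_eq_iff_eq_mul.1 h, c.z2⟩
  have hcen : ∀ g ∈ c.S, ∀ e, (e = 1 ∨ e = c.z) → g * e = e * g := by
    rintro g hg e (rfl | rfl)
    · simp
    · exact c.zc g hg
  obtain ⟨e, he, hea, he2⟩ := key a ha
  obtain ⟨f, hf, hfb, hf2⟩ := key b hb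
  have hai := (c.S : Subgroup G).inv_mem ha
  have hbi := (c.S : Subgroup G).inv_mem hb
  have ha' : a⁻¹ * q = q * e * a⁻¹ := by
    calc a⁻¹ * q = a⁻¹ * (q * (e * e)) := by rw [he2, mul_one]
      _ = a⁻¹ * (q * e) * e * (a * a⁻¹) := by group
      _ = a⁻¹ * (q * e) * (a * e) * a⁻¹ := by rw [hcen a ha e he]; group
      _ = a⁻¹ * (q * e * a) * e * a⁻¹ := by group
      _ = q * e * a⁻¹ := by rw [← hea]; group
  have hb' : b⁻¹ * q = q * f * b⁻¹ := by
    calc b⁻¹ * q = b⁻¹ * (q * (f * f)) := by rw [hf2, mul_one]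
      _ = b⁻¹ * (q * f) * f * (b * b⁻¹) := by group
      _ = b⁻¹ * (q * f) * (b * f) * b⁻¹ := by rw [hcen b hb f hf]; group
      _ = b⁻¹ * (q * f * b) * f * b⁻¹ := by group
      _ = q * f * b⁻¹ := by rw [← hfb]; group
  show a * b * a⁻¹ * b⁻¹ * q = q * (a * b * a⁻¹ * b⁻¹)
  calc a * b * a⁻¹ * b⁻¹ * q = a * b * (a⁻¹ * q) * f * b⁻¹ := by
        rw [mul_assoc _ b⁻¹ q, hb']; group
    _ = a * (b * q) * e * (a⁻¹ * f) * b⁻¹ := by rw [ha']; group
    _ = a * (q * f * b) * e * (f * a⁻¹) * b⁻¹ := by rw [hfb, hcen a⁻¹ hai f hf]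
    _ = (a * q) * f * ((b * e) * f) * a⁻¹ * b⁻¹ := by group
    _ = q * e * (a * f) * (e * (b * f)) * a⁻¹ * b⁻¹ := by rw [hea, hcen b hb e he]; group
    _ = q * e * (f * (a * e)) * (f * b) * a⁻¹ * b⁻¹ := by rw [hcen a ha f hf, hcen b hb f hf]; group
    _ = q * (e * f) * (e * a * f) * b * a⁻¹ * b⁻¹ := by rw [hcen a ha e he]; group
    _ = q * (e * f) * (e * f) * a * b * a⁻¹ * b⁻¹ := by rw [mul_assoc e a f, hcen a ha f hf]; group
    _ = q * (a * b * a⁻¹ * b⁻¹) := by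
      have : e * f * (e * f) = 1 := by
        rcases he with rfl | rfl <;> rcases hf with rfl | rfl <;> simp [c.z2]
      rw [mul_assoc q (e * f), this]; group

/-- No element outside `T` centralizes `t`. -/
theorem Small.no_cent (d : c.Small q t) {p : G} (hp : p ∈ c.S) (hpT : p ∉ c.T) : p * t ≠ t * p := by
  intro e
  obtain ⟨f, hf, hfS⟩ := extr (c.T_le d.isT.1) d.zc
  have hu := hfS _ c.uS (c.inU_u.comm d.isT.1).symm
  have hp' := hfS _ hp e
  have hz : c.u * p * c.u⁻¹ * p⁻¹ = c.z := by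
    rw [c.ui, mul_assoc c.u p c.u, c.out hp hpT, ← mul_assoc, ← mul_assoc, c.u2, one_mul, mul_inv_cancel_right]
  set w := f * c.z * f⁻¹ with hw
  have hwe : w = f * c.u * f⁻¹ * (f * p * f⁻¹) * (f * c.u * f⁻¹)⁻¹ * (f * p * f⁻¹)⁻¹ := by
    rw [hw, ← hz]; group
  have hwT : w ∈ c.T := hwe ▸ c.commutator_T hu hp'
  have hwq : Commute w q := hwe ▸ d.commutator_comm hu hp'
  have hwz : c.Zc w := ⟨f, rfl⟩
  have := hwz.eq_z d.hno (d.cent.inU_of_comm hwT hwq.eq hwz.sq)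
  have h3 : f * c.z * f⁻¹ = f * t * f⁻¹ := this.trans hf.symm
  exact d.isT.2.2 (mul_left_cancel (mul_right_cancel h3) ▸ c.inU_z)

theorem Small.no_flip (d : c.Small q t) {p : G} (hp : p ∈ c.S) (hpT : p ∉ c.T) : p * t * p⁻¹ ≠ t * c.z := by
  intro e
  have hqp : q * p ∉ c.T := fun h => hpT ((Subgroup.mul_mem_cancel_left _ d.cent.mem).1 h)
  refine d.no_cent ((c.S : Subgroup G).mul_mem (c.T_le d.cent.mem) hp) hqp (mul_inv_eq_iff_eq_mul.1 ?_)
  rw [show q * p * t * (q * p)⁻¹ = q * (p * t * p⁻¹) * q⁻¹ by group, e,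
    show q * (t * c.z) * q⁻¹ = q * t * q⁻¹ * (q * c.z * q⁻¹) by group, d.cent.conj_q d.hno d.isT d.zc,
    c.zc q (c.T_le d.cent.mem), mul_inv_cancel_right, mul_assoc, c.z2, mul_one]

/-- `t` is not conjugate to its image inside `T`. -/
theorem Small.no_swap (d : c.Small q t) {g : G} (hg : g ∈ c.T) : g * t * g⁻¹ ≠ c.cx t := by
  intro e
  refine d.no_cent ((c.S : Subgroup G).mul_mem c.xS (c.T_le hg))
    (fun h => c.x_not_T ((Subgroup.mul_mem_cancel_right _ hg).1 h)) (mul_inv_eq_iff_eq_mul.1 ?_)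
  rw [show c.x * g * t * (c.x * g)⁻¹ = c.x * (g * t * g⁻¹) * c.x⁻¹ by group, e, c.xi, ← c.cx_def, c.cx_cx]

theorem Small.p_T (d : c.Small q t) : c.pr t ∈ c.T := c.T.mul_mem d.isT.1 d.isT.cx.1

theorem Small.p_q (d : c.Small q t) : Commute q (c.pr t) := d.cent.comm_p d.hno d.isT d.zc

theorem Small.ti (d : c.Small q t) : t⁻¹ = t := inv_eq_of_mul_eq_one_right d.isT.2.1

theorem Small.cx_t (d : c.Small q t) : c.cx t = t * c.pr t := by
  rw [pr, ← mul_assoc, d.isT.2.1, one_mul]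

theorem Small.p_inv (d : c.Small q t) : (c.pr t)⁻¹ = c.cx t * t := by
  rw [pr, mul_inv_rev, d.ti, inv_eq_of_mul_eq_one_right d.isT.cx.2.1]

theorem Small.t_p (d : c.Small q t) : t * c.pr t * t = (c.pr t)⁻¹ := by
  rw [d.p_inv, ← d.cx_t]

theorem Small.cx_p (d : c.Small q t) : c.cx (c.pr t) = (c.pr t)⁻¹ := by
  rw [d.p_inv, pr, map_mul, c.cx_cx]

theorem Small.cx_pow (d : c.Small q t) (i : ℤ) : c.cx ((c.pr t) ^ i) = (c.pr t) ^ (-i) := by
  rw [map_zpow, d.cx_p, inv_zpow, zpow_neg]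

theorem Small.pow_t (d : c.Small q t) (i : ℤ) : (c.pr t) ^ i * t = t * (c.pr t) ^ (-i) := by
  have h1 : t * (c.pr t) ^ (-i) * t⁻¹ = (c.pr t) ^ i := by
    rw [← conj_zpow, d.ti, d.t_p, zpow_neg, inv_zpow, inv_inv]
  rw [← h1, inv_mul_cancel_right]

theorem Small.conj_pow (d : c.Small q t) (i : ℤ) : (c.pr t) ^ i * t * ((c.pr t) ^ i)⁻¹ = t * (c.pr t) ^ (-2 * i) := by
  rw [d.pow_t, mul_assoc, ← zpow_neg, ← zpow_add]
  congr 2
  ring

theorem Small.p2 (d : c.Small q t) : c.pr t * c.pr t ≠ 1 := fun e => d.isT.noncomm (by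
  have h1 := inv_eq_of_mul_eq_one_right e
  rw [d.p_inv] at h1
  exact h1.symm)

theorem Small.pow_inv (d : c.Small q t) {i : ℤ} (h : (c.pr t) ^ i * (c.pr t) ^ i = 1) :
    (c.pr t) ^ i = 1 ∨ (c.pr t) ^ i = c.z :=
  (d.cent.inU_of_comm (c.T.zpow_mem d.p_T i) ((d.p_q.zpow_right i).symm.eq) h).cx_eq
    (by rw [d.cx_pow, zpow_neg, inv_eq_of_mul_eq_one_right h])

theorem Small.turn (d : c.Small q t) :
    ∃ k : ℤ, (c.pr t) ^ k * (c.pr t) ^ k = c.z ∧ ((c.pr t) ^ k = c.u * q ∨ (c.pr t) ^ k = c.u * q * c.z) := by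
  obtain ⟨k, s, hs, hsk, -⟩ := d.cent.exists_turn d.hno d.isT d.zc
  refine ⟨(k : ℤ), ?_, by rw [zpow_natCast]; exact hsk ▸ hs⟩
  rw [zpow_natCast]
  show (t * c.cx t) ^ k * (t * c.cx t) ^ k = c.z
  rw [← hsk]
  have hzq := c.zc q (c.T_le d.cent.mem)
  have h2 : c.u * q * (c.u * q) = c.z := by
    rw [mul_assoc, ← mul_assoc q, c.inU_u.comm d.cent.mem, mul_assoc c.u q q, d.cent.sq, ← mul_assoc, c.u2, one_mul]
  rcases hs with rfl | rfl
  · exact h2
  · rw [mul_assoc _ c.z, ← mul_assoc c.z, ← c.zc _ ((c.S : Subgroup G).mul_mem c.uS (c.T_le d.cent.mem)),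
      mul_assoc _ c.z c.z, c.z2, mul_one, h2]

theorem Small.zc_refl (d : c.Small q t) (i : ℤ) : c.Zc (t * (c.pr t) ^ i) ∧ c.IsT (t * (c.pr t) ^ i) := by
  rcases Int.even_or_odd i with ⟨l, hl⟩ | ⟨l, hl⟩
  · have h := d.conj_pow (-l)
    rw [show -2 * -l = i by omega] at h
    rw [← h]
    exact ⟨d.zc.conj _, d.isT.conj (c.T_le (c.T.zpow_mem d.p_T _))⟩
  · have h : (c.pr t) ^ (-l) * c.cx t * ((c.pr t) ^ (-l))⁻¹ = t * (c.pr t) ^ i := by
      rw [d.cx_t, ← mul_assoc, d.pow_t, mul_assoc, mul_assoc, ← zpow_neg, ← mul_assoc (c.pr t ^ _),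
        ← zpow_add_one, ← zpow_add]
      congr 2
      omega
    rw [← h]
    have hz : c.Zc (c.cx t) := by
      have := d.zc.conj c.x
      rwa [c.xi, ← c.cx_def] at this
    exact ⟨hz.conj _, d.isT.cx.conj (c.T_le (c.T.zpow_mem d.p_T _))⟩

theorem Small.p_pow_order (d : c.Small q t) : ∃ K : ℕ, orderOf (c.pr t) = 2 ^ K := by
  haveI : Fact (Nat.Prime 2) := ⟨Nat.prime_two⟩
  obtain ⟨k, hk⟩ := (IsPGroup.iff_orderOf.1 c.S.isPGroup') ⟨_, c.T_le d.p_T⟩
  exact ⟨k, (Subgroup.orderOf_coe _).trans hk⟩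

/-- The dihedral group generated by `t` and its image. -/
def Small.K (d : c.Small q t) : Subgroup G where
  carrier := {a | ∃ i : ℤ, a = (c.pr t) ^ i ∨ a = t * (c.pr t) ^ i}
  one_mem' := ⟨0, Or.inl (by rw [zpow_zero])⟩
  mul_mem' := by
    rintro a b ⟨i, rfl | rfl⟩ ⟨j, rfl | rfl⟩
    · exact ⟨i + j, Or.inl (zpow_add _ _ _).symm⟩
    · exact ⟨-i + j, Or.inr (by rw [← mul_assoc, d.pow_t, mul_assoc, ← zpow_add])⟩
    · exact ⟨i + j, Or.inr (by rw [mul_assoc, zpow_add])⟩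
    · exact ⟨-i + j, Or.inl (by
        rw [← mul_assoc, mul_assoc t (c.pr t ^ i) t, d.pow_t, ← mul_assoc t t, d.isT.2.1, one_mul, ← zpow_add])⟩
  inv_mem' := by
    rintro a ⟨i, rfl | rfl⟩
    · exact ⟨-i, Or.inl (zpow_neg _ _).symm⟩
    · exact ⟨i, Or.inr (by rw [mul_inv_rev, d.ti, ← zpow_neg, d.pow_t, neg_neg])⟩

theorem Small.K_le (d : c.Small q t) : d.K ≤ c.T := by
  rintro a ⟨i, rfl | rfl⟩
  exacts [c.T.zpow_mem d.p_T i, c.T.mul_mem d.isT.1 (c.T.zpow_mem d.p_T i)]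

/-- An involution of the class of `z` normalizing the dihedral group lies in it. -/
theorem Small.key (d : c.Small q t) {a : G} (ha : c.IsT a) (hz : c.Zc a)
    (hn : ∀ b ∈ d.K, a * b * a⁻¹ ∈ d.K) : a ∈ d.K := by
  set p := c.pr t with hp
  have hai : a⁻¹ = a := inv_eq_of_mul_eq_one_right ha.2.1
  set r := t * a with hr
  have hri : r⁻¹ = a * t := by rw [hr, mul_inv_rev, hai, d.ti]
  have hrT : r ∈ c.T := c.T.mul_mem d.isT.1 ha.1
  have hrq : Commute r q := by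
    show t * a * q = q * (t * a)
    have h1 := d.cent.conj_q d.hno d.isT d.zc
    have h2 := d.cent.conj_q d.hno ha hz
    rw [mul_inv_eq_iff_eq_mul] at h1 h2
    calc t * a * q = t * ((c.z * c.z) * (a * q)) := by rw [c.z2, one_mul]; group
      _ = t * c.z * ((a * c.z) * q) := by rw [c.zc a (c.T_le ha.1)]; group
      _ = t * c.z * (q * a) := by rw [h2]
      _ = (t * c.z * q) * a := by group
      _ = q * (t * a) := by rw [← h1]; group
  have hrt : t * r * t = r⁻¹ := by rw [hri, hr, ← mul_assoc, d.isT.2.1, one_mul]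
  obtain ⟨i, hi⟩ : ∃ i : ℤ, a * p * a⁻¹ = p ^ i := by
    obtain ⟨i, h | h⟩ := hn p ⟨1, Or.inl (zpow_one _).symm⟩
    · exact ⟨i, h⟩
    · exfalso
      refine d.p2 (?_ : p * p = 1)
      have := (d.zc_refl i).2.2.1
      rw [← h, show a * p * a⁻¹ * (a * p * a⁻¹) = a * (p * p) * a⁻¹ by group] at this
      exact conj_eq_one_iff.1 this
  obtain ⟨j, hj⟩ : ∃ j : ℤ, a * t * a⁻¹ = t * p ^ j := by
    obtain ⟨j, h | h⟩ := hn t ⟨0, Or.inr (by rw [zpow_zero, mul_one])⟩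
    · exfalso
      have h2 := (d.isT.conj (c.T_le ha.1))
      rw [h] at h2
      rcases d.pow_inv h2.2.1 with e | e
      · exact h2.2.2 (e ▸ c.inU_one)
      · exact h2.2.2 (e ▸ c.inU_z)
    · exact ⟨j, h⟩
  have hrp : r * p * r⁻¹ = p ^ (-i) := by
    rw [hri, hr]
    calc t * a * p * (a * t) = t * (a * p * a⁻¹) * t := by rw [hai]; group
      _ = _ := by rw [hi, mul_assoc, d.pow_t, ← mul_assoc, d.isT.2.1, one_mul]
  have hrp' : r⁻¹ * p * r = p ^ (-i) := by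
    have h1 := congrArg (fun y => (t * y * t)⁻¹) hrp
    simp only [mul_inv_rev, inv_inv, d.ti] at h1
    calc r⁻¹ * p * r = (t * r * t) * (t * (p⁻¹) * t) * (t * r⁻¹ * t) := by
          rw [hrt, show t * p⁻¹ * t = p by
            rw [← d.t_p, ← hp]
            calc t * (t * p * t) * t = (t * t) * p * (t * t) := by group
              _ = p := by rw [d.isT.2.1, one_mul, mul_one],
            show t * r⁻¹ * t = r by
              rw [← hrt]
              calc t * (t * r * t) * t = (t * t) * r * (t * t) := by group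
                _ = r := by rw [d.isT.2.1, one_mul, mul_one]]
      _ = t * r * (t * t) * p⁻¹ * (t * t) * r⁻¹ * t := by group
      _ = t * (r * p⁻¹ * r⁻¹) * t := by rw [d.isT.2.1]; group
      _ = t * (p ^ (-i))⁻¹ * t := by rw [← hrp]; group
      _ = _ := by rw [← zpow_neg, mul_assoc, d.pow_t, ← mul_assoc, d.isT.2.1, one_mul, neg_neg]
  have hr2 : r * r = p ^ j := by
    have h1 : t * p ^ j = a * t * a := by rw [← hj, hai]
    have h2 := congrArg (fun y => t * y) h1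
    simp only [← mul_assoc, d.isT.2.1, one_mul] at h2
    rw [h2, hr, ← mul_assoc]
  rcases Int.even_or_odd j with ⟨l, hl⟩ | hodd
  swap
  · exfalso
    obtain ⟨K, hK⟩ := d.p_pow_order
    have hco : IsCoprime j ((2 : ℤ) ^ K) := by
      refine IsCoprime.pow_right ?_
      obtain ⟨m, rfl⟩ := hodd
      exact ⟨1, -m, by ring⟩
    obtain ⟨m, m', hm⟩ := hco
    refine d.no_swap (c.T.zpow_mem hrT (-m)) ?_
    have h3 : ∀ n : ℤ, r ^ n * t * (r ^ n)⁻¹ = t * (r ^ n)⁻¹ * (r ^ n)⁻¹ := fun n => by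
      have h4 : t * (r ^ n) * t⁻¹ = (r ^ n)⁻¹ := by rw [← conj_zpow, d.ti, hrt, inv_zpow]
      have h5 : r ^ n * t = t * (r ^ n)⁻¹ := by
        rw [← h4, d.ti, ← mul_assoc, ← mul_assoc, d.isT.2.1, one_mul]
      rw [h5]
    rw [h3, d.cx_t, mul_assoc, ← mul_inv_rev, ← zpow_add, ← two_mul, ← zpow_neg,
      show -(2 * -m) = 2 * m by ring, zpow_mul, zpow_two, hr2, ← zpow_mul]
    congr 1
    have h6 : p ^ ((orderOf p : ℕ) : ℤ) = 1 := by rw [zpow_natCast, pow_orderOf_eq_one]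
    rw [hK, Nat.cast_pow, Nat.cast_ofNat] at h6
    show p ^ (j * m) = p
    calc p ^ (j * m) = p ^ (j * m + 2 ^ K * m') := by rw [zpow_add, zpow_mul p ((2:ℤ) ^ K), h6, one_zpow, mul_one]
      _ = p ^ (1 : ℤ) := by congr 1; linarith
      _ = p := zpow_one p
  set n := -i with hn'
  obtain ⟨k, hk2, hks⟩ := d.turn
  have hrs : r * p ^ k * r⁻¹ = p ^ k := by
    rcases hks with e | e <;> rw [e]
    · rw [show r * (c.u * q) = c.u * q * r by
        rw [← mul_assoc, c.inU_u.comm hrT, mul_assoc, hrq.eq, ← mul_assoc], mul_inv_cancel_right]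
    · rw [show r * (c.u * q * c.z) = c.u * q * c.z * r by
        rw [← mul_assoc, ← mul_assoc, c.inU_u.comm hrT, mul_assoc c.u r q, hrq.eq, ← mul_assoc, mul_assoc (c.u * q) r,
          c.zc r (c.T_le hrT), ← mul_assoc], mul_inv_cancel_right]
  have h4 : (4 : ℤ) ∣ n - 1 := by
    have h1 : (p ^ k) ^ (n - 1) = 1 := by
      rw [zpow_sub_one, ← zpow_mul, mul_comm, zpow_mul, ← hrp, conj_zpow, hrs, mul_inv_cancel]
    have ho : orderOf (p ^ k) = 4 := by
      have h2 : ¬ (p ^ k) ^ 2 ^ 1 = 1 := by rw [pow_one, pow_two, hk2]; exact c.z1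
      haveI : Fact (Nat.Prime 2) := ⟨Nat.prime_two⟩
      refine orderOf_eq_prime_pow h2 ?_
      rw [show (2 : ℕ) ^ (1 + 1) = 2 * 2 by norm_num, pow_mul, pow_two (p ^ k), hk2, pow_two, c.z2]
    have := orderOf_dvd_iff_zpow_eq_one.2 h1
    rw [ho] at this
    exact_mod_cast this
  have hg2 : p ^ (n - 1) * p ^ (n - 1) = 1 := by
    have h1 : p = p ^ (n * n) := by
      calc p = r⁻¹ * (r * p * r⁻¹) * r := by group
        _ = r⁻¹ * p ^ n * r := by rw [hrp]
        _ = (r⁻¹ * p * r) ^ n := by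
          rw [show r⁻¹ * p * r = r⁻¹ * p * r⁻¹⁻¹ by rw [inv_inv], conj_zpow, inv_inv]
        _ = _ := by rw [hrp', ← zpow_mul]
    obtain ⟨K, hK⟩ := d.p_pow_order
    have h2 : ((2 : ℤ) ^ K) ∣ n * n - 1 := by
      have : (orderOf p : ℤ) ∣ n * n - 1 := orderOf_dvd_iff_zpow_eq_one.2 (by rw [zpow_sub_one, ← h1, mul_inv_cancel])
      rw [hK] at this
      exact_mod_cast this
    obtain ⟨m, hm⟩ := h4
    have h3 : ((2 : ℤ) ^ K) ∣ (2 * m + 1) * (2 * (n - 1)) := by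
      rwa [show (2 * m + 1) * (2 * (n - 1)) = n * n - 1 by rw [show n = 4 * m + 1 by omega]; ring]
    have h5 : IsCoprime ((2 : ℤ) ^ K) (2 * m + 1) := IsCoprime.pow_left ⟨-m, 1, by ring⟩
    have h6 := h5.dvd_of_dvd_mul_left h3
    rw [← zpow_add, ← two_mul]
    refine orderOf_dvd_iff_zpow_eq_one.1 ?_
    rw [hK]
    exact_mod_cast h6
  set e := r * p ^ (-l) with he
  have heT : e ∈ c.T := c.T.mul_mem hrT (c.T.zpow_mem d.p_T _)
  have heq : Commute e q := hrq.mul_left (d.p_q.zpow_right _).symm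
  have hee : e * e = p ^ (-(l * (n - 1))) := by
    rw [he]
    calc r * p ^ (-l) * (r * p ^ (-l)) = (r * p ^ (-l) * r⁻¹) * (r * r) * p ^ (-l) := by group
      _ = p ^ (n * -l) * p ^ j * p ^ (-l) := by rw [hr2, ← conj_zpow, hrp, ← zpow_mul]
      _ = _ := by rw [← zpow_add, ← zpow_add, hl]; congr 1; ring
  have hee2 : e * e * (e * e) = 1 := by
    rw [hee, ← zpow_add, show -(l * (n - 1)) + -(l * (n - 1)) = ((n - 1) + (n - 1)) * -l by ring, zpow_mul,
      zpow_add, hg2, one_zpow]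
  rcases d.pow_inv (hee ▸ hee2) with h | h
  · have hU := d.cent.inU_of_comm heT heq.eq (hee.trans h)
    have har : a = t * p ^ l * e := by
      have h1 : r = e * p ^ l := by rw [he, mul_assoc, ← zpow_add, neg_add_cancel, zpow_zero, mul_one]
      rw [show a = t * r by rw [hr, ← mul_assoc, d.isT.2.1, one_mul], h1, ← hU.comm (c.T.zpow_mem d.p_T l),
        ← mul_assoc]
    rw [har]
    have hU2 := hU
    rcases hU2 with r | r | r | r
    · exact ⟨l, Or.inr (by rw [r, mul_one])⟩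
    · exact ⟨l + (k + k), Or.inr (by rw [r, ← hk2, zpow_add, zpow_add, mul_assoc])⟩
    · exact absurd (r ▸ har ▸ hz) (zc_mul_u d.hno (d.zc_refl l).2 (d.zc_refl l).1)
    · exact absurd (r ▸ har ▸ hz) (zc_mul_uz d.hno (d.zc_refl l).2 (d.zc_refl l).1)
  · exfalso
    obtain ⟨f, hf, hfe⟩ := d.cent.sq_z heT heq.eq (hee.trans h)
    have hep : Commute e p := by
      rw [hfe]
      exact (show Commute f p from (hf.comm d.p_T).symm).mul_left d.p_q
    have hrp2 : Commute r p := by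
      have h2 : Commute (e * p ^ l) p := hep.mul_left (Commute.zpow_self p l)
      have h1 : r = e * p ^ l := by rw [he, mul_assoc, ← zpow_add, neg_add_cancel, zpow_zero, mul_one]
      rwa [← h1] at h2
    rw [hrp2.eq, mul_inv_cancel_right] at hrp
    refine c.z1 (h.symm.trans ?_)
    rw [show -(l * (n - 1)) = (n - 1) * -l by ring, zpow_mul, zpow_sub_one, ← hrp, mul_inv_cancel, one_zpow]

/-- The dihedral group is normal in `S`. -/
theorem Small.K_normal (d : c.Small q t) {g : G} (hg : g ∈ c.S) {b : G} (hb : b ∈ d.K) : g * b * g⁻¹ ∈ d.K := by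
  haveI : Fact (Nat.Prime 2) := ⟨Nat.prime_two⟩
  haveI : Group.IsNilpotent ↥(c.S : Subgroup G) := c.S.isPGroup'.isNilpotent
  set NS : Subgroup ↥(c.S : Subgroup G) := (normalizer (d.K : Set G)).subgroupOf (c.S : Subgroup G) with hNS
  suffices htop : NS = ⊤ by
    have : (⟨g, hg⟩ : ↥(c.S : Subgroup G)) ∈ NS := htop ▸ Subgroup.mem_top _
    exact (mem_normalizer_iff.1 this b).1 hb
  by_contra hne
  obtain ⟨n, hnN, hn⟩ := SetLike.exists_of_lt (Group.normalizerCondition_of_isNilpotent NS (lt_top_iff_ne_top.2 hne))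
  have hKN : ∀ a, ∀ ha : a ∈ d.K, (⟨a, c.T_le (d.K_le ha)⟩ : ↥(c.S : Subgroup G)) ∈ NS := fun a ha => le_normalizer ha
  have hmain : ∀ i : ℤ, (n : G) * (t * (c.pr t) ^ i) * (n : G)⁻¹ ∈ d.K := fun i => by
    have hm : t * (c.pr t) ^ i ∈ d.K := ⟨i, Or.inr rfl⟩
    have h1 : n * ⟨_, c.T_le (d.K_le hm)⟩ * n⁻¹ ∈ NS := (mem_normalizer_iff.1 hnN _).1 (hKN _ hm)
    exact d.key ((d.zc_refl i).2.conj n.2) ((d.zc_refl i).1.conj _) fun b hb' =>
      (mem_normalizer_iff.1 (show (n : G) * (t * c.pr t ^ i) * (n : G)⁻¹ ∈ normalizer (d.K : Set G) from h1) b).1 hb'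
  refine hn ?_
  have hle : d.K.map (MulAut.conj (n : G)).toMonoidHom ≤ d.K := by
    rintro _ ⟨b, ⟨i, rfl | rfl⟩, rfl⟩
    · have h1 := d.K.mul_mem (hmain 0) (hmain i)
      simpa [MulAut.conj_apply, mul_assoc, zpow_zero, reassoc_sq d.isT.2.1] using h1
    · simpa [MulAut.conj_apply] using hmain i
  have heq := eq_of_le_of_card_ge hle (card_map_of_injective (MulAut.conj (n : G)).injective).ge
  refine mem_normalizer_iff.2 fun b => ⟨fun hb' => hle ⟨b, hb', rfl⟩, fun hb' => ?_⟩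
  obtain ⟨b', hb1, hb2⟩ : (n : G) * b * (n : G)⁻¹ ∈ d.K.map (MulAut.conj (n : G)).toMonoidHom := heq.symm ▸ hb'
  exact (MulAut.conj (n : G)).injective (show MulAut.conj (n : G) b' = MulAut.conj (n : G) b by
    simpa [MulAut.conj_apply] using hb2) ▸ hb1
where
  reassoc_sq {a : G} (h : a * a = 1) (b : G) : a * (a * b) = b := by rw [← mul_assoc, h, one_mul]

/-- `T` is the product of the rotations and the centralizer of `t`. -/
theorem Small.decomp (d : c.Small q t) {g : G} (hg : g ∈ c.T) :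
    ∃ i : ℤ, ∃ b ∈ c.T, b * t = t * b ∧ g = (c.pr t) ^ i * b := by
  obtain ⟨j, h | h⟩ := d.K_normal (c.T_le hg) (b := t) ⟨0, Or.inr (by rw [zpow_zero, mul_one])⟩
  · exfalso
    have h2 := (d.isT.conj (c.T_le hg))
    rw [h] at h2
    rcases d.pow_inv h2.2.1 with e | e
    · exact h2.2.2 (e ▸ c.inU_one)
    · exact h2.2.2 (e ▸ c.inU_z)
  rcases Int.even_or_odd j with ⟨l, hl⟩ | ⟨l, hl⟩
  · refine ⟨-l, (c.pr t) ^ l * g, c.T.mul_mem (c.T.zpow_mem d.p_T _) hg, mul_inv_eq_iff_eq_mul.1 ?_,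
      by rw [← mul_assoc, ← zpow_add, neg_add_cancel, zpow_zero, one_mul]⟩
    rw [show c.pr t ^ l * g * t * (c.pr t ^ l * g)⁻¹ = c.pr t ^ l * (g * t * g⁻¹) * (c.pr t ^ l)⁻¹ by group, h,
      ← mul_assoc, d.pow_t, mul_assoc t, ← zpow_add, mul_assoc, ← zpow_neg, ← zpow_add,
      show -l + j + -l = 0 by omega, zpow_zero, mul_one]
  · exfalso
    refine d.no_swap (c.T.mul_mem (c.T.zpow_mem d.p_T l) hg) ?_
    rw [show c.pr t ^ l * g * t * (c.pr t ^ l * g)⁻¹ = c.pr t ^ l * (g * t * g⁻¹) * (c.pr t ^ l)⁻¹ by group, h,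
      ← mul_assoc, d.pow_t, mul_assoc t, ← zpow_add, mul_assoc, ← zpow_neg, ← zpow_add,
      show -l + j + -l = 1 by omega, zpow_one, d.cx_t]

end Conf

end Cfsg.Agent.Spor.JTwoType.Disc
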