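import Mathlib
import Cfsg.Agent.Lib.Grp.Frattini

/-!
# A normal four-group with an outer involution whose centralizer has rank one

`S` is a Sylow 2-subgroup with a normal four-group `{1, z, u, u * z}`, `T` its centralizer in `S` and `x` an
involution of `S` outside `T` such that `z` is the only involution of `T` fixed by `x`.
-/

set_option autoImplicit false
set_option linter.unusedSectionVars false
set_option linter.style.haveILetI false

namespace Cfsg.Agent.Spor.JTwoType.Disc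

open Subgroup

/-- The configuration. -/
structure Conf (G : Type*) [Group G] where
  S : Sylow 2 G
  z : G
  u : G
  x : G
  zS : z ∈ S
  uS : u ∈ S
  xS : x ∈ S
  z2 : z * z = 1
  u2 : u * u = 1
  x2 : x * x = 1
  z1 : z ≠ 1
  u1 : u ≠ 1
  uz : u ≠ z
  zc : ∀ g ∈ S, g * z = z * g
  hu : ∀ g ∈ S, g * u = u * g ∨ g * u = u * z * g
  xu : x * u = u * z * x
  rank1 : ∀ y ∈ S, y * u = u * y → y * x = x * y → y * y = 1 → y = 1 ∨ y = z
  rank3 : ∃ t ∈ S, t * u = u * t ∧ t * t = 1 ∧ ¬ (t = 1 ∨ t = z ∨ t = u ∨ t = u * z)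

namespace Conf

variable {G : Type*} [Group G] (c : Conf G)

/-- The centralizer of the four-group in `S`. -/
def T : Subgroup G := (c.S : Subgroup G) ⊓ centralizer ({c.u} : Set G)

theorem mem_T {g : G} : g ∈ c.T ↔ g ∈ c.S ∧ g * c.u = c.u * g := by
  simp only [T, Subgroup.mem_inf, mem_centralizer_singleton_iff]
  exact Iff.rfl

theorem T_le : c.T ≤ (c.S : Subgroup G) := inf_le_left

theorem z_T : c.z ∈ c.T := c.mem_T.2 ⟨c.zS, (c.zc _ c.uS).symm⟩

theorem u_T : c.u ∈ c.T := c.mem_T.2 ⟨c.uS, rfl⟩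

theorem zi : c.z⁻¹ = c.z := inv_eq_of_mul_eq_one_right c.z2

theorem ui : c.u⁻¹ = c.u := inv_eq_of_mul_eq_one_right c.u2

theorem xi : c.x⁻¹ = c.x := inv_eq_of_mul_eq_one_right c.x2

theorem zu : c.z * c.u = c.u * c.z := (c.zc _ c.uS).symm

theorem x_not_T : c.x ∉ c.T := fun h => by
  have h1 := (c.mem_T.1 h).2
  rw [c.xu] at h1
  exact c.z1 (by simpa using mul_right_cancel h1)

theorem out {g : G} (hg : g ∈ c.S) (h : g ∉ c.T) : g * c.u = c.u * c.z * g :=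
  (c.hu g hg).resolve_left fun e => h (c.mem_T.2 ⟨hg, e⟩)

theorem out_mul {a b : G} (ha : a ∈ c.S) (hb : b ∈ c.S) (ha' : a ∉ c.T) (hb' : b ∉ c.T) : a * b ∈ c.T := by
  refine c.mem_T.2 ⟨(c.S : Subgroup G).mul_mem ha hb, ?_⟩
  rw [mul_assoc, c.out hb hb', ← mul_assoc, ← mul_assoc, c.out ha ha', mul_assoc _ a c.z, c.zc a ha,
    ← mul_assoc, mul_assoc c.u c.z c.z, c.z2, mul_one, mul_assoc]

theorem sq_mem {a : G} (ha : a ∈ c.S) : a * a ∈ c.T := by
  by_cases h : a ∈ c.T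
  · exact c.T.mul_mem h h
  · exact c.out_mul ha ha h h

theorem x_mul {g : G} (hg : g ∈ c.S) (h : g ∉ c.T) : c.x * g ∈ c.T := c.out_mul c.xS hg c.x_not_T h

/-- Membership in the four-group. -/
def InU (a : G) : Prop := a = 1 ∨ a = c.z ∨ a = c.u ∨ a = c.u * c.z

variable {c}

theorem InU.mem {a : G} (h : c.InU a) : a ∈ c.T := by
  rcases h with rfl | rfl | rfl | rfl
  exacts [c.T.one_mem, c.z_T, c.u_T, c.T.mul_mem c.u_T c.z_T]

theorem InU.comm {a g : G} (h : c.InU a) (hg : g ∈ c.T) : g * a = a * g := by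
  obtain ⟨hgS, hgu⟩ := c.mem_T.1 hg
  rcases h with rfl | rfl | rfl | rfl
  · simp
  · exact c.zc g hgS
  · exact hgu
  · rw [← mul_assoc, hgu, mul_assoc, c.zc g hgS, mul_assoc]

theorem InU.sq {a : G} (h : c.InU a) : a * a = 1 := by
  rcases h with rfl | rfl | rfl | rfl
  · simp
  · exact c.z2
  · exact c.u2
  · rw [mul_assoc, ← mul_assoc c.z, c.zu, ← mul_assoc, ← mul_assoc, c.u2, one_mul, c.z2]

theorem InU.inv {a : G} (h : c.InU a) : a⁻¹ = a := inv_eq_of_mul_eq_one_right h.sq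

theorem InU.mul {a b : G} (ha : c.InU a) (hb : c.InU b) : c.InU (a * b) := by
  have e1 : c.z * (c.u * c.z) = c.u := by rw [← mul_assoc, c.zu, mul_assoc, c.z2, mul_one]
  have e2 : c.u * (c.u * c.z) = c.z := by rw [← mul_assoc, c.u2, one_mul]
  have e3 : c.u * c.z * c.z = c.u := by rw [mul_assoc, c.z2, mul_one]
  have e4 : c.u * c.z * c.u = c.z := by rw [mul_assoc, c.zu, e2]
  have e5 : c.u * c.z * (c.u * c.z) = 1 := InU.sq (Or.inr (Or.inr (Or.inr rfl)))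
  rcases ha with rfl | rfl | rfl | rfl <;> rcases hb with rfl | rfl | rfl | rfl <;>
    simp [InU, c.z2, c.u2, c.zu, e1, e2, e3, e4, e5]

variable (c)

theorem inU_one : c.InU 1 := Or.inl rfl

theorem inU_z : c.InU c.z := Or.inr (Or.inl rfl)

theorem inU_u : c.InU c.u := Or.inr (Or.inr (Or.inl rfl))

theorem inU_uz : c.InU (c.u * c.z) := Or.inr (Or.inr (Or.inr rfl))

theorem uz1 : c.u * c.z ≠ 1 := fun h => c.uz ((eq_inv_of_mul_eq_one_left h).trans c.zi)

theorem uz_ne_u : c.u * c.z ≠ c.u := fun h => c.z1 (mul_eq_left.1 h)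

theorem uz_ne_z : c.u * c.z ≠ c.z := fun h => c.u1 (mul_eq_right.1 h)

/-- Conjugation by `x`. -/
def cx : G →* G := (MulAut.conj c.x).toMonoidHom

theorem cx_def (a : G) : c.cx a = c.x * a * c.x := by simp [cx, c.xi]

theorem cx_cx (a : G) : c.cx (c.cx a) = a := by
  rw [c.cx_def, c.cx_def]
  calc c.x * (c.x * a * c.x) * c.x = (c.x * c.x) * a * (c.x * c.x) := by group
    _ = a := by rw [c.x2, one_mul, mul_one]

theorem cx_inj : Function.Injective c.cx := (MulAut.conj c.x).injective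

theorem cx_z : c.cx c.z = c.z := by rw [c.cx_def, c.zc _ c.xS, mul_assoc, c.x2, mul_one]

theorem cx_u : c.cx c.u = c.u * c.z := by rw [c.cx_def, c.xu, mul_assoc, c.x2, mul_one]

theorem cx_uz : c.cx (c.u * c.z) = c.u := by rw [map_mul, c.cx_u, c.cx_z, mul_assoc, c.z2, mul_one]

theorem cx_S {a : G} (h : a ∈ c.S) : c.cx a ∈ c.S := by
  rw [c.cx_def]
  exact (c.S : Subgroup G).mul_mem ((c.S : Subgroup G).mul_mem c.xS h) c.xS

theorem cx_T {a : G} (h : a ∈ c.T) : c.cx a ∈ c.T := by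
  obtain ⟨hS, hau⟩ := c.mem_T.1 h
  refine c.mem_T.2 ⟨c.cx_S hS, ?_⟩
  have h1 : a * (c.u * c.z) = c.u * c.z * a := c.inU_uz.comm h
  have h2 := congrArg c.cx h1
  rwa [map_mul, map_mul c.cx (c.u * c.z) a, c.cx_uz] at h2

variable {c}

theorem InU.cx {a : G} (h : c.InU a) : c.InU (c.cx a) := by
  rcases h with rfl | rfl | rfl | rfl
  · simp [InU]
  · simp [InU, c.cx_z]
  · simp [InU, c.cx_u]
  · simp [InU, c.cx_uz]

theorem InU.cx_eq {a : G} (h : c.InU a) : c.cx a = a → a = 1 ∨ a = c.z := by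
  rcases h with rfl | rfl | rfl | rfl
  · simp
  · simp
  · intro e; exact absurd (c.cx_u ▸ e) c.uz_ne_u
  · intro e; exact absurd (c.cx_uz ▸ e).symm c.uz_ne_u

variable (c)

theorem fixed_comm {y : G} (h : c.cx y = y) : y * c.x = c.x * y := by
  rw [c.cx_def] at h
  calc y * c.x = c.x * y * c.x * c.x := by rw [h]
    _ = c.x * y := by rw [mul_assoc _ c.x c.x, c.x2, mul_one]

theorem fixed_one {y : G} (hy : y ∈ c.T) (h : c.cx y = y) (h2 : y * y = 1) : y = 1 ∨ y = c.z :=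
  c.rank1 y (c.T_le hy) (c.mem_T.1 hy).2 (c.fixed_comm h) h2

/-- An involution of `T` outside the four-group. -/
def IsT (t : G) : Prop := t ∈ c.T ∧ t * t = 1 ∧ ¬ c.InU t

theorem exists_isT : ∃ t, c.IsT t :=
  let ⟨t, ht, htu, ht2, hne⟩ := c.rank3
  ⟨t, c.mem_T.2 ⟨ht, htu⟩, ht2, hne⟩

variable {c}

theorem IsT.ne_one {t : G} (h : c.IsT t) : t ≠ 1 := fun e => h.2.2 (e ▸ c.inU_one)

theorem IsT.mul_U {t e : G} (h : c.IsT t) (he : c.InU e) : c.IsT (t * e) := by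
  refine ⟨c.T.mul_mem h.1 he.mem, ?_, fun hu => h.2.2 ?_⟩
  · rw [mul_assoc, ← mul_assoc e, ← he.comm h.1, mul_assoc, he.sq, mul_one, h.2.1]
  · have := hu.mul he
    rwa [mul_assoc, he.sq, mul_one] at this

theorem IsT.cx {t : G} (h : c.IsT t) : c.IsT (c.cx t) := by
  refine ⟨c.cx_T h.1, by rw [← map_mul, h.2.1, map_one], fun hu => h.2.2 ?_⟩
  have := hu.cx
  rwa [c.cx_cx] at this

/-- An involution of `T` outside the four-group does not commute with its image under `x`. -/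
theorem IsT.noncomm {t : G} (h : c.IsT t) : t * c.cx t ≠ c.cx t * t := by
  intro e
  have hf : c.cx (t * c.cx t) = t * c.cx t := by rw [map_mul, c.cx_cx, e]
  have hsq : t * c.cx t * (t * c.cx t) = 1 := by
    calc t * c.cx t * (t * c.cx t) = t * c.cx t * (c.cx t * t) := by rw [e]
      _ = t * (c.cx t * c.cx t) * t := by group
      _ = 1 := by rw [h.cx.2.1, mul_one, h.2.1]
  have hti : t⁻¹ = t := inv_eq_of_mul_eq_one_right h.2.1
  rcases c.fixed_one (c.T.mul_mem h.1 h.cx.1) hf hsq with e1 | e1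
  · have h1 : c.cx t = t := by rw [eq_inv_of_mul_eq_one_right e1, hti]
    rcases c.fixed_one h.1 h1 h.2.1 with r | r
    · exact h.2.2 (Or.inl r)
    · exact h.2.2 (Or.inr (Or.inl r))
  · have h1 : c.cx t = t * c.z := by rw [← e1, ← mul_assoc, h.2.1, one_mul]
    have h2 := h.mul_U c.inU_u
    have h3 : c.cx (t * c.u) = t * c.u := by
      rw [map_mul, h1, c.cx_u, mul_assoc, ← mul_assoc c.z, c.zu, mul_assoc c.u, c.z2, mul_one]
    rcases c.fixed_one h2.1 h3 h2.2.1 with r | r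
    · exact h2.2.2 (Or.inl r)
    · exact h2.2.2 (Or.inr (Or.inl r))

/-- The rotation of order four attached to an involution. -/
theorem IsT.rot [Finite G] {t : G} (h : c.IsT t) :
    ∃ k : ℕ, ∃ s, s = (t * c.cx t) ^ k ∧ s ∈ c.T ∧ s * s = c.z ∧ c.cx s = s * c.z ∧ t * s = s * c.z * t ∧
      ∃ g ∈ c.S, g * t * g⁻¹ = t * s := by
  haveI : Fact (Nat.Prime 2) := ⟨Nat.prime_two⟩
  set p := t * c.cx t with hp
  have hpT : p ∈ c.T := c.T.mul_mem h.1 h.cx.1
  have hti : t⁻¹ = t := inv_eq_of_mul_eq_one_right h.2.1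
  have hpi : p⁻¹ = c.cx t * t := by rw [hp, mul_inv_rev, hti, inv_eq_of_mul_eq_one_right h.cx.2.1]
  have hcp : c.cx p = p⁻¹ := by rw [hpi, hp, map_mul, c.cx_cx]
  have htp : t * p * t⁻¹ = p⁻¹ := by rw [hpi, hti, hp, ← mul_assoc t t, h.2.1, one_mul]
  obtain ⟨k, hk⟩ := (IsPGroup.iff_orderOf.1 c.S.isPGroup') ⟨p, c.T_le hpT⟩
  rw [← Subgroup.orderOf_coe] at hk
  have h2 : p * p ≠ 1 := fun e => h.noncomm (by
    rw [← inv_eq_of_mul_eq_one_right e, hpi] at hp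
    exact hp.symm)
  obtain ⟨j, rfl⟩ : ∃ j, k = j + 2 := by
    refine ⟨k - 2, ?_⟩
    by_contra hlt
    have hk2 : k ≤ 1 := by omega
    refine h2 ?_
    have := orderOf_dvd_iff_pow_eq_one.1 (show orderOf p ∣ 2 ^ 1 from hk ▸ pow_dvd_pow 2 hk2)
    simpa [pow_two] using this
  set s := p ^ 2 ^ j with hs
  have hsT : s ∈ c.T := c.T.pow_mem hpT _
  have ho : orderOf s = 4 := by
    rw [hs, orderOf_pow_of_dvd (by positivity) (hk ▸ pow_dvd_pow 2 (by omega)), hk, pow_add,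
      Nat.mul_div_cancel_left _ (by positivity)]
    norm_num
  have hs4 : s * s * (s * s) = 1 := by
    have := pow_orderOf_eq_one s
    rw [ho] at this
    rw [← this, pow_succ, pow_succ, pow_succ, pow_one, mul_assoc, mul_assoc, mul_assoc]
  have hcs : c.cx s = s⁻¹ := by rw [hs, map_pow, hcp, inv_pow]
  have hs2 : s * s ≠ 1 := fun e => by
    have := orderOf_dvd_of_pow_eq_one (show s ^ 2 = 1 by rw [pow_two, e])
    rw [ho] at this
    exact absurd (Nat.le_of_dvd two_pos this) (by norm_num)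
  have hf : c.cx (s * s) = s * s := by
    rw [map_mul, hcs, ← mul_inv_rev]
    exact inv_eq_of_mul_eq_one_right hs4
  have hz := (c.fixed_one (c.T.mul_mem hsT hsT) hf hs4).resolve_left hs2
  have hsi : s⁻¹ = s * c.z := inv_eq_of_mul_eq_one_right (by rw [← mul_assoc, hz, c.z2])
  refine ⟨2 ^ j, s, hs, hsT, hz, hcs.trans hsi, ?_, ?_⟩
  · have h3 : t * s * t⁻¹ = s⁻¹ := by rw [hs, ← conj_pow, htp, inv_pow]
    rw [← hsi, ← h3, inv_mul_cancel_right]
  have hflip : ∀ i : ℕ, p ^ i * t = t * (p ^ i)⁻¹ := fun i => by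
    have h3 : t * p ^ i * t⁻¹ = (p ^ i)⁻¹ := by rw [← conj_pow, htp, inv_pow]
    rw [← h3]
    calc p ^ i * t = (t * t) * p ^ i * t⁻¹ := by rw [h.2.1, hti, one_mul]
      _ = _ := by group
  rcases Nat.eq_zero_or_pos j with rfl | hj
  · refine ⟨c.x, c.xS, ?_⟩
    have hsp : s = p := by rw [hs, pow_zero, pow_one]
    rw [c.xi, ← c.cx_def, hsp, hp, ← mul_assoc, h.2.1, one_mul]
  · refine ⟨t * p ^ 2 ^ (j - 1), (c.S : Subgroup G).mul_mem (c.T_le h.1) (c.T_le (c.T.pow_mem hpT _)), ?_⟩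
    have hss : s = p ^ 2 ^ (j - 1) * p ^ 2 ^ (j - 1) := by
      rw [hs, ← pow_add, ← two_mul, mul_comm, ← pow_succ, show j - 1 + 1 = j by omega]
    calc t * p ^ 2 ^ (j - 1) * t * (t * p ^ 2 ^ (j - 1))⁻¹
        = t * (p ^ 2 ^ (j - 1) * t) * (p ^ 2 ^ (j - 1))⁻¹ * t⁻¹ := by group
      _ = t * (t * (p ^ 2 ^ (j - 1))⁻¹) * (p ^ 2 ^ (j - 1))⁻¹ * t⁻¹ := by rw [hflip]
      _ = (t * t) * (s⁻¹ * t) := by rw [hss, hti]; group
      _ = t * s := by
        rw [h.2.1, one_mul, hs, ← inv_pow]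
        have h4 := hflip (2 ^ j)
        rw [← inv_pow] at h4
        have h3 : t * p ^ 2 ^ j * t⁻¹ = (p⁻¹) ^ 2 ^ j := by rw [← conj_pow, htp]
        rw [← h3, inv_mul_cancel_right]

/-- An element of order four in `T` fixed by `x` and central in `T` modulo the four-group. -/
theorem exists_q0 [Finite G] : ∃ q, q ∈ c.T ∧ c.cx q = q ∧ q * q = c.z ∧
    ∀ g ∈ c.T, c.InU (g * q * g⁻¹ * q⁻¹) := by
  haveI : Fact (Nat.Prime 2) := ⟨Nat.prime_two⟩
  let U : Subgroup ↥(c.S : Subgroup G) :=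
    { carrier := {a | c.InU (a : G)}
      one_mem' := c.inU_one
      mul_mem' := fun {a b} (ha : c.InU (a : G)) (hb : c.InU (b : G)) => ha.mul hb
      inv_mem' := fun {a} (ha : c.InU (a : G)) => show c.InU ((a : G))⁻¹ by rw [ha.inv]; exact ha }
  haveI : U.Normal := ⟨fun a (ha : c.InU (a : G)) g => by
    show c.InU ((g : G) * a * (g : G)⁻¹)
    by_cases hg : (g : G) ∈ c.T
    · rw [ha.comm hg, mul_inv_cancel_right]; exact ha
    · have h1 := c.x_mul g.2 hg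
      have e : (g : G) * a * (g : G)⁻¹ = c.cx (c.x * g * a * (c.x * g)⁻¹) := by
        rw [c.cx_def, mul_inv_rev, c.xi]
        calc (g : G) * a * (g : G)⁻¹ = (c.x * c.x) * g * a * (g : G)⁻¹ * (c.x * c.x) := by rw [c.x2]; group
          _ = _ := by group
      rw [e, ha.comm h1, mul_inv_cancel_right]
      exact ha.cx⟩
  let π := QuotientGroup.mk' U
  haveI : (c.T.subgroupOf (c.S : Subgroup G)).Normal := ⟨fun a ha g => by
    have ha' : (a : G) ∈ c.T := ha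
    show (g : G) * a * (g : G)⁻¹ ∈ c.T
    by_cases hg : (g : G) ∈ c.T
    · exact c.T.mul_mem (c.T.mul_mem hg ha') (c.T.inv_mem hg)
    · have h1 := c.x_mul g.2 hg
      have e : (g : G) * a * (g : G)⁻¹ = c.cx (c.x * g * a * (c.x * g)⁻¹) := by
        rw [c.cx_def, mul_inv_rev, c.xi]
        calc (g : G) * a * (g : G)⁻¹ = (c.x * c.x) * g * a * (g : G)⁻¹ * (c.x * c.x) := by rw [c.x2]; group
          _ = _ := by group
      rw [e]
      exact c.cx_T (c.T.mul_mem (c.T.mul_mem h1 ha') (c.T.inv_mem h1))⟩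
  set N := (c.T.subgroupOf (c.S : Subgroup G)).map π with hN
  haveI : N.Normal := Subgroup.Normal.map inferInstance _ (QuotientGroup.mk'_surjective U)
  obtain ⟨t, ht⟩ := c.exists_isT
  have hne : N ≠ ⊥ := fun e => ht.2.2 (show (⟨t, c.T_le ht.1⟩ : ↥(c.S : Subgroup G)) ∈ U by
    rw [← QuotientGroup.eq_one_iff]
    exact Subgroup.mem_bot.1 (e ▸ ⟨⟨t, c.T_le ht.1⟩, ht.1, rfl⟩))
  haveI : Group.IsNilpotent (↥(c.S : Subgroup G) ⧸ U) := (c.S.isPGroup'.to_quotient U).isNilpotent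
  obtain ⟨w, ⟨hwN, hwc⟩, hw1⟩ := (Subgroup.bot_or_exists_ne_one _).resolve_left
    (Grp.inf_center_ne_bot N hne)
  obtain ⟨k, hk⟩ := (IsPGroup.iff_orderOf.1 (c.S.isPGroup'.to_quotient U)) w
  obtain ⟨j, rfl⟩ : ∃ j, k = j + 1 := ⟨k - 1, by
    rcases k with _ | k
    · exact absurd (orderOf_eq_one_iff.1 hk) hw1
    · rfl⟩
  have hv1 : w ^ 2 ^ j ≠ 1 := fun e => by
    have := orderOf_dvd_of_pow_eq_one e
    rw [hk] at this
    exact absurd (Nat.le_of_dvd (by positivity) this) (by rw [pow_succ]; have := Nat.two_pow_pos j; omega)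
  have hv2 : w ^ 2 ^ j * w ^ 2 ^ j = 1 := by
    rw [← pow_add, ← two_mul, mul_comm, ← pow_succ, ← hk, pow_orderOf_eq_one]
  obtain ⟨g₀, hg₀, hg₀w⟩ := N.pow_mem hwN (2 ^ j)
  have hvc : ∀ g : ↥(c.S : Subgroup G), π g * π g₀ = π g₀ * π g := fun g => by
    rw [hg₀w]; exact Subgroup.mem_center_iff.1 ((center _).pow_mem hwc _) _
  have hcomm : ∀ g : G, g ∈ c.S → c.InU (g * g₀ * g⁻¹ * (g₀ : G)⁻¹) := fun g hg =>
    show (⟨g, hg⟩ * g₀ * (⟨g, hg⟩ : ↥(c.S : Subgroup G))⁻¹ * g₀⁻¹) ∈ U by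
      rw [← QuotientGroup.eq_one_iff]
      show π (⟨g, hg⟩ * g₀ * (⟨g, hg⟩ : ↥(c.S : Subgroup G))⁻¹ * g₀⁻¹) = 1
      rw [map_mul, map_mul, map_mul, map_inv, map_inv, hvc, mul_inv_cancel_right, mul_inv_cancel]
  have hgT : (g₀ : G) ∈ c.T := hg₀
  have hg1 : ¬ c.InU (g₀ : G) := fun h => hv1 (by
    rw [← hg₀w]; exact (QuotientGroup.eq_one_iff g₀).2 h)
  have hsq : c.InU ((g₀ : G) * g₀) := show g₀ * g₀ ∈ U by
    rw [← QuotientGroup.eq_one_iff]
    show π (g₀ * g₀) = 1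
    rw [map_mul, hg₀w, hv2]
  obtain ⟨e, he, hce⟩ : ∃ e, c.InU e ∧ c.cx g₀ = g₀ * e := by
    have h1 := hcomm c.x c.xS
    rw [c.xi, ← c.cx_def] at h1
    refine ⟨_, h1, ?_⟩
    rw [h1.comm hgT, inv_mul_cancel_right]
  have he2 : e * c.cx e = 1 := by
    have h1 : c.cx (c.cx g₀) = g₀ * e * c.cx e := by rw [hce, map_mul, hce]
    rw [c.cx_cx, mul_assoc, eq_comm, mul_eq_left] at h1
    exact h1
  obtain ⟨q, hq, hqc, hqsq⟩ : ∃ q, (q = (g₀ : G) ∨ q = g₀ * c.u) ∧ c.cx q = q ∧ c.InU (q * q) := by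
    rcases (show e = 1 ∨ e = c.z by
      rcases he with rfl | rfl | rfl | rfl
      · exact Or.inl rfl
      · exact Or.inr rfl
      · rw [c.cx_u, ← mul_assoc, c.u2, one_mul] at he2; exact absurd he2 c.z1
      · rw [c.cx_uz, mul_assoc, c.zu, ← mul_assoc, c.u2, one_mul] at he2; exact absurd he2 c.z1) with rfl | rfl
    · exact ⟨_, Or.inl rfl, by rw [hce, mul_one], hsq⟩
    · refine ⟨_, Or.inr rfl, ?_, ?_⟩
      · rw [map_mul, hce, c.cx_u, mul_assoc, ← mul_assoc c.z, c.zu, mul_assoc c.u, c.z2, mul_one]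
      · rw [mul_assoc, ← mul_assoc c.u, ← c.inU_u.comm hgT, mul_assoc, c.u2, mul_one]
        exact hsq
  have hqT : q ∈ c.T := by
    rcases hq with rfl | rfl
    exacts [hgT, c.T.mul_mem hgT c.u_T]
  have hqU : ¬ c.InU q := fun h => hg1 (by
    rcases hq with rfl | rfl
    · exact h
    · have := h.mul c.inU_u
      rwa [mul_assoc, c.u2, mul_one] at this)
  refine ⟨q, hqT, hqc, ?_, fun g hg => ?_⟩
  · rcases hqsq.cx_eq (by rw [map_mul, hqc]) with e1 | e1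
    · rcases c.fixed_one hqT hqc e1 with r | r
      · exact absurd (r ▸ c.inU_one) hqU
      · exact absurd (r ▸ c.inU_z) hqU
    · exact e1
  · rcases hq with rfl | rfl
    · exact hcomm g (c.T_le hg)
    · have hc := c.inU_u.comm hg
      rw [show g * ((g₀ : G) * c.u) * g⁻¹ * ((g₀ : G) * c.u)⁻¹
          = g * (g₀ : G) * (c.u * g⁻¹ * c.u⁻¹) * (g₀ : G)⁻¹ by group,
        show c.u * g⁻¹ * c.u⁻¹ = g⁻¹ by
          rw [← c.inU_u.comm (c.T.inv_mem hg), mul_inv_cancel_right]]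
      exact hcomm g (c.T_le hg)

end Conf

end Cfsg.Agent.Spor.JTwoType.Disc
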