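import Cfsg.Agent.Lib.Spor.JTwoType.Disc.Abel

/-!
# The action of `T` on the abelian subgroup

Modulo the abelian subgroup, `T` is a four-group whose elements act on the abelian subgroup as transvections.
-/

set_option autoImplicit false
set_option linter.unusedSectionVars false
set_option linter.style.haveILetI false

namespace Cfsg.Agent.Spor.JTwoType.Disc

open Subgroup

/-- The sum of two codes of the four-group. -/
def addK : Fin 4 → Fin 4 → Fin 4 := ![![0, 1, 2, 3], ![1, 0, 3, 2], ![2, 3, 0, 1], ![3, 2, 1, 0]]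

/-- The rotation on the codes. -/
def rotK : Fin 4 → Fin 4 := ![0, 2, 3, 1]

/-- The involution on the codes. -/
def swapK : Fin 4 → Fin 4 := ![0, 1, 3, 2]

/-- The possible actions. -/
def okK (a b : Fin 4) : Prop := (a = 0 ∧ b = 0) ∨ (a = 1 ∧ b = 3) ∨ (a = 3 ∧ b = 2) ∨ (a = 2 ∧ b = 1)

instance (a b : Fin 4) : Decidable (okK a b) := inferInstanceAs (Decidable (_ ∨ _ ∨ _ ∨ _))

/-- Adding two pairs of codes. -/
def addP (p p' : Fin 4 × Fin 4) : Fin 4 × Fin 4 := (addK p.1 p'.1, addK p.2 p'.2)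

/-- The rotation on pairs of codes. -/
def rotP (p : Fin 4 × Fin 4) : Fin 4 × Fin 4 := (rotK (addK p.1 p.2), rotK p.1)

/-- The involution on pairs of codes. -/
def swapP (p : Fin 4 × Fin 4) : Fin 4 × Fin 4 := (swapK p.1, swapK (addK p.1 p.2))

/-- The sum over the orbit of the rotation. -/
def orbP (p : Fin 4 × Fin 4) : Fin 4 × Fin 4 := addP p (addP (rotP p) (rotP (rotP p)))

theorem act_table : ∀ p : Fin 4 × Fin 4, okK p.1 p.2 ∨ orbP p = (1, 2) ∨ addP (orbP p) (swapP (orbP p)) = (1, 2) := by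
  decide +kernel

theorem addK_comm : ∀ a b : Fin 4, addK a b = addK b a := by decide

theorem addP_self : ∀ p : Fin 4 × Fin 4, addP p p = (0, 0) := by decide

namespace Conf

variable {G : Type*} [Group G] [Finite G] {c : Conf G} {q r : G}

/-- The element of the four-group with a given code. -/
def code (c : Conf G) : Fin 4 → G := ![1, c.z, c.u, c.u * c.z]

theorem code_inU (i : Fin 4) : c.InU (c.code i) := by
  fin_cases i <;> simp [code, InU]

theorem code_add (i j : Fin 4) : c.code i * c.code j = c.code (addK i j) := by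
  have e1 : c.z * (c.u * c.z) = c.u := by rw [← mul_assoc, c.zu, mul_assoc, c.z2, mul_one]
  have e2 : c.u * (c.u * c.z) = c.z := by rw [← mul_assoc, c.u2, one_mul]
  have e3 : c.u * c.z * c.z = c.u := by rw [mul_assoc, c.z2, mul_one]
  have e4 : c.u * c.z * c.u = c.z := by rw [mul_assoc, c.zu, e2]
  have e5 : c.u * c.z * (c.u * c.z) = 1 := InU.sq (Or.inr (Or.inr (Or.inr rfl)))
  fin_cases i <;> fin_cases j <;> simp [code, addK, c.z2, c.u2, c.zu, e1, e2, e3, e4, e5]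

theorem code_rot (h : c.Rot r) (i : Fin 4) : r * c.code i * r⁻¹ = c.code (rotK i) := by
  fin_cases i <;> simp only [code, rotK]
  · simp
  · simpa using h.cz
  · simpa using h.cu
  · simpa using h.cuz

theorem code_cx (i : Fin 4) : c.cx (c.code i) = c.code (swapK i) := by
  fin_cases i <;> simp only [code, swapK]
  · simp
  · simpa using c.cx_z
  · simpa using c.cx_u
  · simpa using c.cx_uz

/-- The action of an element of `T` on the generators. -/
def Sig (c : Conf G) (q r g : G) (p : Fin 4 × Fin 4) : Prop :=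
  g ∈ c.T ∧ g * q * g⁻¹ = c.code p.1 * q ∧ g * (r * q * r⁻¹) * g⁻¹ = c.code p.2 * (r * q * r⁻¹)

theorem exists_code {a : G} (h : c.InU a) : ∃ i, c.code i = a := by
  rcases h with rfl | rfl | rfl | rfl
  exacts [⟨0, rfl⟩, ⟨1, rfl⟩, ⟨2, rfl⟩, ⟨3, rfl⟩]

theorem Tri.exists_sig (d : c.Tri q r) {g : G} (hg : g ∈ c.T) : ∃ p, c.Sig q r g p := by
  obtain ⟨e, he, hee⟩ := d.cent.lam hg
  obtain ⟨e', he', hee'⟩ := d.cent.lam (d.rot.T_r' hg)
  obtain ⟨i, rfl⟩ := exists_code he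
  obtain ⟨j, rfl⟩ := exists_code he'
  refine ⟨(i, rotK j), hg, hee, ?_⟩
  have := congrArg (fun y => r * y * r⁻¹) hee'
  rw [show r * (r⁻¹ * g * r * q * (r⁻¹ * g * r)⁻¹) * r⁻¹ = g * (r * q * r⁻¹) * g⁻¹ by group,
    show r * (c.code j * q) * r⁻¹ = r * c.code j * r⁻¹ * (r * q * r⁻¹) by group, code_rot d.rot] at this
  exact this

theorem Sig.mul {g h : G} {p p' : Fin 4 × Fin 4} (hg : c.Sig q r g p) (hh : c.Sig q r h p') :
    c.Sig q r (g * h) (addP p p') := by
  have key : ∀ (a b : Fin 4) (y : G), g * y * g⁻¹ = c.code a * y → h * y * h⁻¹ = c.code b * y →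
      g * h * y * (g * h)⁻¹ = c.code (addK a b) * y := fun a b y e1 e2 => by
    rw [show g * h * y * (g * h)⁻¹ = g * (h * y * h⁻¹) * g⁻¹ by group, e2,
      show g * (c.code b * y) * g⁻¹ = g * c.code b * g⁻¹ * (g * y * g⁻¹) by group, (code_inU b).comm hg.1,
      mul_inv_cancel_right, e1, ← mul_assoc, code_add]
    simp only [addK_comm]
  exact ⟨c.T.mul_mem hg.1 hh.1, key _ _ _ hg.2.1 hh.2.1, key _ _ _ hg.2.2 hh.2.2⟩

theorem Sig.second (d : c.Tri q r) {g : G} {p : Fin 4 × Fin 4} (hg : c.Sig q r g p) :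
    g * (r⁻¹ * q * r) * g⁻¹ = c.code (addK p.1 p.2) * (r⁻¹ * q * r) := by
  obtain ⟨hgT, h0, h1⟩ := hg
  set q1 := r * q * r⁻¹
  set q2 := r⁻¹ * q * r
  have e : q2 = q1⁻¹ * (q1 * q2) := (inv_mul_cancel_left _ _).symm
  have h12 : g * (q1 * q2) * g⁻¹ = c.code p.1 * (q1 * q2) := by
    rcases d.prod.2 with k | k <;> rw [k]
    · exact h0
    · calc g * (q * c.z) * g⁻¹ = g * q * (c.z * g⁻¹) := by group
        _ = g * q * g⁻¹ * c.z := by rw [← c.zc _ ((c.S : Subgroup G).inv_mem (c.T_le hgT))]; group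
        _ = _ := by rw [h0, mul_assoc]
  have hc : q1⁻¹ * c.code p.2 = c.code p.2 * q1⁻¹ := (code_inU p.2).comm (c.T.inv_mem d.T1)
  conv_lhs => rw [e]
  rw [show g * (q1⁻¹ * (q1 * q2)) * g⁻¹ = (g * q1 * g⁻¹)⁻¹ * (g * (q1 * q2) * g⁻¹) by group, h1, h12, mul_inv_rev,
    (code_inU p.2).inv, hc, mul_assoc, ← mul_assoc q1⁻¹, (code_inU p.1).comm (c.T.inv_mem d.T1), mul_assoc,
    inv_mul_cancel_left, ← mul_assoc, code_add]
  simp only [addK_comm]

theorem Sig.rot (d : c.Tri q r) {g : G} {p : Fin 4 × Fin 4} (hg : c.Sig q r g p) :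
    c.Sig q r (r * g * r⁻¹) (rotP p) := by
  refine ⟨d.rot.T_r hg.1, ?_, ?_⟩
  · have h := congrArg (fun y => r * y * r⁻¹) (hg.second d)
    rw [show r * (c.code (addK p.1 p.2) * (r⁻¹ * q * r)) * r⁻¹ = r * c.code (addK p.1 p.2) * r⁻¹ * q by group,
      code_rot d.rot] at h
    rw [← show r * (g * (r⁻¹ * q * r) * g⁻¹) * r⁻¹ = r * g * r⁻¹ * q * (r * g * r⁻¹)⁻¹ by group, h]
    rfl
  · have h := congrArg (fun y => r * y * r⁻¹) hg.2.1
    rw [show r * (c.code p.1 * q) * r⁻¹ = r * c.code p.1 * r⁻¹ * (r * q * r⁻¹) by group, code_rot d.rot] at h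
    rw [← show r * (g * q * g⁻¹) * r⁻¹ = r * g * r⁻¹ * (r * q * r⁻¹) * (r * g * r⁻¹)⁻¹ by group, h]
    rfl

theorem Sig.cx (d : c.Tri q r) {g : G} {p : Fin 4 × Fin 4} (hg : c.Sig q r g p) :
    c.Sig q r (c.cx g) (swapP p) := by
  refine ⟨c.cx_T hg.1, ?_, ?_⟩
  · have h := congrArg c.cx hg.2.1
    rwa [map_mul, map_mul, map_inv, map_mul, d.cent.fixed, code_cx] at h
  · have h := congrArg c.cx (hg.second d)
    rwa [map_mul, map_mul c.cx g, map_inv, map_mul c.cx (c.code _), d.cx2, code_cx] at h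

theorem Sig.ne (d : c.Tri q r) {g : G} (hg : c.Sig q r g (1, 2)) : False := by
  refine d.inv_false hg.1 ?_ ?_
  · rw [hg.2.1, d.cent.inv, c.zc q (c.T_le d.cent.mem)]; rfl
  · rw [hg.2.2, d.A1.inv4 d, d.sq1, c.inU_u.comm d.T1]; rfl

theorem Sig.ok (d : c.Tri q r) {g : G} {p : Fin 4 × Fin 4} (hg : c.Sig q r g p) : okK p.1 p.2 := by
  have hN : c.Sig q r (g * (r * g * r⁻¹ * (r * (r * g * r⁻¹) * r⁻¹))) (orbP p) :=
    hg.mul ((hg.rot d).mul ((hg.rot d).rot d))
  rcases act_table p with h | h | h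
  · exact h
  · exact (Sig.ne d (h ▸ hN)).elim
  · exact (Sig.ne d (h ▸ hN.mul (hN.cx d))).elim

theorem Sig.inA (d : c.Tri q r) {g : G} (hg : c.Sig q r g (0, 0)) : InA q r g := by
  refine InC.inA d ⟨hg.1, mul_inv_eq_iff_eq_mul.1 (hg.2.1.trans ?_), mul_inv_eq_iff_eq_mul.1 (hg.2.2.trans ?_)⟩ <;>
    exact one_mul _

theorem Tri.sig_A (d : c.Tri q r) {a : G} (ha : InA q r a) : c.Sig q r a (0, 0) := by
  refine ⟨ha.mem d, ?_, ?_⟩
  · rw [(ha.comm d d.A0).eq, mul_inv_cancel_right]; exact (one_mul q).symm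
  · rw [(ha.comm d d.A1).eq, mul_inv_cancel_right]; exact (one_mul _).symm

theorem code_inj : Function.Injective c.code := by
  intro i j h
  fin_cases i <;> fin_cases j <;>
    first
    | rfl
    | (exfalso; simp [code] at h; simp_all [c.z1, c.u1, c.uz, c.uz1, c.uz_ne_u, c.uz_ne_z, c.z1.symm, c.u1.symm,
        c.uz.symm, c.uz1.symm, c.uz_ne_u.symm, c.uz_ne_z.symm])

theorem Sig.unique {g : G} {p p' : Fin 4 × Fin 4} (h : c.Sig q r g p) (h' : c.Sig q r g p') : p = p' :=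
  Prod.ext (code_inj (mul_right_cancel (h.2.1.symm.trans h'.2.1)))
    (code_inj (mul_right_cancel (h.2.2.symm.trans h'.2.2)))

theorem Sig.isT_ne (d : c.Tri q r) {t : G} (ht : c.IsT t) {p : Fin 4 × Fin 4} (h : c.Sig q r t p) : p ≠ (0, 0) :=
  fun e => ht.2.2 ((Sig.inA d (e ▸ h)).inU_of_sq d ht.2.1)

/-- An involution fixing the second generator's class. -/
theorem Tri.exists_t (d : c.Tri q r) : ∃ t, c.IsT t ∧ c.Sig q r t (3, 2) := by
  obtain ⟨t, ht⟩ := c.exists_isT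
  obtain ⟨⟨a, b⟩, hp⟩ := d.exists_sig ht.1
  have h0 := hp.isT_ne d ht
  rcases hp.ok d with ⟨rfl, rfl⟩ | ⟨rfl, rfl⟩ | ⟨rfl, rfl⟩ | ⟨rfl, rfl⟩
  · exact absurd rfl h0
  · exact ⟨_, d.rot.isT ht, hp.rot d⟩
  · exact ⟨_, ht, hp⟩
  · exact ⟨_, d.rot.isT (d.rot.isT ht), (hp.rot d).rot d⟩

/-- The product of an involution with its image has square `z`. -/
theorem Tri.sq_rot (d : c.Tri q r) {t : G} (ht : c.IsT t) : t * c.cx t * (t * c.cx t) = c.z := by
  set p := t * c.cx t with hp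
  have hpT : p ∈ c.T := c.T.mul_mem ht.1 ht.cx.1
  obtain ⟨⟨a, b⟩, hs⟩ := d.exists_sig hpT
  have hok := hs.ok d
  have hss : addP (a, b) (a, b) = (0, 0) := addP_self _
  have hA : InA q r (p * p) := Sig.inA d (hss ▸ hs.mul hs)
  have hU : c.InU (p * p) := by
    rcases hok with h | h | h | h
    · exact (Sig.inA d (show c.Sig q r p (0, 0) by obtain ⟨rfl, rfl⟩ := h; exact hs)).sq_U d
    all_goals
      obtain ⟨rfl, rfl⟩ := h
      obtain ⟨e, he, h⟩ := hA.four d
      have key : ∀ y i, i ≠ 0 → p * y * p⁻¹ = c.code i * y → p * p ≠ e * y := fun y i hi hy k => hi (code_inj (by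
        have h1 : p * (e * y) * p⁻¹ = e * y := by rw [← k]; group
        rw [show p * (e * y) * p⁻¹ = p * e * p⁻¹ * (p * y * p⁻¹) by group, he.comm hpT, mul_inv_cancel_right, hy,
          mul_right_inj, mul_eq_right] at h1
        exact h1))
      rcases h with h | h | h | h
      · exact h ▸ he
      · exact absurd h (key _ _ (by decide) hs.2.2)
      · exact absurd h (key _ _ (by decide) (hs.second d))
      · exact absurd h (key _ _ (by decide) hs.2.1)
  have hcp : c.cx p = p⁻¹ := by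
    rw [hp, map_mul, c.cx_cx, mul_inv_rev, inv_eq_of_mul_eq_one_right ht.cx.2.1,
      inv_eq_of_mul_eq_one_right ht.2.1]
  refine (hU.cx_eq ?_).resolve_left fun e => ht.noncomm ?_
  · rw [map_mul, hcp, ← mul_inv_rev, hU.inv]
  · have h1 := inv_eq_of_mul_eq_one_right e
    rw [hp, mul_inv_rev, inv_eq_of_mul_eq_one_right ht.cx.2.1, inv_eq_of_mul_eq_one_right ht.2.1] at h1
    exact h1.symm

end Conf

end Cfsg.Agent.Spor.JTwoType.Disc
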